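import Cfsg.Agent.Lib.Sporadic.HNCoset.Count

/-!
# The index of the double cover is at most 1539000 (owner: helper25)
-/

set_option autoImplicit false
set_option maxRecDepth 20000

namespace CfsgLib.Sporadic.HNCoset

open Cfsg CfsgLib.Sporadic CfsgLib.Sporadic.HNGroup

theorem coverGo_sound {i : ℕ} : ∀ {L : List ℕ} {seen out : ℕ}, SeenOK i seen →
    coverGo facts i L seen = some out → SeenOK i out
  | [], seen, out, h, e => by obtain rfl : seen = out := Option.some.inj e; exact h
  | p :: L, seen, out, h, e => by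
    have e' : cond (coverStep facts i p seen)
        (coverGo facts i L (Nat.lor seen (Nat.shiftLeft 1 (Nat.land p 2047)))) none = some out := e
    cases hc : coverStep facts i p seen with
    | false => rw [hc] at e'; simp at e'
    | true =>
      rw [hc, cond_true] at e'
      refine coverGo_sound (fun s hs => ?_) e'
      change Nat.testBit (seen ||| 1 <<< (Nat.land p 2047)) s = true at hs
      rw [Nat.testBit_or, Bool.or_eq_true, Nat.one_shiftLeft, Nat.testBit_two_pow] at hs
      rcases hs with hs | hs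
      · exact h s hs
      · obtain rfl : Nat.land p 2047 = s := by simpa using hs
        exact coverStep_sound h hc

theorem state_res {i : ℕ} (hi : i < 9) {s : ℕ} (hs : s < 1408) : StateRes W i s := by
  have h := forallLt_elim cover_ok hi
  unfold coverOK at h
  cases hg : coverGo facts i (covers.getD i []) 0 with
  | none => rw [hg] at h; simp at h
  | some out =>
    rw [hg] at h
    have hout : out = 2 ^ 1408 - 1 := by
      have := Nat.eq_of_beq_eq_true h
      rw [this, Nat.shiftLeft_eq', Nat.one_shiftLeft]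
      rfl
    refine coverGo_sound (fun s' hs' => ?_) hg s ?_
    · simp at hs'
    · rw [hout, Nat.testBit_two_pow_sub_one]; simpa using hs

theorem resolve_t {i : ℕ} (hi : i < 9) {m : List ℕ} (hm : isN m = true) : Res W i m 1 := by
  obtain ⟨c, b, hc, hb, hev, -⟩ := decomp' hm (c := 0) (by norm_num) (b := []) rfl
  rw [repW_zero, List.nil_append, List.append_nil] at hev
  obtain ⟨h1, h4⟩ := expWord_bound hb
  obtain ⟨k, m', n, hk, hm', hn, h⟩ := state_res hi (s := 4 * c + (1 * expWord b % 5 - 1)) (by omega) c b 1 hc hb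
    (by omega) rfl
  exact ⟨k, m', n, hk, hm', hn, by rw [hev]; exact h⟩

/-- The element is in one of the nine double cosets. -/
def InU (g : Spor.HN) : Prop :=
  ∃ k m n, k < 9 ∧ isN m = true ∧ isN n = true ∧ g = ev n * ev (W k) * ev m

theorem inU_small {g : Spor.HN} (h : InU g) {x : ℕ} (hx : x < 6) : InU (g * gl x) := by
  obtain ⟨k, m, n, hk, hm, hn, rfl⟩ := h
  refine ⟨k, m ++ [x], n, hk, by rw [isN_append, hm]; simpa [isN] using hx, hn, ?_⟩
  simp [mul_assoc]

theorem inU_T {g : Spor.HN} (h : InU g) : InU (g * T) := by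
  obtain ⟨k, m, n, hk, hm, hn, rfl⟩ := h
  obtain ⟨k', m', n', hk', hm', hn', h'⟩ := resolve_t hk hm
  refine ⟨k', m', n ++ n', hk', hm', by rw [isN_append, hn, hn']; rfl, ?_⟩
  rw [pow_one] at h'
  calc ev n * ev (W k) * ev m * T = ev n * (ev (W k) * ev m * T) := by group
    _ = _ := by rw [h']; simp [mul_assoc]

theorem inU_all (g : Spor.HN) : InU g := by
  have h1 : InU 1 := ⟨0, [], [], by norm_num, rfl, rfl, by simp [W_zero]⟩
  have hT4 : ∀ g, InU g → InU (g * T⁻¹) := fun g h => by
    have e : T⁻¹ = T ^ 4 := (eq_inv_of_mul_eq_one_left (by rw [← pow_succ, rel_t_five])).symm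
    rw [e, show T ^ 4 = T * T * T * T by simp [pow_succ]]
    simpa [mul_assoc] using inU_T (inU_T (inU_T (inU_T h)))
  have hg : g ∈ Subgroup.closure (Set.range (PresentedGroup.of (rels := Spor.coxRelators Spor.HN.edges ∪
      {r | r ∈ Spor.HN.extra}))) := by rw [PresentedGroup.closure_range_of]; trivial
  suffices h : InU (1 * g) by simpa using h
  refine Subgroup.closure_induction_right (p := fun y _ => InU (1 * y)) (by simpa using h1) ?_ ?_ hg
  · rintro y _ _ ⟨i, rfl⟩ hy
    rw [← mul_assoc]
    cases i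
    · rw [← toHN_x, ← gl_small (by norm_num)]; exact inU_small hy (by norm_num)
    · rw [← toHN_y, ← gl_small (by norm_num)]; exact inU_small hy (by norm_num)
    · rw [← toHN_z, ← gl_small (by norm_num)]; exact inU_small hy (by norm_num)
    · exact inU_T hy
  · rintro y _ _ ⟨i, rfl⟩ hy
    rw [← mul_assoc]
    cases i
    · rw [← toHN_x, ← map_inv, ← L_flp, ← gl_small (by decide)]; exact inU_small hy (by decide)
    · rw [← toHN_y, ← map_inv, ← L_flp, ← gl_small (by decide)]; exact inU_small hy (by decide)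
    · rw [← toHN_z, ← map_inv, ← L_flp, ← gl_small (by decide)]; exact inU_small hy (by decide)
    · exact hT4 _ hy

/-- The double cover inside the group. -/
abbrev N0 : Subgroup Spor.HN := toHN.range

theorem ev_mem {w : List ℕ} (h : isN w = true) : ev w ∈ N0 := ⟨_, (ev_of_isN h).symm⟩

/-- The point of a representative. -/
noncomputable def pt (k : ℕ) : Spor.HN ⧸ N0 := (((ev (W k))⁻¹ : Spor.HN) : Spor.HN ⧸ N0)

/-- The stabiliser of the point inside the double cover. -/
noncomputable def stabP (k : ℕ) : Subgroup P0 :=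
  (MulAction.stabilizer Spor.HN (pt k)).comap toHN

/-- The map from the cosets of the stabiliser. -/
noncomputable def toPt (k : ℕ) : P0 ⧸ stabP k → Spor.HN ⧸ N0 :=
  Quotient.lift (fun p => toHN p • pt k) fun a b hab => by
    have h : a⁻¹ * b ∈ stabP k := QuotientGroup.leftRel_apply.1 hab
    have h' : toHN (a⁻¹ * b) • pt k = pt k := h
    calc toHN a • pt k = toHN a • (toHN (a⁻¹ * b) • pt k) := by rw [h']
      _ = toHN b • pt k := by rw [smul_smul, ← map_mul, mul_inv_cancel_left]

theorem stabWord_mem {k : ℕ} {h : List (ℕ × Bool)} (hN : isN (stabWord k h) = true) :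
    ((stabWord k h).map L).prod ∈ stabP k := by
  unfold stabWord at hN ⊢
  cases hh : hPair facts facts.length k h with
  | none => rw [hh] at hN; simp [isN] at hN
  | some r =>
    obtain ⟨h1, h2, h3⟩ := hPair_sound holds_all hh
    show toHN (r.1.map L).prod • pt k = pt k
    rw [← ev_of_isN h1, pt, MulAction.Quotient.smul_coe, smul_eq_mul, QuotientGroup.eq]
    have e : (ev r.1 * (ev (W k))⁻¹)⁻¹ * (ev (W k))⁻¹ = (ev r.2)⁻¹ := by
      rw [mul_inv_rev, inv_inv]
      rw [show ev (W k) * (ev r.1)⁻¹ * (ev (W k))⁻¹ = (ev (W k) * ev r.1 * (ev (W k))⁻¹)⁻¹ by group, h3]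
      group
    rw [e]
    exact inv_mem (ev_mem h2)

theorem stabP_index {k : ℕ} (hk : k < 9) : (stabP k).index ≤ 177408000 / stabOrders.getD k 0 := by
  rcases Nat.eq_zero_or_pos k with rfl | hpos
  · have : stabP 0 = ⊤ := by
      rw [eq_top_iff]
      intro p _
      show toHN p • pt 0 = pt 0
      rw [pt, W_zero, ev_nil, inv_one, MulAction.Quotient.smul_coe, smul_eq_mul, mul_one, QuotientGroup.eq]
      exact mul_mem (inv_mem ⟨p, rfl⟩) (one_mem _)
    rw [this, Subgroup.index_top]
    decide
  obtain ⟨k, rfl⟩ : ∃ k', k = k' + 1 := ⟨k - 1, by omega⟩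
  have h := forallLt_elim stab_ok (show k < 8 by omega)
  simp only [stabOK, Bool.and_eq_true, List.all_eq_true, Nat.beq_eq] at h
  obtain ⟨hok, hlt, hprod⟩ := h
  have hle := orbitProd_le (stabP (k + 1)) hok (fun w hw => isN_iff.1 (hlt w hw)) fun w hw => by
    obtain ⟨l, hl, hw'⟩ : ∃ l ∈ stabLvls (k + 1), w ∈ l.gens := by
      revert hw
      generalize stabLvls (k + 1) = ls
      intro hw
      induction ls with
      | nil => simp [gensOf] at hw
      | cons l ls ih =>
        rcases List.mem_append.1 hw with hw | hw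
        · exact ⟨l, List.mem_cons_self, hw⟩
        · obtain ⟨l', hl', h'⟩ := ih hw
          exact ⟨l', List.mem_cons_of_mem _ hl', h'⟩
    simp only [stabLvls, List.mem_map] at hl
    obtain ⟨d, -, rfl⟩ := hl
    obtain ⟨h', -, rfl⟩ := List.mem_map.1 hw'
    exact stabWord_mem (hlt _ hw)
  rw [hprod] at hle
  have hpos' : 0 < Nat.card (stabP (k + 1) ⊓ fixBases (stabLvls (k + 1)) : Subgroup P0) := Nat.card_pos
  have h2 : stabOrders.getD (k + 1) 0 ≤ Nat.card (stabP (k + 1)) :=
    le_trans (Nat.le_mul_of_pos_right _ hpos') hle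
  have h0 : 0 < stabOrders.getD (k + 1) 0 := by
    have := List.all_eq_true.1 order_sum.2 (k + 1) (List.mem_range.2 hk)
    simpa using this
  rw [Nat.le_div_iff_mul_le h0]
  calc (stabP (k + 1)).index * stabOrders.getD (k + 1) 0
      ≤ (stabP (k + 1)).index * Nat.card (stabP (k + 1)) := Nat.mul_le_mul_left _ h2
    _ = Nat.card P0 := Subgroup.index_mul_card _
    _ ≤ 177408000 := card_P0_le

theorem toPt_surjective :
    Function.Surjective (fun x : Σ k : Fin 9, P0 ⧸ stabP k => toPt x.1 x.2) := by
  intro q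
  obtain ⟨g, rfl⟩ := QuotientGroup.mk_surjective q
  obtain ⟨k, m, n, hk, hm, hn, hg⟩ := inU_all g⁻¹
  refine ⟨⟨⟨k, hk⟩, ((m.map L).prod⁻¹ : P0)⟩, ?_⟩
  show toHN ((m.map L).prod⁻¹) • pt k = (g : Spor.HN ⧸ N0)
  rw [map_inv, ← ev_of_isN hm, pt, MulAction.Quotient.smul_coe, smul_eq_mul, QuotientGroup.eq,
    show g = (g⁻¹)⁻¹ from (inv_inv g).symm, hg]
  have : ((ev m)⁻¹ * (ev (W k))⁻¹)⁻¹ * (ev n * ev (W k) * ev m)⁻¹ = (ev n)⁻¹ := by group
  rw [this]
  exact inv_mem (ev_mem hn)

instance finite_cosets : Finite (Spor.HN ⧸ N0) := Finite.of_surjective _ toPt_surjective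

theorem index_le : N0.index ≤ 1539000 := by
  calc N0.index = Nat.card (Spor.HN ⧸ N0) := rfl
    _ ≤ Nat.card (Σ k : Fin 9, P0 ⧸ stabP k) := Nat.card_le_card_of_surjective _ toPt_surjective
    _ = ∑ k : Fin 9, (stabP k).index := by rw [Nat.card_sigma]; rfl
    _ ≤ ∑ k : Fin 9, 177408000 / stabOrders.getD k 0 := Finset.sum_le_sum fun k _ => stabP_index k.isLt
    _ = 1539000 := by rw [← List.sum_ofFn]; decide +kernel

instance finite_hn : Finite Spor.HN := by
  have hN : Finite N0 := Finite.of_surjective _ toHN.rangeRestrict_surjective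
  exact Finite.of_equiv _ (Subgroup.groupEquivQuotientProdSubgroup (s := N0)).symm

theorem card_le : Nat.card Spor.HN ≤ 273030912000000 := by
  have h : Nat.card N0 ≤ 177408000 :=
    (Nat.card_le_card_of_surjective _ toHN.rangeRestrict_surjective).trans card_P0_le
  rw [← N0.index_mul_card]
  exact (Nat.mul_le_mul index_le h).trans (by norm_num)

end CfsgLib.Sporadic.HNCoset
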