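import Cfsg.Agent.Lib.Sporadic.HNCoset.Chain

set_option autoImplicit false
set_option maxRecDepth 20000
set_option Elab.async false

/-! Base states of the presented double cover (owner: helper25). -/

namespace CfsgLib.Sporadic.HNCoset

/-- levels for the six base states -/
def baseLvls : List Lvl := [
  ⟨0, [[4, 2],
      [0, 0],
      [0, 0, 0]],
    [(0,0), (1,0), (2,0), (0,1), (1,1), (2,1), (3,1), (4,1), (2,2), (0,3), (0,4), (1,4), (2,4), (3,4), (4,4), (5,4), (6,4), (7,4), (8,4), (9,4), (3,5), (4,5), (0,6), (3,6), (4,6), (0,7), (2,7), (3,7), (4,7), (5,7), (6,7), (7,7), (8,7), (9,7), (0,8), (2,8), (3,8), (4,8), (6,8), (7,8), (8,8), (9,8), (0,10), (3,10), (4,10), (0,11), (1,11), (2,11), (3,11), (4,11), (5,11), (6,11), (7,11), (9,11), (10,11), (2,12), (3,12), (4,12), (5,12), (6,12), (7,12), (8,12),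 (9,12), (0,13), (3,13), (4,13), (5,13), (6,13), (7,13), (8,13), (9,13), (0,14), (2,14), (3,14), (4,14), (5,14), (6,14), (7,14), (9,14), (10,14), (0,15), (2,15), (3,15), (4,15), (5,15), (6,15), (7,15), (8,15), (0,16), (2,16), (3,16), (4,16), (5,16), (6,16), (7,16), (8,16), (9,16), (10,16), (0,17), (2,17), (3,17), (4,17), (5,17), (9,17), (10,17), (0,18), (2,18), (3,18), (4,18), (6,18), (9,18), (4,19), (6,19), (0,20), (6,20), (0,21), (2,21), (3,21), (4,21), (5,21), (6,21), (7,21), (8,21), (9,21), (0,22), (2,22), (3,22), (4,22), (6,22), (7,22), (8,22), (9,22), (0,23), (2,23), (3,23), (4,23), (5,23), (7,23), (8,23), (9,23), (0,24), (2,24), (4,24), (5,24), (7,24), (8,24), (9,24), (0,25), (3,25), (4,25), (6,25), (7,25), (8,25), (9,25), (0,26), (2,26), (3,26), (4,26), (6,26), (7,26), (10,26), (0,27), (3,27),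 (4,27), (6,27), (7,27), (8,27), (0,28), (3,28), (6,28), (10,28), (2,29), (4,29), (5,29), (2,30), (3,30), (4,30), (6,30), (7,30), (8,30), (9,30), (10,30), (2,31), (3,31), (4,31), (5,31), (9,31), (2,32), (9,32), (0,34), (6,34), (2,35), (4,35), (5,35), (10,35), (0,36), (6,36), (2,37), (4,37), (0,38), (3,38), (6,38), (9,38), (10,38), (0,39), (2,39), (9,40), (6,41), (0,42), (2,42), (5,42), (0,43), (2,43), (3,43), (4,43), (5,43), (6,43), (8,43), (9,43), (0,44), (4,44), (5,44), (6,44), (7,44), (8,44), (9,44), (0,45), (3,45), (4,45), (6,45), (7,45), (8,45), (9,45), (0,46), (1,46), (2,46), (3,46), (4,46), (5,46), (6,46), (7,46), (8,46), (9,46), (10,46), (2,47), (3,47), (4,47), (5,47), (6,47), (7,47), (9,47), (10,47), (0,48), (3,48), (4,48), (5,48), (6,48), (7,48), (8,48), (9,48), (0,49), (2,49), (3,49),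 (4,49), (5,49), (6,49), (7,49), (8,49), (9,49), (10,49), (0,50), (2,50), (3,50), (4,50), (6,50), (7,50), (8,50), (10,50), (4,51), (5,51), (6,51), (7,51), (9,51), (10,51), (0,52), (2,52), (3,52), (4,52), (5,52), (6,52), (7,52), (8,52), (9,52), (10,52), (0,53), (2,53), (3,53), (4,53), (5,53), (6,53), (7,53), (8,53), (9,53), (0,54), (2,54), (3,54), (4,54), (5,54), (6,54), (7,54), (8,54), (9,54), (10,54), (0,55), (3,55), (4,55), (6,55), (7,55), (4,56), (7,56), (8,56), (9,56), (0,57), (2,57), (3,57), (4,57), (5,57), (6,57), (7,57), (9,57), (10,57), (0,58), (2,58), (3,58), (5,58), (6,58), (7,58), (8,58), (0,59), (2,59), (3,59), (5,59), (6,59), (8,59), (9,59), (10,59), (0,60), (2,60), (3,60), (4,60), (5,60), (9,60), (10,60), (0,61), (2,61), (3,61), (4,61), (6,61), (9,61), (4,62), (6,62), (0,63), (6,63),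 (0,64), (2,64), (3,64), (0,65), (4,65), (5,65), (6,65), (10,65), (0,66), (3,66), (4,66), (5,66), (6,66), (7,66), (8,66), (0,67), (3,67), (4,67), (5,67), (9,67), (0,68), (3,68), (4,68), (10,68), (2,69), (4,69), (7,69), (8,69), (4,70), (4,71), (6,71), (0,72), (2,72), (3,72), (4,72), (6,72), (7,72), (8,72), (9,72), (10,72), (0,73), (3,73), (4,73), (5,73), (6,73), (7,73), (8,73), (9,73), (0,74), (3,74), (4,74), (6,74), (7,74), (8,74), (9,74), (10,74), (2,75), (4,75), (7,75), (9,75), (4,76), (7,76), (9,76), (10,76), (2,77), (3,77), (4,77), (5,77), (6,77), (7,77), (8,77), (9,77), (10,77), (0,78), (2,78), (3,78), (5,78), (6,78), (7,78), (8,78), (9,78), (0,79), (2,79), (3,79), (5,79), (6,79), (7,79), (8,79), (0,80), (3,80), (4,80), (6,80), (7,80), (2,81), (3,81), (4,81), (5,81), (6,81), (7,81), (8,81),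 (0,82), (3,82), (4,82), (6,82), (7,82), (8,82), (9,82), (0,83), (2,83), (3,83), (4,83), (5,83), (6,83), (8,83), (0,84), (2,84), (3,84), (2,85), (5,85), (9,85), (0,86), (2,86), (3,86), (6,86), (7,86), (9,86), (10,86), (0,87), (2,87), (3,87), (4,87), (5,87), (9,87), (4,88), (5,88), (6,88), (0,89), (2,89), (3,89), (4,89), (7,89), (8,89), (9,89), (10,89), (0,90), (3,90), (4,90), (5,90), (7,90), (8,90), (9,90), (0,91), (2,91), (3,91), (7,91), (8,91), (10,91), (0,92), (2,92), (4,92), (6,92), (7,92), (8,92), (0,93), (3,93), (5,93), (7,93), (0,94), (3,94), (4,94), (5,94), (10,94), (0,95), (3,95), (4,96), (10,96), (0,97), (3,97), (4,97), (0,98), (3,98), (5,98), (0,99), (2,99), (3,99), (4,99), (5,99), (6,99), (7,99), (8,99), (9,99), (3,100), (4,100), (5,100), (9,100), (0,101), (3,101), (6,101), (7,101), (8,101),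 (9,101), (2,102), (4,102), (7,102), (9,102), (5,103), (0,104), (3,104), (0,105), (3,105), (2,106), (4,106), (5,106), (6,106), (8,106), (9,106), (0,107), (3,107), (4,107), (2,108), (4,108), (5,108), (6,108), (8,108), (9,108), (0,109), (2,109), (3,109), (4,109), (5,109), (7,109), (8,109), (10,109), (6,110), (0,111), (2,111), (3,111), (4,111), (0,112), (3,112), (4,112), (5,112), (7,112), (9,112), (4,113), (0,114), (2,114), (3,114), (5,114), (7,114), (9,114), (4,115), (0,116), (3,116), (7,116), (10,116), (0,117), (3,117), (4,117), (6,117), (7,117), (8,117), (3,118), (6,118), (2,119), (4,119), (2,120), (3,120), (4,120), (6,120), (7,120), (8,120), (10,120), (2,121), (3,121), (4,121), (5,121), (9,121), (9,122), (0,124), (6,124), (2,125), (4,125), (10,125), (6,126), (2,127), (4,127), (0,128), (3,128), (6,128),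 (9,128), (10,128), (0,129), (2,129), (9,130), (6,131), (0,132), (2,132), (5,132), (0,133), (3,133), (4,133), (5,133), (6,133), (7,133), (9,133), (4,134), (0,135), (3,135), (4,135), (5,135), (6,135), (7,135), (0,136), (3,136), (5,136), (6,136), (7,136), (8,136), (0,137), (3,137), (5,137), (6,137), (7,137), (9,137), (0,138), (3,138), (4,138), (9,138), (4,139), (0,140), (0,141), (3,141), (4,141), (6,141), (7,141), (0,142), (3,144), (4,144), (6,144), (7,144), (9,144), (9,145), (0,147), (6,147), (4,148), (5,148), (10,148), (4,149), (0,150), (3,150), (10,150), (0,151), (5,154), (2,155), (3,155), (4,155), (5,155), (6,155), (8,155), (9,155), (10,155), (0,156), (6,156), (8,156), (2,157), (4,157), (5,157), (6,157), (8,157), (2,159), (0,160), (3,160), (0,161), (3,161), (4,161), (2,162), (4,162), (10,162),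 (0,163), (10,163), (0,164), (3,164), (6,164), (0,166), (2,166), (3,166), (0,168), (2,168), (6,169), (4,170), (10,173), (9,175), (7,176), (0,177), (3,177), (3,178), (0,185), (2,190), (0,192), (3,192), (9,192), (2,193), (7,193), (8,193), (10,193), (4,194), (0,196), (3,196), (4,196), (0,198), (9,198), (0,200), (3,200), (4,200), (6,200), (0,204), (0,205), (3,205), (4,205), (0,206), (0,210), (0,212), (3,212), (4,212), (5,212), (6,212), (7,212), (4,213), (7,213), (0,214), (3,214), (4,214), (5,214), (6,214), (7,214), (9,214), (0,215), (3,215), (5,215), (6,215), (7,215), (8,215), (0,216), (3,216), (5,216), (0,217), (4,217), (4,218), (6,218), (0,219), (0,220), (3,220), (3,222), (6,222), (7,222), (9,222), (3,223), (9,224), (0,226), (6,226), (2,227), (4,227), (4,228), (10,229), (0,230), (4,234), (2,235), (5,235),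 (6,235), (7,235), (9,235), (0,236), (3,236), (5,236), (8,236), (9,236), (10,236), (0,237), (0,238), (0,239), (2,239), (3,239), (8,239), (9,239), (0,240), (2,240), (4,240), (5,240), (10,240), (2,241), (7,241), (5,242), (7,242), (7,243), (8,243), (9,243), (0,245), (3,245), (4,245), (6,245), (7,245), (8,245), (9,245), (0,246), (2,246), (3,246), (5,246), (6,246), (7,246), (8,246), (9,246), (10,246), (0,247), (2,247), (3,247), (4,247), (6,247), (7,247), (8,247), (10,247), (5,248), (6,248), (7,248), (9,248), (10,248), (2,249), (5,249), (6,249), (7,249), (8,249), (9,249), (10,249), (3,250), (4,250), (5,250), (7,250), (8,250), (9,250), (3,251), (4,251), (6,251), (7,251), (9,251), (10,251), (0,252), (3,252), (4,252), (6,252), (7,253), (8,253), (9,253), (4,254), (5,254), (6,254), (7,254), (8,254), (9,254),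 (10,254), (4,255), (5,255), (8,255), (9,255), (10,255), (6,256), (9,256), (6,257), (7,257), (9,257), (10,257), (0,258), (3,258), (6,258), (8,258), (4,259), (6,259), (7,259), (9,259), (3,260), (5,260), (7,260), (10,260), (2,261), (4,261), (5,261), (6,261), (8,261), (9,261), (10,261), (0,262), (3,262), (5,262), (0,263), (3,263), (4,263), (5,263), (6,263), (8,263), (10,263), (0,264), (3,264), (4,264), (9,264), (0,265), (2,265), (3,265), (2,266), (5,266), (2,267), (3,267), (7,267), (5,268), (0,269), (3,269), (5,269), (6,269), (7,269), (9,269), (4,270), (5,270), (7,270), (3,271), (4,271), (7,271), (9,271), (10,271), (0,272), (6,272), (5,273), (6,273), (10,273), (2,274), (5,274), (6,274), (3,275), (4,275), (6,275), (8,275), (9,275), (2,276), (4,276), (5,276), (6,276), (10,276), (5,277), (6,277), (10,277),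 (0,278), (4,278), (5,278), (6,278), (7,278), (4,279), (8,279), (9,279), (10,279), (0,280), (3,280), (4,280), (7,280), (9,280), (4,281), (5,281), (6,281), (8,281), (2,282), (4,282), (6,282), (7,282), (8,282), (0,283), (7,283), (3,284), (7,284), (4,285), (6,285), (9,285), (10,285), (9,286), (0,287), (6,287), (10,287), (4,288), (6,288), (10,288), (2,290), (4,290), (5,290), (7,290), (2,291), (3,291), (5,291), (7,292), (0,293), (3,293), (8,293), (2,295), (4,295), (6,295), (6,297), (0,298), (3,298), (4,298), (7,298), (8,298), (9,298), (2,299), (6,299), (8,299), (9,299), (10,299), (5,300), (7,300), (0,301), (6,301), (8,301), (4,302), (9,302), (0,303), (5,303), (6,303), (7,303), (9,303), (10,303), (2,304), (3,304), (4,304), (5,304), (10,304), (0,305), (7,305), (2,306), (3,306), (5,306), (6,306), (10,306),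 (0,307), (8,307), (5,308), (6,308), (4,309), (5,309), (6,309), (2,310), (8,310), (9,310), (4,312), (0,313), (6,313), (4,314), (8,314), (9,315), (0,316), (6,316), (9,316), (10,316), (0,317), (3,317), (6,317), (4,318), (5,319), (6,319), (8,319), (8,320), (4,321), (6,323), (0,324), (5,324), (8,324), (9,324), (3,325), (4,325), (6,325), (2,326), (7,326), (4,327), (7,327), (3,328), (9,328), (2,329), (3,329), (5,329), (8,329), (9,329), (6,331), (6,332), (0,333), (3,333), (8,333), (4,334), (5,334), (9,335), (2,336), (9,336), (2,337), (5,338), (6,338), (9,339), (3,340), (4,340), (7,340), (2,341), (8,341), (3,342), (7,342), (0,345), (3,345), (4,345), (0,346), (3,346), (0,347), (8,347), (4,348), (8,349), (3,353), (2,354), (4,354), (8,354), (0,355), (3,355), (4,355), (2,356), (4,356), (8,356), (9,356), (0,357),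 (2,357), (3,357), (10,357), (0,359), (3,359), (3,360), (4,360), (4,361), (4,364), (2,366), (9,367), (0,370), (3,370), (5,374), (6,374), (5,375), (10,375), (2,376), (4,376), (6,376), (4,377), (6,377), (9,377), (10,377), (6,379), (8,379), (6,380), (8,380), (5,381), (7,381), (8,381), (9,381), (10,381), (0,382), (3,382), (4,382), (7,384), (0,385), (4,385), (6,385), (7,386), (9,386), (0,387), (4,388), (3,389), (5,389), (10,389), (4,390), (4,391), (5,392), (6,393), (0,394), (4,394), (7,395), (8,395), (5,396), (8,396), (2,397), (7,397), (8,398), (10,398), (0,399), (2,399), (6,399), (7,400), (9,401), (3,402), (10,402), (0,404), (4,404), (7,404), (8,404), (5,405), (7,405), (8,405), (6,406), (4,407), (6,407), (0,408), (9,408), (8,409), (0,411), (3,411), (0,412), (4,412), (10,412), (10,413), (6,418), (2,425),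 (10,425), (7,426), (9,426), (3,428), (9,428), (2,429), (2,435), (4,435), (3,440), (10,440), (0,441), (5,441), (8,442), (6,444), (7,444), (10,444), (0,445), (8,445), (7,446), (9,446), (8,447), (5,452), (5,453), (2,454), (2,455), (6,455), (8,456), (4,461), (6,464), (7,464), (4,465), (4,466), (0,467), (4,468), (5,468), (0,470), (3,470), (0,481), (4,484), (0,485), (0,487), (0,488), (0,492), (3,492), (10,502), (5,503), (4,505), (2,506), (4,507), (10,508), (3,510), (4,510), (5,510), (4,511), (3,514), (8,516), (0,517), (10,521), (4,522), (2,523), (3,531), (2,532), (2,533), (2,540), (3,540), (4,540), (2,542), (0,546), (8,547), (6,548), (8,548), (3,549), (0,551), (0,552), (2,552), (4,552), (0,555), (6,555), (7,556), (0,564), (3,570), (7,572), (5,575), (2,576), (4,581), (5,581), (8,583), (3,590), (8,590),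 (9,590), (2,594), (4,599), (2,603), (5,605), (8,610), (0,612), (3,612), (2,616), (4,616), (10,629), (9,630), (3,632), (0,645), (3,651), (7,663), (7,665), (5,667), (10,667), (5,668), (9,668), (9,671), (0,688), (6,690), (0,691), (4,691), (0,693), (9,694), (0,716), (6,718), (8,718), (0,724), (4,724), (4,725), (10,766), (3,776), (7,790), (10,870), (9,923), (7,948)]⟩,
  ⟨4, [[1, 1, 1, 1, 2],
      [0, 0, 1, 2, 2, 0, 0, 0]],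
    [(0,0), (1,0), (0,1), (1,1), (2,1), (3,1), (4,1), (5,1), (6,1), (0,2), (1,2), (3,2), (4,2), (5,2), (6,2), (0,3), (3,3), (7,3), (1,4), (2,4), (0,5), (1,5), (3,5), (4,5), (5,5), (6,5), (7,5), (0,6), (1,6), (2,6), (6,6), (6,7), (3,9), (1,10), (0,11), (3,11), (6,11), (7,11), (6,13), (3,14), (2,15), (3,16), (1,17), (3,19), (7,19), (4,21), (0,22), (0,23), (3,35)]⟩,
  ⟨8, [[3, 0, 0, 0, 0, 3, 0, 0, 0, 0, 3, 0, 0, 0, 0, 3, 0, 0, 0, 0, 1, 1, 0, 0, 1, 2, 2, 0, 0, 0, 0, 0, 0, 0, 1, 2, 2, 1, 2, 2],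
      [3, 0, 0, 0, 0, 3, 0, 0, 0, 0, 1, 1, 1, 3, 3, 0, 1, 1, 3, 5, 1, 1, 5, 0, 1, 2, 2, 0, 0, 0, 0, 1, 2, 2, 1, 2, 2]],
    [(0,0), (1,0), (0,1), (1,1), (2,1), (3,1), (4,1), (1,2), (2,2), (3,2), (5,2), (0,3), (2,3), (3,3), (4,3), (5,3), (1,4), (3,4), (4,4), (5,4), (0,5), (2,5), (3,5), (0,7), (1,7), (0,8), (2,8), (1,9), (4,9), (5,9), (1,10), (4,10), (3,12), (5,12), (1,13), (4,14), (2,15), (3,15), (5,15), (3,19), (1,23)]⟩,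
  ⟨12, [[3, 3, 0, 3, 3, 0, 1, 1, 1, 1, 1, 1, 1, 3, 3, 0, 1, 1, 0, 0, 1, 1, 1, 1, 2, 1, 1, 1, 1, 2, 1, 1, 1, 1, 2, 1, 1, 1, 1, 2, 3, 3, 0, 3, 3, 0, 1, 1, 1, 1, 3, 3, 0, 1, 4, 0, 0, 4, 2, 0, 0, 1, 2, 2, 0, 0, 0, 1, 1, 1, 1, 2, 1, 1, 1, 1, 2, 3, 3, 0, 3, 3, 0, 1, 1, 1, 1, 3, 3, 0, 1, 4, 0, 0, 4, 2, 0, 0, 1, 2, 2, 0, 0, 0, 1, 1, 1, 1, 2, 1, 1, 1, 1, 2, 3, 0, 0, 0, 0, 3, 0, 0, 0, 0, 1, 1, 0, 0, 0, 0, 1, 2, 2, 1, 2, 2, 0, 0, 1, 2, 2, 0, 0, 0, 0, 0, 0, 0, 1, 2, 2, 1, 2, 2, 0, 0, 0, 0, 1, 2, 2, 1, 2, 2]],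
    [(0,0), (0,1), (1,1), (2,1)]⟩,
  ⟨16, [[3, 3, 0, 3, 3, 0, 1, 1, 1, 1, 3, 3, 0, 3, 3, 0, 1, 1, 1, 1, 1, 1, 1, 3, 3, 0, 1, 1, 3, 3, 0, 3, 3, 0, 1, 1, 1, 1, 0, 0, 1, 1, 1, 1, 2, 1, 1, 1, 1, 2, 3, 0, 0, 0, 0, 3, 0, 0, 0, 0, 1, 1, 1, 3, 3, 0, 1, 1, 3, 5, 1, 1, 5, 0, 1, 2, 2, 0, 0, 0, 0, 1, 2, 2, 1, 2, 2, 3, 0, 0, 0, 0, 3, 0, 0, 0, 0, 1, 1, 1, 3, 3, 0, 1, 1, 3, 5, 1, 1, 5, 0, 1, 2, 2, 0, 0, 0, 0, 1, 2, 2, 1, 2, 2, 3, 0, 0, 0, 0, 3, 0, 0, 0, 0, 3, 0, 0, 0, 0, 3, 0, 0, 0, 0, 1, 1, 0, 0, 1, 2, 2, 0, 0, 0, 0, 0, 0, 0, 1, 2, 2, 1, 2, 2, 3, 3, 0, 3, 3, 0, 1, 1, 1, 1, 3, 3, 0, 3, 3, 0, 1, 1, 1, 1, 1, 1, 1, 3, 3, 0, 1, 1, 3, 3, 0, 3, 3, 0, 1, 1, 1, 1, 0, 0, 1, 1, 1, 1, 2, 1, 1, 1, 1, 2, 3, 0, 0, 0, 0, 3, 0, 0, 0, 0, 1, 1, 1, 3, 3, 0, 1, 1, 3, 5, 1, 1, 5, 0, 1, 2, 2, 0, 0, 0, 0, 1, 2, 2, 1, 2, 2, 3, 0, 0,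 0, 0, 3, 0, 0, 0, 0, 1, 1, 1, 3, 3, 0, 1, 1, 3, 5, 1, 1, 5, 0, 1, 2, 2, 0, 0, 0, 0, 1, 2, 2, 1, 2, 2, 3, 0, 0, 0, 0, 3, 0, 0, 0, 0, 3, 0, 0, 0, 0, 3, 0, 0, 0, 0, 1, 1, 0, 0, 1, 2, 2, 0, 0, 0, 0, 0, 0, 0, 1, 2, 2, 1, 2, 2, 3, 3, 0, 3, 3, 0, 1, 1, 1, 1, 3, 3, 0, 3, 3, 0, 1, 1, 1, 1, 1, 1, 1, 3, 3, 0, 1, 1, 3, 3, 0, 3, 3, 0, 1, 1, 1, 1, 0, 0, 1, 1, 1, 1, 2, 1, 1, 1, 1, 2, 3, 0, 0, 0, 0, 3, 0, 0, 0, 0, 1, 1, 1, 3, 3, 0, 1, 1, 3, 5, 1, 1, 5, 0, 1, 2, 2, 0, 0, 0, 0, 1, 2, 2, 1, 2, 2, 3, 0, 0, 0, 0, 3, 0, 0, 0, 0, 1, 1, 1, 3, 3, 0, 1, 1, 3, 5, 1, 1, 5, 0, 1, 2, 2, 0, 0, 0, 0, 1, 2, 2, 1, 2, 2, 3, 0, 0, 0, 0, 3, 0, 0, 0, 0, 3, 0, 0, 0, 0, 3, 0, 0, 0, 0, 1, 1, 0, 0, 1, 2, 2, 0, 0, 0, 0, 0, 0, 0, 1, 2, 2, 1, 2, 2, 3, 3, 0, 3, 3, 0, 1, 1, 1, 1, 3, 3, 0, 1, 4, 0, 0, 4, 2, 0, 0, 1, 2, 2, 0, 0, 0, 1, 1, 1, 1,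 2, 1, 1, 1, 1, 2, 3, 3, 0, 3, 3, 0, 1, 1, 1, 1, 3, 3, 0, 3, 3, 0, 1, 1, 1, 1, 1, 1, 1, 3, 3, 0, 1, 1, 3, 3, 0, 3, 3, 0, 1, 1, 1, 1, 0, 0, 1, 1, 1, 1, 2, 1, 1, 1, 1, 2, 3, 0, 0, 0, 0, 3, 0, 0, 0, 0, 1, 1, 1, 3, 3, 0, 1, 1, 3, 5, 1, 1, 5, 0, 1, 2, 2, 0, 0, 0, 0, 1, 2, 2, 1, 2, 2, 3, 0, 0, 0, 0, 3, 0, 0, 0, 0, 1, 1, 1, 3, 3, 0, 1, 1, 3, 5, 1, 1, 5, 0, 1, 2, 2, 0, 0, 0, 0, 1, 2, 2, 1, 2, 2, 3, 0, 0, 0, 0, 3, 0, 0, 0, 0, 3, 0, 0, 0, 0, 3, 0, 0, 0, 0, 1, 1, 0, 0, 1, 2, 2, 0, 0, 0, 0, 0, 0, 0, 1, 2, 2, 1, 2, 2, 3, 3, 0, 3, 3, 0, 1, 1, 1, 1, 3, 3, 0, 1, 4, 0, 0, 4, 2, 0, 0, 1, 2, 2, 0, 0, 0, 1, 1, 1, 1, 2, 1, 1, 1, 1, 2, 1, 1, 1, 3, 3, 0, 1, 1, 1, 1, 1, 1, 1, 0, 0, 1, 2, 2, 0, 0, 0, 0, 0, 0, 0, 1, 2, 2, 1, 2, 2, 0, 0, 0, 0, 1, 2, 2, 1, 2, 2, 0, 0, 0, 0, 0],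
      [3, 3, 0, 3, 3, 0, 1, 1, 1, 1, 1, 1, 1, 3, 3, 0, 1, 1, 0, 0, 1, 1, 1, 1, 2, 1, 1, 1, 1, 2, 1, 1, 1, 1, 2, 1, 1, 1, 1, 2, 1, 1, 1, 1, 1, 3, 3, 0, 3, 3, 0, 1, 1, 1, 1, 3, 3, 0, 3, 3, 0, 1, 1, 1, 1, 1, 1, 1, 3, 3, 0, 1, 1, 0, 0, 0, 0, 0, 0, 0, 1, 2, 2, 0, 0, 0, 3, 0, 0, 0, 0, 3, 0, 0, 0, 0, 1, 1, 1, 3, 3, 0, 1, 1, 3, 5, 1, 1, 5, 0, 1, 2, 2, 0, 0, 0, 0, 1, 2, 2, 1, 2, 2, 3, 3, 0, 3, 3, 0, 1, 1, 1, 1, 1, 1, 1, 3, 3, 0, 1, 1, 0, 0, 1, 1, 1, 1, 2, 1, 1, 1, 1, 2, 1, 1, 1, 1, 2, 1, 1, 1, 1, 2, 3, 3, 0, 3, 3, 0, 1, 1, 1, 1, 3, 3, 0, 1, 4, 0, 0, 4, 2, 0, 0, 1, 2, 2, 0, 0, 0, 1, 1, 1, 1, 2, 1, 1, 1, 1, 2, 3, 3, 0, 3, 3, 0, 1, 1, 1, 1, 3, 3, 0, 1, 4, 0, 0, 4, 2, 0, 0, 1, 2, 2, 0, 0, 0, 1, 1, 1, 1, 2, 1, 1, 1, 1, 2, 3, 0, 0, 0, 0, 3, 0, 0, 0, 0, 1, 1, 0, 0, 0, 0, 1, 2, 2, 1, 2, 2, 0, 0, 1, 2, 2, 0, 0, 0,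 0, 0, 0, 0, 1, 2, 2, 1, 2, 2, 0, 0, 0, 0, 1, 2, 2, 1, 2, 2, 3, 0, 0, 0, 0, 3, 0, 0, 0, 0, 1, 1, 1, 3, 3, 0, 1, 1, 3, 5, 1, 1, 5, 0, 1, 2, 2, 0, 0, 0, 0, 1, 2, 2, 1, 2, 2, 3, 3, 0, 3, 3, 0, 1, 1, 1, 1, 1, 1, 1, 3, 3, 0, 1, 1, 0, 0, 1, 1, 1, 1, 2, 1, 1, 1, 1, 2, 1, 1, 1, 1, 2, 1, 1, 1, 1, 2, 3, 3, 0, 3, 3, 0, 1, 1, 1, 1, 3, 3, 0, 1, 4, 0, 0, 4, 2, 0, 0, 1, 2, 2, 0, 0, 0, 1, 1, 1, 1, 2, 1, 1, 1, 1, 2, 3, 3, 0, 3, 3, 0, 1, 1, 1, 1, 3, 3, 0, 1, 4, 0, 0, 4, 2, 0, 0, 1, 2, 2, 0, 0, 0, 1, 1, 1, 1, 2, 1, 1, 1, 1, 2, 3, 0, 0, 0, 0, 3, 0, 0, 0, 0, 1, 1, 0, 0, 0, 0, 1, 2, 2, 1, 2, 2, 0, 0, 1, 2, 2, 0, 0, 0, 0, 0, 0, 0, 1, 2, 2, 1, 2, 2, 0, 0, 0, 0, 1, 2, 2, 1, 2, 2, 3, 3, 0, 3, 3, 0, 1, 1, 1, 1, 1, 1, 1, 3, 3, 0, 1, 1, 0, 0, 1, 1, 1, 1, 2, 1, 1, 1, 1, 2, 1, 1, 1, 1, 2, 1, 1, 1, 1, 2, 3, 3, 0, 3, 3, 0, 1, 1,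 1, 1, 3, 3, 0, 1, 4, 0, 0, 4, 2, 0, 0, 1, 2, 2, 0, 0, 0, 1, 1, 1, 1, 2, 1, 1, 1, 1, 2, 3, 3, 0, 3, 3, 0, 1, 1, 1, 1, 3, 3, 0, 1, 4, 0, 0, 4, 2, 0, 0, 1, 2, 2, 0, 0, 0, 1, 1, 1, 1, 2, 1, 1, 1, 1, 2, 3, 0, 0, 0, 0, 3, 0, 0, 0, 0, 1, 1, 0, 0, 0, 0, 1, 2, 2, 1, 2, 2, 0, 0, 1, 2, 2, 0, 0, 0, 0, 0, 0, 0, 1, 2, 2, 1, 2, 2, 0, 0, 0, 0, 1, 2, 2, 1, 2, 2, 3, 3, 0, 3, 3, 0, 1, 1, 1, 1, 1, 1, 1, 3, 3, 0, 1, 1, 0, 0, 1, 1, 1, 1, 2, 1, 1, 1, 1, 2, 1, 1, 1, 1, 2, 1, 1, 1, 1, 2, 3, 3, 0, 3, 3, 0, 1, 1, 1, 1, 3, 3, 0, 1, 4, 0, 0, 4, 2, 0, 0, 1, 2, 2, 0, 0, 0, 1, 1, 1, 1, 2, 1, 1, 1, 1, 2, 3, 3, 0, 3, 3, 0, 1, 1, 1, 1, 3, 3, 0, 1, 4, 0, 0, 4, 2, 0, 0, 1, 2, 2, 0, 0, 0, 1, 1, 1, 1, 2, 1, 1, 1, 1, 2, 3, 0, 0, 0, 0, 3, 0, 0, 0, 0, 1, 1, 0, 0, 0, 0, 1, 2, 2, 1, 2, 2, 0, 0, 1, 2, 2, 0, 0, 0, 0, 0, 0, 0, 1, 2, 2, 1, 2,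 2, 0, 0, 0, 0, 1, 2, 2, 1, 2, 2, 3, 0, 0, 0, 0, 1, 1, 1, 3, 3, 0, 1, 1, 3, 5, 1, 1, 3, 0, 0, 0, 0, 3, 0, 0, 0, 0, 0, 0, 0, 0, 1, 2, 2, 1, 2, 2, 0, 0, 1, 2, 2, 0, 0, 0, 0, 0, 0, 0, 1, 2, 2, 1, 2, 2, 0, 0, 0, 0, 1, 2, 2, 1, 2, 2, 5, 0, 1, 2, 2, 0, 0, 0, 0, 1, 2, 2, 1, 2, 2, 2, 4, 2, 0, 0, 0, 0, 3, 2, 0, 0, 1, 2, 2, 0, 0, 0, 0, 3, 2, 0, 0, 3, 2, 0, 0, 0, 2, 4, 2]],
    [(0,0), (1,0), (1,1), (1,2), (1,3)]⟩,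
  ⟨20, [[3, 5, 3, 1, 1, 1, 3, 2, 1, 1, 3, 2, 1, 1, 1, 1, 3, 3, 0, 1, 1, 3, 2, 1, 1, 1, 1, 3, 5, 3, 3, 3, 0, 3, 3, 0, 1, 1, 1, 1, 3, 3, 0, 1, 4, 3, 3, 0, 3, 3, 0, 1, 1, 1, 1, 3, 3, 0, 3, 3, 0, 1, 1, 1, 1, 1, 1, 1, 3, 3, 0, 1, 1, 3, 3, 0, 3, 3, 0, 1, 1, 1, 1, 1, 1, 1, 1, 2, 1, 1, 1, 1, 2, 0, 0, 4, 2, 0, 0, 1, 2, 2, 0, 0, 0, 1, 1, 1, 1, 2, 3, 3, 0, 3, 3, 0, 1, 1, 1, 1, 3, 3, 0, 3, 3, 0, 1, 1, 1, 1, 1, 1, 1, 3, 3, 0, 1, 1, 3, 3, 0, 3, 3, 0, 1, 1, 1, 1, 0, 0, 1, 1, 1, 1, 2, 1, 1, 1, 1, 2, 3, 0, 0, 0, 0, 3, 0, 0, 0, 0, 1, 1, 1, 3, 3, 0, 1, 1, 3, 5, 1, 1, 5, 0, 1, 2, 2, 0, 0, 0, 0, 1, 2, 2, 1, 2, 2, 3, 0, 0, 0, 0, 3, 0, 0, 0, 0, 1, 1, 1, 3, 3, 0, 1, 1, 3, 5, 1, 1, 5, 0, 1, 2, 2, 0, 0, 0, 0, 1, 2, 2, 1, 2, 2, 3, 0, 0, 0, 0, 3, 0, 0, 0, 0, 3, 0, 0, 0, 0, 3, 0, 0, 0, 0, 1, 1, 0, 0, 1, 2, 2, 0, 0, 0, 0, 0,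 0, 0, 1, 2, 2, 1, 2, 2, 3, 3, 0, 3, 3, 0, 1, 1, 1, 1, 3, 3, 0, 3, 3, 0, 1, 1, 1, 1, 1, 1, 1, 3, 3, 0, 1, 1, 3, 3, 0, 3, 3, 0, 1, 1, 1, 1, 0, 0, 1, 1, 1, 1, 2, 1, 1, 1, 1, 2, 3, 0, 0, 0, 0, 3, 0, 0, 0, 0, 1, 1, 1, 3, 3, 0, 1, 1, 3, 5, 1, 1, 5, 0, 1, 2, 2, 0, 0, 0, 0, 1, 2, 2, 1, 2, 2, 3, 0, 0, 0, 0, 3, 0, 0, 0, 0, 1, 1, 1, 3, 3, 0, 1, 1, 3, 5, 1, 1, 5, 0, 1, 2, 2, 0, 0, 0, 0, 1, 2, 2, 1, 2, 2, 3, 0, 0, 0, 0, 3, 0, 0, 0, 0, 3, 0, 0, 0, 0, 3, 0, 0, 0, 0, 1, 1, 0, 0, 1, 2, 2, 0, 0, 0, 0, 0, 0, 0, 1, 2, 2, 1, 2, 2, 3, 3, 0, 3, 3, 0, 1, 1, 1, 1, 3, 3, 0, 3, 3, 0, 1, 1, 1, 1, 1, 1, 1, 3, 3, 0, 1, 1, 3, 3, 0, 3, 3, 0, 1, 1, 1, 1, 0, 0, 1, 1, 1, 1, 2, 1, 1, 1, 1, 2, 3, 0, 0, 0, 0, 3, 0, 0, 0, 0, 1, 1, 1, 3, 3, 0, 1, 1, 3, 5, 1, 1, 5, 0, 1, 2, 2, 0, 0, 0, 0, 1, 2, 2, 1, 2, 2, 3, 0, 0, 0, 0, 3, 0, 0, 0, 0,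 1, 1, 1, 3, 3, 0, 1, 1, 3, 5, 1, 1, 5, 0, 1, 2, 2, 0, 0, 0, 0, 1, 2, 2, 1, 2, 2, 3, 0, 0, 0, 0, 3, 0, 0, 0, 0, 3, 0, 0, 0, 0, 3, 0, 0, 0, 0, 1, 1, 0, 0, 1, 2, 2, 0, 0, 0, 0, 0, 0, 0, 1, 2, 2, 1, 2, 2, 3, 3, 0, 3, 3, 0, 1, 1, 1, 1, 3, 3, 0, 1, 4, 0, 0, 4, 2, 0, 0, 1, 2, 2, 0, 0, 0, 1, 1, 1, 1, 2, 1, 1, 1, 1, 2, 3, 3, 0, 3, 3, 0, 1, 1, 1, 1, 3, 3, 0, 3, 3, 0, 1, 1, 1, 1, 1, 1, 1, 3, 3, 0, 1, 1, 3, 3, 0, 3, 3, 0, 1, 1, 1, 1, 0, 0, 1, 1, 1, 1, 2, 1, 1, 1, 1, 2, 3, 0, 0, 0, 0, 3, 0, 0, 0, 0, 1, 1, 1, 3, 3, 0, 1, 1, 3, 5, 1, 1, 5, 0, 1, 2, 2, 0, 0, 0, 0, 1, 2, 2, 1, 2, 2, 3, 0, 0, 0, 0, 3, 0, 0, 0, 0, 1, 1, 1, 3, 3, 0, 1, 1, 3, 5, 1, 1, 5, 0, 1, 2, 2, 0, 0, 0, 0, 1, 2, 2, 1, 2, 2, 3, 0, 0, 0, 0, 3, 0, 0, 0, 0, 3, 0, 0, 0, 0, 3, 0, 0, 0, 0, 1, 1, 0, 0, 1, 2, 2, 0, 0, 0, 0, 0, 0, 0, 1, 2, 2, 1, 2, 2, 3,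 3, 0, 3, 3, 0, 1, 1, 1, 1, 3, 3, 0, 1, 4, 0, 0, 4, 2, 0, 0, 1, 2, 2, 0, 0, 0, 1, 1, 1, 1, 2, 1, 1, 1, 1, 2, 1, 1, 1, 3, 3, 0, 1, 1, 1, 1, 1, 1, 1, 0, 0, 1, 2, 2, 0, 0, 0, 0, 0, 0, 0, 1, 2, 2, 1, 2, 2, 0, 0, 0, 0, 1, 2, 2, 1, 2, 2, 0, 0, 0, 0, 0, 3, 0, 0, 0, 0, 3, 0, 0, 0, 0, 3, 0, 0, 0, 0, 3, 0, 0, 0, 0, 1, 1, 0, 0, 1, 2, 2, 0, 0, 0, 0, 0, 0, 0, 1, 2, 2, 1, 2, 2, 3, 3, 0, 3, 3, 0, 1, 1, 1, 1, 1, 1, 1, 3, 3, 0, 1, 1, 0, 0, 1, 1, 1, 1, 2, 1, 1, 1, 1, 2, 1, 1, 1, 1, 2, 1, 1, 1, 1, 2, 3, 3, 0, 3, 3, 0, 1, 1, 1, 1, 1, 1, 1, 3, 3, 0, 1, 1, 0, 0, 1, 1, 1, 1, 2, 1, 1, 1, 1, 2, 1, 1, 1, 1, 2, 1, 1, 1, 1, 2, 3, 5, 3, 1, 1, 1, 3, 2, 1, 1, 3, 2, 1, 1, 1, 1, 3, 3, 0, 1, 1, 3, 2, 1, 1, 1, 1, 3, 5, 3, 3, 3, 0, 3, 3, 0, 1, 1, 1, 1, 3, 3, 0, 1, 4, 3, 3, 0, 3, 3, 0, 1, 1, 1, 1, 3, 3, 0, 3, 3, 0, 1, 1, 1, 1, 1, 1,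 1, 3, 3, 0, 1, 1, 3, 3, 0, 3, 3, 0, 1, 1, 1, 1, 1, 1, 1, 1, 2, 1, 1, 1, 1, 2, 0, 0, 4, 2, 0, 0, 1, 2, 2, 0, 0, 0, 1, 1, 1, 1, 2, 3, 3, 0, 3, 3, 0, 1, 1, 1, 1, 3, 3, 0, 3, 3, 0, 1, 1, 1, 1, 1, 1, 1, 3, 3, 0, 1, 1, 3, 3, 0, 3, 3, 0, 1, 1, 1, 1, 0, 0, 1, 1, 1, 1, 2, 1, 1, 1, 1, 2, 3, 0, 0, 0, 0, 3, 0, 0, 0, 0, 1, 1, 1, 3, 3, 0, 1, 1, 3, 5, 1, 1, 5, 0, 1, 2, 2, 0, 0, 0, 0, 1, 2, 2, 1, 2, 2, 3, 0, 0, 0, 0, 3, 0, 0, 0, 0, 1, 1, 1, 3, 3, 0, 1, 1, 3, 5, 1, 1, 5, 0, 1, 2, 2, 0, 0, 0, 0, 1, 2, 2, 1, 2, 2, 3, 0, 0, 0, 0, 3, 0, 0, 0, 0, 3, 0, 0, 0, 0, 3, 0, 0, 0, 0, 1, 1, 0, 0, 1, 2, 2, 0, 0, 0, 0, 0, 0, 0, 1, 2, 2, 1, 2, 2, 3, 3, 0, 3, 3, 0, 1, 1, 1, 1, 3, 3, 0, 3, 3, 0, 1, 1, 1, 1, 1, 1, 1, 3, 3, 0, 1, 1, 3, 3, 0, 3, 3, 0, 1, 1, 1, 1, 0, 0, 1, 1, 1, 1, 2, 1, 1, 1, 1, 2, 3, 0, 0, 0, 0, 3, 0, 0, 0, 0, 1, 1,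 1, 3, 3, 0, 1, 1, 3, 5, 1, 1, 5, 0, 1, 2, 2, 0, 0, 0, 0, 1, 2, 2, 1, 2, 2, 3, 0, 0, 0, 0, 3, 0, 0, 0, 0, 1, 1, 1, 3, 3, 0, 1, 1, 3, 5, 1, 1, 5, 0, 1, 2, 2, 0, 0, 0, 0, 1, 2, 2, 1, 2, 2, 3, 0, 0, 0, 0, 3, 0, 0, 0, 0, 3, 0, 0, 0, 0, 3, 0, 0, 0, 0, 1, 1, 0, 0, 1, 2, 2, 0, 0, 0, 0, 0, 0, 0, 1, 2, 2, 1, 2, 2, 3, 3, 0, 3, 3, 0, 1, 1, 1, 1, 3, 3, 0, 3, 3, 0, 1, 1, 1, 1, 1, 1, 1, 3, 3, 0, 1, 1, 3, 3, 0, 3, 3, 0, 1, 1, 1, 1, 0, 0, 1, 1, 1, 1, 2, 1, 1, 1, 1, 2, 3, 0, 0, 0, 0, 3, 0, 0, 0, 0, 1, 1, 1, 3, 3, 0, 1, 1, 3, 5, 1, 1, 5, 0, 1, 2, 2, 0, 0, 0, 0, 1, 2, 2, 1, 2, 2, 3, 0, 0, 0, 0, 3, 0, 0, 0, 0, 1, 1, 1, 3, 3, 0, 1, 1, 3, 5, 1, 1, 5, 0, 1, 2, 2, 0, 0, 0, 0, 1, 2, 2, 1, 2, 2, 3, 0, 0, 0, 0, 3, 0, 0, 0, 0, 3, 0, 0, 0, 0, 3, 0, 0, 0, 0, 1, 1, 0, 0, 1, 2, 2, 0, 0, 0, 0, 0, 0, 0, 1, 2, 2, 1, 2, 2, 3, 3, 0,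 3, 3, 0, 1, 1, 1, 1, 3, 3, 0, 1, 4, 0, 0, 4, 2, 0, 0, 1, 2, 2, 0, 0, 0, 1, 1, 1, 1, 2, 1, 1, 1, 1, 2, 3, 3, 0, 3, 3, 0, 1, 1, 1, 1, 3, 3, 0, 3, 3, 0, 1, 1, 1, 1, 1, 1, 1, 3, 3, 0, 1, 1, 3, 3, 0, 3, 3, 0, 1, 1, 1, 1, 0, 0, 1, 1, 1, 1, 2, 1, 1, 1, 1, 2, 3, 0, 0, 0, 0, 3, 0, 0, 0, 0, 1, 1, 1, 3, 3, 0, 1, 1, 3, 5, 1, 1, 5, 0, 1, 2, 2, 0, 0, 0, 0, 1, 2, 2, 1, 2, 2, 3, 0, 0, 0, 0, 3, 0, 0, 0, 0, 1, 1, 1, 3, 3, 0, 1, 1, 3, 5, 1, 1, 5, 0, 1, 2, 2, 0, 0, 0, 0, 1, 2, 2, 1, 2, 2, 3, 0, 0, 0, 0, 3, 0, 0, 0, 0, 3, 0, 0, 0, 0, 3, 0, 0, 0, 0, 1, 1, 0, 0, 1, 2, 2, 0, 0, 0, 0, 0, 0, 0, 1, 2, 2, 1, 2, 2, 3, 3, 0, 3, 3, 0, 1, 1, 1, 1, 3, 3, 0, 1, 4, 0, 0, 4, 2, 0, 0, 1, 2, 2, 0, 0, 0, 1, 1, 1, 1, 2, 1, 1, 1, 1, 2, 1, 1, 1, 3, 3, 0, 1, 1, 1, 1, 1, 1, 1, 0, 0, 1, 2, 2, 0, 0, 0, 0, 0, 0, 0, 1, 2, 2, 1, 2, 2, 0, 0, 0,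 0, 1, 2, 2, 1, 2, 2, 0, 0, 0, 0, 0, 3, 0, 0, 0, 0, 3, 0, 0, 0, 0, 3, 0, 0, 0, 0, 3, 0, 0, 0, 0, 1, 1, 0, 0, 1, 2, 2, 0, 0, 0, 0, 0, 0, 0, 1, 2, 2, 1, 2, 2, 1, 1, 1, 1, 1, 3, 3, 0, 3, 3, 0, 1, 1, 1, 1, 3, 3, 0, 3, 3, 0, 1, 1, 1, 1, 1, 1, 1, 3, 3, 0, 1, 1, 0, 0, 0, 0, 0, 0, 0, 1, 2, 2, 0, 0, 0, 3, 0, 0, 0, 0, 3, 0, 0, 0, 0, 1, 1, 1, 3, 3, 0, 1, 1, 3, 5, 1, 1, 5, 0, 1, 2, 2, 0, 0, 0, 0, 1, 2, 2, 1, 2, 2, 3, 3, 0, 3, 3, 0, 1, 1, 1, 1, 1, 1, 1, 3, 3, 0, 1, 1, 0, 0, 1, 1, 1, 1, 2, 1, 1, 1, 1, 2, 1, 1, 1, 1, 2, 1, 1, 1, 1, 2, 3, 3, 0, 3, 3, 0, 1, 1, 1, 1, 3, 3, 0, 1, 4, 0, 0, 4, 2, 0, 0, 1, 2, 2, 0, 0, 0, 1, 1, 1, 1, 2, 1, 1, 1, 1, 2, 3, 3, 0, 3, 3, 0, 1, 1, 1, 1, 3, 3, 0, 1, 4, 0, 0, 4, 2, 0, 0, 1, 2, 2, 0, 0, 0, 1, 1, 1, 1, 2, 1, 1, 1, 1, 2, 3, 0, 0, 0, 0, 3, 0, 0, 0, 0, 1, 1, 0, 0, 0, 0, 1, 2, 2, 1,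 2, 2, 0, 0, 1, 2, 2, 0, 0, 0, 0, 0, 0, 0, 1, 2, 2, 1, 2, 2, 0, 0, 0, 0, 1, 2, 2, 1, 2, 2, 3, 0, 0, 0, 0, 3, 0, 0, 0, 0, 1, 1, 1, 3, 3, 0, 1, 1, 3, 5, 1, 1, 5, 0, 1, 2, 2, 0, 0, 0, 0, 1, 2, 2, 1, 2, 2, 3, 3, 0, 3, 3, 0, 1, 1, 1, 1, 1, 1, 1, 3, 3, 0, 1, 1, 0, 0, 1, 1, 1, 1, 2, 1, 1, 1, 1, 2, 1, 1, 1, 1, 2, 1, 1, 1, 1, 2, 3, 3, 0, 3, 3, 0, 1, 1, 1, 1, 3, 3, 0, 1, 4, 0, 0, 4, 2, 0, 0, 1, 2, 2, 0, 0, 0, 1, 1, 1, 1, 2, 1, 1, 1, 1, 2, 3, 3, 0, 3, 3, 0, 1, 1, 1, 1, 3, 3, 0, 1, 4, 0, 0, 4, 2, 0, 0, 1, 2, 2, 0, 0, 0, 1, 1, 1, 1, 2, 1, 1, 1, 1, 2, 3, 0, 0, 0, 0, 3, 0, 0, 0, 0, 1, 1, 0, 0, 0, 0, 1, 2, 2, 1, 2, 2, 0, 0, 1, 2, 2, 0, 0, 0, 0, 0, 0, 0, 1, 2, 2, 1, 2, 2, 0, 0, 0, 0, 1, 2, 2, 1, 2, 2, 3, 3, 0, 3, 3, 0, 1, 1, 1, 1, 1, 1, 1, 3, 3, 0, 1, 1, 0, 0, 1, 1, 1, 1, 2, 1, 1, 1, 1, 2, 1, 1, 1, 1, 2, 1, 1, 1,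 1, 2, 3, 3, 0, 3, 3, 0, 1, 1, 1, 1, 3, 3, 0, 1, 4, 0, 0, 4, 2, 0, 0, 1, 2, 2, 0, 0, 0, 1, 1, 1, 1, 2, 1, 1, 1, 1, 2, 3, 3, 0, 3, 3, 0, 1, 1, 1, 1, 3, 3, 0, 1, 4, 0, 0, 4, 2, 0, 0, 1, 2, 2, 0, 0, 0, 1, 1, 1, 1, 2, 1, 1, 1, 1, 2, 3, 0, 0, 0, 0, 3, 0, 0, 0, 0, 1, 1, 0, 0, 0, 0, 1, 2, 2, 1, 2, 2, 0, 0, 1, 2, 2, 0, 0, 0, 0, 0, 0, 0, 1, 2, 2, 1, 2, 2, 0, 0, 0, 0, 1, 2, 2, 1, 2, 2, 3, 3, 0, 3, 3, 0, 1, 1, 1, 1, 1, 1, 1, 3, 3, 0, 1, 1, 0, 0, 1, 1, 1, 1, 2, 1, 1, 1, 1, 2, 1, 1, 1, 1, 2, 1, 1, 1, 1, 2, 3, 3, 0, 3, 3, 0, 1, 1, 1, 1, 3, 3, 0, 1, 4, 0, 0, 4, 2, 0, 0, 1, 2, 2, 0, 0, 0, 1, 1, 1, 1, 2, 1, 1, 1, 1, 2, 3, 3, 0, 3, 3, 0, 1, 1, 1, 1, 3, 3, 0, 1, 4, 0, 0, 4, 2, 0, 0, 1, 2, 2, 0, 0, 0, 1, 1, 1, 1, 2, 1, 1, 1, 1, 2, 3, 0, 0, 0, 0, 3, 0, 0, 0, 0, 1, 1, 0, 0, 0, 0, 1, 2, 2, 1, 2, 2, 0, 0, 1, 2, 2, 0, 0,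 0, 0, 0, 0, 0, 1, 2, 2, 1, 2, 2, 0, 0, 0, 0, 1, 2, 2, 1, 2, 2, 1, 1, 1, 3, 3, 0, 1, 1, 1, 1, 1, 3, 3, 0, 1, 1, 3, 0, 0, 0, 0, 3, 5, 1, 1, 1, 3, 3, 0, 1, 1, 1, 1, 1, 0, 0, 1, 2, 2, 0, 0, 0, 0, 0, 0, 0, 1, 2, 2, 1, 2, 2, 0, 0, 0, 0, 1, 2, 2, 1, 2, 2, 0, 0, 0, 0, 0, 5, 0, 1, 2, 2, 0, 0, 0, 0, 1, 2, 2, 1, 2, 2]],
    [(0,0)]⟩]

theorem baseLvls_bases : baseLvls.map Lvl.base = [0, 4, 8, 12, 16, 20] := by decide +kernel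

/-- A field of eleven bits. -/
noncomputable def fld (N i : ℕ) : ℕ := Nat.land (Nat.shiftRight N (Nat.mul 11 i)) 2047

/-- The packed fields follow the tree. -/
noncomputable def packOK (g : List (List ℕ)) (N : ℕ) (tree : List (ℕ × ℕ)) : ℕ → Bool :=
  List.rec (motive := fun _ => ℕ → Bool) (fun _ => true)
    (fun e _ ih i => Nat.ble e.2 i && (Nat.beq (fld N (Nat.succ i)) (sWord (g.getD e.1 []) (fld N e.2)) &&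
      ih (Nat.succ i))) tree

theorem foldl_of_packOK (g : List (List ℕ)) (N b : ℕ) : ∀ (tree : List (ℕ × ℕ)) (i : ℕ),
    packOK g N tree i = true →
    tree.foldl (fun pts e => pts ++ [sWord (g.getD e.1 []) (pts.getD e.2 b)]) ((List.range (i + 1)).map (fld N)) =
      (List.range (i + 1 + tree.length)).map (fld N)
  | [], _, _ => rfl
  | e :: tree, i, h => by
    have h' : (Nat.ble e.2 i && (Nat.beq (fld N (i + 1)) (sWord (g.getD e.1 []) (fld N e.2)) &&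
      packOK g N tree (i + 1))) = true := h
    simp only [Bool.and_eq_true, Nat.ble_eq, Nat.beq_eq] at h'
    obtain ⟨he, hval, hrest⟩ := h'
    have hget : ((List.range (i + 1)).map (fld N)).getD e.2 b = fld N e.2 := by
      rw [List.getD_eq_getElem _ _ (by simp; omega)]
      simp
    rw [List.foldl_cons, hget, ← hval, show (List.range (i + 1)).map (fld N) ++ [fld N (i + 1)] =
      (List.range (i + 1 + 1)).map (fld N) by rw [List.range_succ (n := i + 1), List.map_append]; rfl,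
      foldl_of_packOK g N b tree (i + 1) hrest, List.length_cons]
    congr 2
    omega

/-- The first level. -/
noncomputable def lvlZero : Lvl := baseLvls.getD 0 ⟨0, [], []⟩

/-- Its packed orbit. -/
def zeroPack : ℕ := 0x808698da2f4595074c5d30886b48a1513a7343a3291e8c753892af832b4dd8a2515128468ac821530e9b1afc364b9958aabab7221551c65e508cc3aed78eeb9a12be232b024da0e57e6929e15078a9566891134b4fe45c685b552ce5169a5b23e6b8d0622704e7d725cb1010e9bf49eeeab51346621508611757a669aeac2462b0548b4d6aaf2e03b06772778b5b6e964f96ad5129c307a774ad6d512085cb56d610161c063811068e4205dcdbe0bc9d30ca088449a40c800b428a2745a978cac55241910c989b356102551a50610d5a5caa115c90b0593c939681186b15369d293885578689f2ae33b484b48524da625d2951b03ca723255ad40e496fac6ba8a6a2265e8792146048cfde5bcf38a33826f4ddaac8682ba0d214d398f2b23bf16e2d4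d8ab9239acaeb8a70908e155486375c6b9a854b3523d7a614e04a2842343022142cf9153f2a623c2a4b922528687af566698288c14d4c3474367cce71470886b241ce681ca0ce3ba65330fe0e20c04e8ccc1b96814f9d5127d1ce63d80a358bb3f5129ee7e8ea922a41362fc992a9d2445b53e11051e82ea4cab766624a1d6694846c9ebc46a8452bc54032ceb5a5b7b6d09e1a31c58a8ee169d257eabc0db129af6cfa4cac83514f965b513fe6665512699f2a6a94daa66aa0838e15ae6f1f42dd66d4a9b0d64665155f8ab9a64b169211d44eb665a4f08a538eb5bb55fb3b253a4d624449a09a77e0ab09c940ac243d5e4445aad79b1317354620a0d677494b903c6a234ec293caf4a895a64b1daea949042d1a775d8901a040b19e3349f82d3922c3b664f5d086cae4bf54dd436ca88ea49f13736ab59adb53918628d4d3d80a6dd7dccca6944101d1fa875226a1c23a3031e432caae87e69326374d589956934695eb2aaea1b57564af7372eae34d31360fcd8e57722ced091d605747e12650c0665b07124aa43414ac933a5eeb19cd463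30be5a193632e9755ad3637745d7b13f62acfe014d34124ad5db38ada94dfd2dc6015b1cbbfb60e6f49dadb6b8cdd9995465300e84a4ba41410ac055449388729d06daa3a129c3446ba56a4b0692a40a9bbb58f504bfd547cc7310c915730a2d7794c4f41c2620642c1061ce0b51b42c2183bd0b22b05e476634b8a7c4e94e24b1f644c320525352a60440e83a4f77470454b4bd1ecc89f00fa6cf285ff57d4c4999bb23e8c5566889f107aa05092c61a48e81a8253fa61610c14aab0551ecb1a2c37d369dc902414698aa8722ac5d02f3f81c85c83f3ba2e07e43b1b89bd0981e0867a96f4b6a4cf442b3c6718f5e4e37f98096e95ccb21d1ad84360620bfc534c70ce4010a1632b930e0d8b61b22cddf05a15f1fc5f81d6f925e5d475632b86753cfa36e4d87c9209cdc1f7c4f32652934aa50420e43bba0824a565f0f56423e4cf364944ff6bf2614ca29066c7101a2806acc60cc3006a10142a58850c782bb069cf0b41b62c83508186d0c82f0781981605747e17c1a00a80f8f421e1a0c110c20c0b81f3c8df63bb1b9ab4e1579ae5887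ed084599bef25a64dbabf43e2fc8d922d69f1ae8440cb90e4648a109c8f956481186788de71ce6614ace66a911fb3b1af2c25c125a7a9320248e30627be23a2f28cde0e984535a8a4268413d6accd1357a8e44d2c93125502d1dc2b5992267fd4f73ea10291fa50f170e596eac48fc7f1516a48e2614b8ae6f49de34f5cf3728ec49402dd4afa859290f9eb4ca63f338d9ca894a6362b17d303114159ec08c12936050870f294da7b3d2a8da232b4300c9168510967e41e1043e07341b83e24e8b8a23793a40c0239af0e240e4047c14a1e439a9f9cafa4bf18e5413be1151e9e53d1d940d500a31161c474aa699eb2d8792cd79b4584cdde0fba74fe7210782446e8c0701805380d26b38f72b025f25685429f94f4e71c8facbe18ca16492a530b604bf9923b7ae08e5372368bc121bd0fd9720d8131fe798dce8c3906193f9c1a263da7a07f8bb7088a81627225f0cc2fcfb7a0b8e7d4e879ce2a8d39285cc39c2bda05a9c0eb1e625d0b2482286e2fba273db32452135aa70460ecea0761db3d5d0c1052f2f07b8ef6471c1c5be21f74212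4d22a0c5689852c650ebd9d202a8a66cceb4a5f4d009aab03289795b4a61cd4d4dc5145ea4f18b2b44b0cf1c04019a0828942b8626ceeb72507f2b7d81d6f728fe1821be270b61afd42668cc0abb2a801429242b7a4741cadd01338d96503ffaf898e80234736fa9442ec29e85dba2794ce2a04b89b18a5904989f2e62283187f9081b8052768dc3acf03de3b43c8ba9f614e33a3900e14635a6286518635c812162c228a3d8292bd3060cb9d16e3605887a0d220a1ac310ba1eddf8cf0b62b63e8bd0d60480b00c0b91e44202886e30842880028070f3b7e92b2ee3a3876302504c0c62ce2404e1701121803e06d0120453ac6d1d0f01ee9d91e25d8fa895132310b309113a238b888b0c21f64306f01623c09a777a6b827cceb79ae268cb9185ac35c33d905c9ccea9e525b0be49a2b09edc9f6c9689af60c894b4d0a901004c07075c3a8ee9ece8a09a9497e3d0763208e6e21f082a7863e0f1c878de3a5e09e27be76c79974a0467db34a37f95fd305033ee9906581a2f42584d0c72ca2484f08d2e42203107e90a1b00408c0209d0640192f23240dc6c1d4f08f0bdc3b03c0bb97b3e8018008ca0300140397800400c02000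

theorem packOK_append (g : List (List ℕ)) (N : ℕ) : ∀ (u v : List (ℕ × ℕ)) (i : ℕ),
    packOK g N (u ++ v) i = (packOK g N u i && packOK g N v (i + u.length))
  | [], v, i => rfl
  | e :: u, v, i => by
    show (Nat.ble e.2 i && (Nat.beq (fld N (i + 1)) (sWord (g.getD e.1 []) (fld N e.2)) &&
      packOK g N (u ++ v) (i + 1))) =
      ((Nat.ble e.2 i && (Nat.beq (fld N (i + 1)) (sWord (g.getD e.1 []) (fld N e.2)) &&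
      packOK g N u (i + 1))) && packOK g N v (i + (u.length + 1)))
    rw [packOK_append g N u v (i + 1), show i + (u.length + 1) = i + 1 + u.length by omega]
    simp only [Bool.and_assoc]

theorem zero_pack0 : packOK (gensOf baseLvls) zeroPack ((lvlZero.tree.drop 0).take 200) 0 = true := by decide +kernel

theorem zero_pack1 : packOK (gensOf baseLvls) zeroPack ((lvlZero.tree.drop 200).take 200) 200 = true := by decide +kernel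

theorem zero_pack2 : packOK (gensOf baseLvls) zeroPack ((lvlZero.tree.drop 400).take 200) 400 = true := by decide +kernel

theorem zero_pack3 : packOK (gensOf baseLvls) zeroPack ((lvlZero.tree.drop 600).take 200) 600 = true := by decide +kernel

theorem zero_pack4 : packOK (gensOf baseLvls) zeroPack ((lvlZero.tree.drop 800).take 200) 800 = true := by decide +kernel

theorem zero_pack5 : packOK (gensOf baseLvls) zeroPack ((lvlZero.tree.drop 1000).take 200) 1000 = true := by decide +kernel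

theorem zero_pack6 : packOK (gensOf baseLvls) zeroPack ((lvlZero.tree.drop 1200).take 200) 1200 = true := by decide +kernel

theorem zero_pack7 : packOK (gensOf baseLvls) zeroPack (lvlZero.tree.drop 1400) 1400 = true := by decide +kernel

theorem zero_pack_ok : packOK (gensOf baseLvls) zeroPack lvlZero.tree 0 = true := by
  have e : lvlZero.tree =
    ((lvlZero.tree.drop 0).take 200) ++ (((lvlZero.tree.drop 200).take 200) ++ (((lvlZero.tree.drop 400).take 200) ++ (((lvlZero.tree.drop 600).take 200) ++ (((lvlZero.tree.drop 800).take 200) ++ (((lvlZero.tree.drop 1000).take 200) ++ (((lvlZero.tree.drop 1200).take 200) ++ ((lvlZero.tree.drop 1400)))))))) := rfl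
  rw [e, packOK_append, packOK_append, packOK_append, packOK_append, packOK_append, packOK_append, packOK_append]
  simp only [show (((lvlZero.tree.drop 0).take 200).length) = 200 from rfl,
    show (((lvlZero.tree.drop 200).take 200).length) = 200 from rfl,
    show (((lvlZero.tree.drop 400).take 200).length) = 200 from rfl,
    show (((lvlZero.tree.drop 600).take 200).length) = 200 from rfl,
    show (((lvlZero.tree.drop 800).take 200).length) = 200 from rfl,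
    show (((lvlZero.tree.drop 1000).take 200).length) = 200 from rfl,
    show (((lvlZero.tree.drop 1200).take 200).length) = 200 from rfl, Nat.reduceAdd, Bool.and_eq_true]
  exact ⟨zero_pack0, zero_pack1, zero_pack2, zero_pack3, zero_pack4, zero_pack5, zero_pack6, zero_pack7⟩

theorem zero_pack_base : fld zeroPack 0 = 0 := by decide +kernel

theorem zero_distinct : distinct ((List.range (0 + 1 + lvlZero.tree.length)).map (fld zeroPack)) 0 = true := by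
  decide +kernel

theorem zero_fix : (gensOf (baseLvls.drop 1)).all (fun w => Nat.beq (sWord w 0) 0) = true := by decide +kernel

theorem tail_ok : lvlsOK (baseLvls.drop 1) = true := by decide +kernel

theorem lvlZero_eq : baseLvls = lvlZero :: baseLvls.drop 1 := rfl

theorem lvlZero_base : lvlZero.base = 0 := rfl

theorem baseLvls_ok : lvlsOK baseLvls = true := by
  have h := foldl_of_packOK (gensOf baseLvls) zeroPack 0 lvlZero.tree 0 zero_pack_ok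
  have e1 : (List.range (0 + 1)).map (fld zeroPack) = [0] := by simp [zero_pack_base]
  rw [e1] at h
  have e2 : gensOf baseLvls = lvlZero.gens ++ gensOf (baseLvls.drop 1) := rfl
  rw [lvlZero_eq]
  simp only [lvlsOK, lvlZero_base, Bool.and_eq_true]
  refine ⟨by decide, zero_fix, ?_, tail_ok⟩
  show distinct (lvlZero.tree.foldl _ [0]) 0 = true
  rw [← e2, h]
  exact zero_distinct

theorem baseLvls_prod : orbitProd baseLvls = 177408000 := by decide +kernel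

theorem baseLvls_lt : (gensOf baseLvls).all (fun w => w.all fun k => Nat.blt k 6) = true := by decide +kernel

end CfsgLib.Sporadic.HNCoset
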