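import Cfsg.Agent.Lib.Sporadic.HNCoset.Perm

/-!
# Lower bounds for subgroups from their orbits on states (owner: helper25)
-/

set_option autoImplicit false
set_option maxRecDepth 20000

namespace CfsgLib.Sporadic.HNCoset

open CfsgLib.Sporadic CfsgLib.Sporadic.HNGroup

/-- One level: a base state, further generators, a spanning tree of the orbit. -/
structure Lvl where
  /-- the base state -/
  base : ℕ
  /-- generators first used at this level -/
  gens : List (List ℕ)
  /-- generator number and earlier position of each further orbit state -/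
  tree : List (ℕ × ℕ)

/-- The generators of a list of levels. -/
def gensOf : List Lvl → List (List ℕ)
  | [] => []
  | l :: ls => l.gens ++ gensOf ls

/-- The states reached along a tree. -/
noncomputable def orbitPts (g : List (List ℕ)) (tree : List (ℕ × ℕ)) (b : ℕ) : List ℕ :=
  tree.foldl (fun pts e => pts ++ [sWord (g.getD e.1 []) (pts.getD e.2 b)]) [b]

/-- All entries are different, by a bit mask. -/
def distinct : List ℕ → ℕ → Bool
  | [], _ => true
  | a :: l, seen => !(Nat.testBit seen a) && distinct l (seen ||| 2 ^ a)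

/-- A checked level list. -/
noncomputable def lvlsOK : List Lvl → Bool
  | [] => true
  | l :: ls => Nat.blt l.base 1408 && ((gensOf ls).all (fun w => Nat.beq (sWord w l.base) l.base) &&
      (distinct (orbitPts (l.gens ++ gensOf ls) l.tree l.base) 0 && lvlsOK ls))

/-- The product of the orbit lengths. -/
def orbitProd : List Lvl → ℕ
  | [] => 1
  | l :: ls => (l.tree.length + 1) * orbitProd ls

/-- The elements fixing all base states. -/
noncomputable def fixBases : List Lvl → Subgroup P0
  | [] => ⊤
  | l :: ls => (if h : l.base < 1408 then (MulAction.stabilizer (Equiv.Perm (Fin 1408)) (⟨l.base, h⟩ : Fin 1408)).comap psi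
      else ⊤) ⊓ fixBases ls

theorem mem_fixBases {g : P0} : ∀ {ls : List Lvl},
    g ∈ fixBases ls ↔ ∀ l ∈ ls, ∀ h : l.base < 1408, psi g ⟨l.base, h⟩ = ⟨l.base, h⟩
  | [] => by simp [fixBases]
  | l :: ls => by
    rw [fixBases, Subgroup.mem_inf, mem_fixBases, List.forall_mem_cons]
    refine and_congr ?_ Iff.rfl
    by_cases h : l.base < 1408
    · rw [dif_pos h, Subgroup.mem_comap, MulAction.mem_stabilizer_iff, Equiv.Perm.smul_def]
      exact ⟨fun e _ => e, fun e => e h⟩
    · rw [dif_neg h]
      exact ⟨fun _ hh => absurd hh h, fun _ => Subgroup.mem_top g⟩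

theorem distinct_nodup : ∀ {l : List ℕ} {seen : ℕ}, distinct l seen = true →
    l.Nodup ∧ ∀ a ∈ l, Nat.testBit seen a = false
  | [], _, _ => by simp
  | a :: l, seen, h => by
    simp only [distinct, Bool.and_eq_true, Bool.not_eq_true'] at h
    obtain ⟨hn, hs⟩ := distinct_nodup h.2
    refine ⟨List.nodup_cons.2 ⟨fun ha => ?_, hn⟩, ?_⟩
    · have := hs a ha
      simp at this
    · intro x hx
      rcases List.mem_cons.1 hx with rfl | hx
      · exact h.1
      · have := hs x hx
        simp only [Nat.testBit_or, Bool.or_eq_false_iff] at this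
        exact this.1

theorem orbitPts_mem {K : Subgroup P0} {g : List (List ℕ)} (hlt : ∀ w ∈ g, ∀ k ∈ w, k < 6)
    (hK : ∀ w ∈ g, (w.map L).prod ∈ K) (b : Fin 1408) : ∀ (tree : List (ℕ × ℕ)) (pts : List ℕ),
    (∀ p ∈ pts, ∃ k ∈ K, ((psi k b : Fin 1408) : ℕ) = p) →
    ∀ p ∈ tree.foldl (fun pts e => pts ++ [sWord (g.getD e.1 []) (pts.getD e.2 b.val)]) pts,
      ∃ k ∈ K, ((psi k b : Fin 1408) : ℕ) = p
  | [], _, h => h
  | e :: tree, pts, h => by
    refine orbitPts_mem hlt hK b tree _ fun p hp => ?_
    rcases List.mem_append.1 hp with hp | hp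
    · exact h p hp
    · obtain rfl := List.mem_singleton.1 hp
      obtain ⟨k, hk, hkb⟩ : ∃ k ∈ K, ((psi k b : Fin 1408) : ℕ) = pts.getD e.2 b.val := by
        rcases Nat.lt_or_ge e.2 pts.length with hl | hl
        · rw [List.getD_eq_getElem _ _ hl]; exact h _ (List.getElem_mem hl)
        · rw [List.getD_eq_default _ _ hl]; exact ⟨1, one_mem K, by simp⟩
      rcases Nat.lt_or_ge e.1 g.length with hl | hl
      · rw [List.getD_eq_getElem _ _ hl]
        refine ⟨(g[e.1].map L).prod * k, mul_mem (hK _ (List.getElem_mem hl)) hk, ?_⟩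
        rw [map_mul, Equiv.Perm.mul_apply, psi_prod (hlt _ (List.getElem_mem hl)), hkb]
      · rw [List.getD_eq_default _ _ hl]
        exact ⟨k, hk, hkb⟩

theorem orbitPts_length (g : List (List ℕ)) (b : ℕ) : ∀ (tree : List (ℕ × ℕ)) (pts : List ℕ),
    (tree.foldl (fun pts e => pts ++ [sWord (g.getD e.1 []) (pts.getD e.2 b)]) pts).length = pts.length + tree.length
  | [], _ => rfl
  | e :: tree, pts => by
    rw [List.foldl_cons, orbitPts_length g b tree]
    simp only [List.length_append, List.length_cons, List.length_nil]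
    omega

/-- The orbit lengths bound the subgroup. -/
theorem orbitProd_le : ∀ {ls : List Lvl} (K : Subgroup P0), lvlsOK ls = true →
    (∀ w ∈ gensOf ls, ∀ k ∈ w, k < 6) → (∀ w ∈ gensOf ls, (w.map L).prod ∈ K) →
    orbitProd ls * Nat.card (K ⊓ fixBases ls : Subgroup P0) ≤ Nat.card K
  | [], K, _, _, _ => by simp [orbitProd, fixBases]
  | l :: ls, K, h, hlt, hK => by
    classical
    simp only [lvlsOK, Bool.and_eq_true, Nat.blt_eq, List.all_eq_true, Nat.beq_eq] at h
    obtain ⟨hb, hfix, hd, hrest⟩ := h
    set b : Fin 1408 := ⟨l.base, hb⟩ with hbdef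
    set S : Subgroup P0 := (MulAction.stabilizer (Equiv.Perm (Fin 1408)) b).comap psi with hS
    have hsub : ∀ w ∈ gensOf ls, w ∈ gensOf (l :: ls) := fun w hw => List.mem_append_right _ hw
    have hrec := orbitProd_le (ls := ls) (K ⊓ S) hrest (fun w hw => hlt w (hsub w hw)) fun w hw =>
      ⟨hK w (hsub w hw), by
        show psi (w.map L).prod • b = b
        exact Fin.ext ((psi_prod (hlt w (hsub w hw)) b).trans (hfix w hw))⟩
    have e : (K ⊓ S ⊓ fixBases ls : Subgroup P0) = K ⊓ fixBases (l :: ls) := by
      rw [fixBases, dif_pos hb, inf_assoc]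
    rw [e] at hrec
    suffices hstep : (l.tree.length + 1) * Nat.card (K ⊓ S : Subgroup P0) ≤ Nat.card K by
      calc orbitProd (l :: ls) * Nat.card (K ⊓ fixBases (l :: ls) : Subgroup P0)
          = (l.tree.length + 1) * (orbitProd ls * Nat.card (K ⊓ fixBases (l :: ls) : Subgroup P0)) := by
            rw [orbitProd, mul_assoc]
        _ ≤ _ := (Nat.mul_le_mul_left _ hrec).trans hstep
    obtain ⟨hn, -⟩ := distinct_nodup hd
    have hmem : ∀ p ∈ orbitPts (l.gens ++ gensOf ls) l.tree l.base, ∃ k ∈ K, ((psi k b : Fin 1408) : ℕ) = p :=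
      orbitPts_mem hlt hK b l.tree [l.base] (fun p hp => ⟨1, one_mem K, by
        rw [List.mem_singleton.1 hp]; simp [hbdef]⟩)
    set pts := orbitPts (l.gens ++ gensOf ls) l.tree l.base
    choose f hfK hfb using hmem
    have hlen : (orbitPts (l.gens ++ gensOf ls) l.tree l.base).length = l.tree.length + 1 := by
      rw [orbitPts, orbitPts_length]; simp [Nat.add_comm]
    let Φ : Fin pts.length × ↥(K ⊓ S) → K := fun x =>
      ⟨f _ (List.getElem_mem x.1.isLt) * x.2.1, mul_mem (hfK _ (List.getElem_mem x.1.isLt)) x.2.2.1⟩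
    have hΦ : Function.Injective Φ := by
      rintro ⟨i, s⟩ ⟨i', s'⟩ he
      have he' := congrArg Subtype.val he
      simp only [Φ] at he'
      have hs : psi s.1 b = b := s.2.2
      have hs' : psi s'.1 b = b := s'.2.2
      have hi : i = i' := by
        have := congrArg (fun g => ((psi g b : Fin 1408) : ℕ)) he'
        simp only [map_mul, Equiv.Perm.mul_apply, hs, hs'] at this
        rw [hfb _ (List.getElem_mem i.isLt), hfb _ (List.getElem_mem i'.isLt)] at this
        exact Fin.ext ((List.Nodup.getElem_inj_iff hn).1 this)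
      subst hi
      exact Prod.ext rfl (Subtype.ext (mul_left_cancel he'))
    have := Nat.card_le_card_of_injective Φ hΦ
    rwa [Nat.card_prod, Nat.card_eq_fintype_card, Fintype.card_fin, hlen] at this

end CfsgLib.Sporadic.HNCoset
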