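import Cfsg.Agent.Lib.Sporadic.HNCoset.Chain

/-!
# Checking deductions among double cosets (owner: helper25)
The fact `(i, a, j, k, m, n)` says `W i · a · t ^ j = n · W k · m`.
-/

set_option autoImplicit false
set_option maxRecDepth 20000

namespace CfsgLib.Sporadic.HNCoset

open CfsgLib.Sporadic

/-- A fact about double coset representatives. -/
structure Edge where
  /-- source representative -/
  i : ℕ
  /-- source word -/
  a : List ℕ
  /-- exponent -/
  j : ℕ
  /-- target representative -/
  k : ℕ
  /-- target word -/
  m : List ℕ
  /-- left word -/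
  n : List ℕ
deriving DecidableEq

/-- Using an earlier fact: stabilising facts, the fact, its direction, the rest. -/
structure Use where
  /-- stabilising facts with inversion flags -/
  h : List (ℕ × Bool)
  /-- the fact -/
  e : ℕ
  /-- whether it is read backwards -/
  rev : Bool
  /-- the rest in the first two letters -/
  b : List ℕ

/-- A derivation: a loop of three or more steps, traced from both ends. -/
structure Deriv where
  /-- start representative -/
  i : ℕ
  /-- start word -/
  a : List ℕ
  /-- steps: zero is `z`, others are powers of `t` -/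
  ops : List ℕ
  /-- number of steps traced forwards -/
  f : ℕ
  /-- number of steps not traced backwards -/
  b : ℕ
  /-- facts used forwards -/
  uf : List Use
  /-- facts used backwards -/
  ub : List Use

/-- The inverse word. -/
noncomputable def winv (w : List ℕ) : List ℕ := w.reverse.map fun x => Nat.xor x 1

/-- Powers of `t`. -/
def tp (j : ℕ) : List ℕ := List.replicate j 6

/-- The six states whose common stabiliser is trivial. -/
def bases : List ℕ := [0, 4, 8, 12, 16, 20]

/-- Letters of the subgroup. -/
noncomputable def isN (w : List ℕ) : Bool := w.all fun k => Nat.blt k 6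

/-- Equality in the subgroup. -/
noncomputable def eqW (u v : List ℕ) : Bool :=
  isN u && (isN v && bases.all fun s => Nat.beq (sWord (u ++ winv v) s) s)

/-- The multiplier of a letter on the exponents of `t`. -/
noncomputable def expOf (k : ℕ) : ℕ := cond (Nat.beq k 0) 2 (cond (Nat.beq k 1) 3 1)

/-- The multiplier of a word. -/
noncomputable def expWord (w : List ℕ) : ℕ :=
  List.rec (motive := fun _ => ℕ) 1 (fun k _ ih => Nat.mod (Nat.mul (expOf k) ih) 5) w

/-- A fact that only says that its word stabilises its representative. -/
noncomputable def isStab (e : Edge) (i : ℕ) : Bool :=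
  Nat.beq e.i i && (Nat.beq e.k i && (Nat.beq e.j 0 && (e.m.isEmpty && (isN e.a && isN e.n))))

/-- Composing stabilising facts. -/
noncomputable def hPair (F : List Edge) (lim i : ℕ) (h : List (ℕ × Bool)) : Option (List ℕ × List ℕ) :=
  List.rec (motive := fun _ => Option (List ℕ × List ℕ)) (some ([], []))
    (fun p _ ih => Option.rec none (fun r =>
      match F[p.1]? with
      | none => none
      | some e => cond (Nat.blt p.1 lim && isStab e i)
          (some (cond p.2 (winv e.a) e.a ++ r.1, cond p.2 (winv e.n) e.n ++ r.2)) none) ih) h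

/-- The result of one power of `t`. -/
noncomputable def useRes (F : List Edge) (lim i : ℕ) (a : List ℕ) (j : ℕ) (u : Use) : Option (ℕ × List ℕ × List ℕ) :=
  match F[u.e]?, hPair F lim i u.h with
  | some e, some (hw, hn) =>
    let A := cond u.rev e.m e.a
    let M := cond u.rev e.a e.m
    let J := cond u.rev (Nat.sub 5 e.j) e.j
    cond (Nat.blt u.e lim && (Nat.beq (cond u.rev e.k e.i) i && (Nat.ble e.j 5 &&
        (isN e.a && (isN e.m && (isN e.n &&
        ((u.b.all fun x => Nat.blt x 4) && (Nat.beq (Nat.mod (Nat.mul j (expWord u.b)) 5) (Nat.mod J 5) &&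
          eqW a (hw ++ A ++ u.b)))))))))
      (some (cond u.rev e.i e.k, M ++ u.b, hn ++ cond u.rev (winv e.n) e.n)) none
  | _, _ => none

/-- Tracing steps. -/
noncomputable def trace (F : List Edge) (lim : ℕ) : List ℕ → List Use → ℕ × List ℕ × List ℕ → Option (ℕ × List ℕ × List ℕ)
  | [], [], s => some s
  | [], _ :: _, _ => none
  | 0 :: ops, us, (i, a, n) => trace F lim ops us (i, a ++ [4], n)
  | (_ + 1) :: _, [], _ => none
  | (j + 1) :: ops, u :: us, (i, a, n) =>
    match useRes F lim i a (j + 1) u with
    | none => none
    | some (k, m, n') => trace F lim ops us (k, m, n ++ n')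

/-- The steps form a loop. -/
noncomputable def loopOK (ops : List ℕ) : Bool :=
  decide (ops = [0, 1, 0, 1, 0, 1]) || (ops.all (fun x => Nat.blt 0 x && Nat.blt x 5) && Nat.beq (ops.sum % 5) 0)

/-- The steps backwards. -/
def backOps (ops : List ℕ) : List ℕ := ops.reverse.map fun x => if x = 0 then 0 else 5 - x

/-- A derived fact is justified by the earlier ones. -/
noncomputable def derivOK (F : List Edge) (q : ℕ) (e : Edge) (d : Deriv) : Bool :=
  isN d.a && (loopOK d.ops && (Nat.ble d.f d.b && (Nat.ble d.b d.ops.length &&
  match trace F q (d.ops.take d.f) d.uf (d.i, d.a, []), trace F q (backOps (d.ops.drop d.b)) d.ub (d.i, d.a, []) with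
  | some (k1, m1, n1), some (k2, m2, n2) =>
    Nat.beq e.i k1 && (Nat.beq e.k k2 &&
    cond (Nat.beq d.b d.f)
      (Nat.beq k1 k2 && (Nat.beq e.j 0 && (e.m.isEmpty && (eqW e.a (m2 ++ winv m1) && eqW e.n (winv n2 ++ n1)))))
      (Nat.beq d.b (d.f + 1) && (Nat.beq e.j (d.ops.getD d.f 0) && (!(Nat.beq e.j 0) &&
        (eqW e.a m1 && (eqW e.m m2 && eqW e.n (winv n1 ++ n2)))))))
  | _, _ => false)))

/-- The justification of a fact: a definition, a letter of the subgroup, or a derivation. -/
inductive Why
  | defn
  | base
  | loop (d : Deriv)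

/-- A fact is justified. -/
noncomputable def factOK (W : ℕ → List ℕ) (F : List Edge) (q : ℕ) (e : Edge) : Why → Bool
  | .defn => decide (W e.k = W e.i ++ e.a ++ tp e.j) && (e.m.isEmpty && e.n.isEmpty)
  | .base => Nat.beq e.i 0 && (Nat.beq e.k 0 && (Nat.beq e.j 0 && (e.m.isEmpty && decide (e.a = e.n))))
  | .loop d => derivOK F q e d

/-- Consecutive facts are justified. -/
noncomputable def factsOK (W : ℕ → List ℕ) (F : List Edge) (why : List Why) (lo len : ℕ) : Bool :=
  (List.range' lo len).all fun q => match F[q]?, why[q]? with
    | some e, some y => factOK W F q e y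
    | _, _ => false

end CfsgLib.Sporadic.HNCoset
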