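import Cfsg.Agent.Lib.Sporadic.HNCoset.Sound

/-!
# From the checks to a bound for the index (owner: helper25)
-/

set_option autoImplicit false
set_option maxRecDepth 20000

namespace CfsgLib.Sporadic.HNCoset

open Cfsg CfsgLib.Sporadic CfsgLib.Sporadic.HNGroup

variable {W : ℕ → List ℕ} {F : List Edge}

theorem derivOK_sound {q : ℕ} {e : Edge} {d : Deriv} (hF : HoldsUpTo W F q) (h : derivOK F q e d = true) :
    Holds W e := by
  simp only [derivOK, Bool.and_eq_true, Nat.ble_eq] at h
  obtain ⟨ha, hloop, hfb, hbl, h⟩ := h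
  split at h
  next k1 m1 n1 k2 m2 n2 hf hb =>
    obtain ⟨hm1, hn1, e1⟩ := trace_sound hF (s := (d.i, d.a, [])) ha rfl hf
    obtain ⟨hm2, hn2, e2⟩ := trace_sound hF (s := (d.i, d.a, [])) ha rfl hb
    dsimp only at e1 e2 hm1 hn1 hm2 hn2
    rw [ev_nil, one_mul] at e1 e2
    rw [backOps_prod fun x hx => loop_small hloop x (List.mem_of_mem_drop hx)] at e2
    have htot := loop_prod hloop
    set A := ((d.ops.take d.f).map opVal).prod with hA
    set B := ((d.ops.drop d.b).map opVal).prod with hB
    simp only [Bool.and_eq_true, Nat.beq_eq] at h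
    obtain ⟨hi, hk, h⟩ := h
    cases hbf : Nat.beq d.b d.f with
    | true =>
      rw [Nat.beq_eq] at hbf
      rw [show Nat.beq d.b d.f = true by simp [hbf], cond_true] at h
      simp only [Bool.and_eq_true, Nat.beq_eq, List.isEmpty_iff] at h
      obtain ⟨h12, hj, hm, hea, hen⟩ := h
      obtain ⟨-, -, va⟩ := eqW_sound hea
      obtain ⟨-, -, vn⟩ := eqW_sound hen
      have hAB : A * B = 1 := by
        rw [← htot, hA, hB, hbf, ← List.prod_append, ← List.map_append, List.take_append_drop]
      have hAB' : A = B⁻¹ := eq_inv_of_mul_eq_one_left hAB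
      rw [← hAB', e1] at e2
      rw [Holds, hi, hk, ← h12, hj, hm, pow_zero, mul_one, ev_nil, mul_one, va, vn, ev_append, ev_append,
        ev_winv hm1, ev_winv hn2]
      rw [← h12] at e2
      calc ev (W k1) * (ev m2 * (ev m1)⁻¹)
          = (ev n2)⁻¹ * (ev n2 * ev (W k1) * ev m2) * (ev m1)⁻¹ := by group
        _ = (ev n2)⁻¹ * (ev n1 * ev (W k1) * ev m1) * (ev m1)⁻¹ := by rw [e2]
        _ = (ev n2)⁻¹ * ev n1 * ev (W k1) := by group
    | false =>
      rw [hbf, cond_false] at h
      simp only [Bool.and_eq_true, Nat.beq_eq, Bool.not_eq_true'] at h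
      obtain ⟨hb', hj, hj0, hea, hem, hen⟩ := h
      obtain ⟨-, -, va⟩ := eqW_sound hea
      obtain ⟨-, -, vm⟩ := eqW_sound hem
      obtain ⟨-, -, vn⟩ := eqW_sound hen
      have hj0' : e.j ≠ 0 := fun he => by simp [he] at hj0
      have hlt : d.f < d.ops.length := by omega
      have hop : opVal (d.ops.getD d.f 0) = T ^ e.j := by rw [← hj, opVal, if_neg hj0']
      have hAB : A * T ^ e.j * B = 1 := by
        rw [← htot, ← hop, hA, hB, hb', List.getD_eq_getElem _ _ hlt]
        conv_rhs => rw [← List.take_append_drop d.f d.ops, List.drop_eq_getElem_cons hlt]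
        rw [List.map_append, List.prod_append, List.map_cons, List.prod_cons, mul_assoc]
      have hAB' : A * T ^ e.j = B⁻¹ := eq_inv_of_mul_eq_one_left hAB
      rw [← hAB'] at e2
      rw [Holds, hi, hk, va, vm, vn, ev_append, ev_winv hn1]
      calc ev (W k1) * ev m1 * T ^ e.j
          = (ev n1)⁻¹ * (ev n1 * ev (W k1) * ev m1) * T ^ e.j := by group
        _ = (ev n1)⁻¹ * (ev (W d.i) * ev d.a * A) * T ^ e.j := by rw [e1]
        _ = (ev n1)⁻¹ * (ev (W d.i) * ev d.a * (A * T ^ e.j)) := by group
        _ = _ := by rw [e2]; group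
  next => simp at h

theorem factOK_sound (hW0 : W 0 = []) {q : ℕ} {e : Edge} {y : Why} (hF : HoldsUpTo W F q)
    (h : factOK W F q e y = true) : Holds W e := by
  cases y with
  | defn =>
    simp only [factOK, Bool.and_eq_true, decide_eq_true_eq, List.isEmpty_iff] at h
    obtain ⟨hW, hm, hn⟩ := h
    rw [Holds, hW, hm, hn, ev_nil, mul_one, one_mul, ev_append, ev_append, ev_tp]
  | base =>
    simp only [factOK, Bool.and_eq_true, decide_eq_true_eq, Nat.beq_eq, List.isEmpty_iff] at h
    obtain ⟨hi, hk, hj, hm, ha⟩ := h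
    rw [Holds, hi, hk, hj, hm, ha, hW0]
    simp
  | loop d => exact derivOK_sound hF h

/-- All facts of a checked list hold. -/
theorem facts_hold (hW0 : W 0 = []) {why : List Why} (h : factsOK W F why 0 F.length = true) :
    HoldsUpTo W F F.length := by
  intro q
  induction q using Nat.strong_induction_on with
  | _ q ih =>
    intro e hq he
    have h' := List.all_eq_true.1 h q (List.mem_range'_1.2 ⟨Nat.zero_le _, by omega⟩)
    rw [he] at h'
    cases hy : why[q]? with
    | none => rw [hy] at h'; simp at h'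
    | some y =>
      rw [hy] at h'
      exact factOK_sound hW0 (fun q' e' hq' he' => ih q' hq' e' (by omega) he') h'

/-- A power of `t` from a point leads to a point. -/
def Res (W : ℕ → List ℕ) (i : ℕ) (w : List ℕ) (j : ℕ) : Prop :=
  ∃ k m n, k < 9 ∧ isN m = true ∧ isN n = true ∧ ev (W i) * ev w * T ^ j = ev n * ev (W k) * ev m

/-- Everything that lies over a state is resolved. -/
def StateRes (W : ℕ → List ℕ) (i s : ℕ) : Prop :=
  ∀ c b j, c < 352 → (b.all fun x => Nat.blt x 4) = true → j * expWord b % 5 ≠ 0 →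
    4 * c + (j * expWord b % 5 - 1) = s → Res W i (repW c ++ b) j

theorem expWord_bound : ∀ {b : List ℕ}, (b.all fun x => Nat.blt x 4) = true → 1 ≤ expWord b ∧ expWord b ≤ 4
  | [], _ => by simp [expWord]
  | k :: b, h => by
    simp only [List.all_cons, Bool.and_eq_true] at h
    have hk : k < 4 := by simpa using h.1
    obtain ⟨h1, h2⟩ := expWord_bound h.2
    have e : expWord (k :: b) = (expOf k * expWord b) % 5 := rfl
    rw [e]
    interval_cases hb : expWord b <;> interval_cases k <;> decide

theorem expWord_append : ∀ (u v : List ℕ), expWord (u ++ v) % 5 = expWord u * expWord v % 5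
  | [], v => by simp [expWord]
  | k :: u, v => by
    have e : ∀ w, expWord (k :: w) = (expOf k * expWord w) % 5 := fun w => rfl
    rw [List.cons_append, e, e, Nat.mod_mod, Nat.mul_mod, expWord_append u v]
    conv_rhs => rw [Nat.mul_mod, Nat.mod_mod, ← Nat.mul_mod]
    rw [← Nat.mul_mod, Nat.mul_assoc]

/-- The steps on representatives are correct. -/
theorem step_sound (h : forallLt 5 (fun x => forallLt 352 fun c => stepOne x c) = true)
    {x : ℕ} (hx : x < 6) {c : ℕ} (hc : c < 352) {v : ℕ} (hv : v < 4) :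
    ∃ c' β, c' < 352 ∧ (β.all fun k => Nat.blt k 4) = true ∧ ev (x :: repW c) = ev (repW c' ++ β) ∧
      sImg x (4 * c + v) = 4 * c' + ((expWord β * (v + 1)) % 5 - 1) := by
  suffices h5 : ∀ y < 5, ∃ c' β, c' < 352 ∧ (β.all fun k => Nat.blt k 4) = true ∧ ev (y :: repW c) = ev (repW c' ++ β) ∧
      sImg y (4 * c + v) = 4 * c' + ((expWord β * (v + 1)) % 5 - 1) by
    by_cases hx5 : x = 5
    · subst hx5
      obtain ⟨c', β, h1, h2, h3, h4⟩ := h5 4 (by norm_num)
      refine ⟨c', β, h1, h2, ?_, ?_⟩
      · rw [← h3, ev_cons, ev_cons, gl_small (by norm_num), gl_small (by norm_num), L_five,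
          inv_eq_of_mul_eq_one_right L_z_sq]
      · rw [← h4]
        have := forallLt_elim sImg_five (show 4 * c + v < 1408 by omega)
        exact Nat.eq_of_beq_eq_true this
    · exact h5 x (by omega)
  intro y hy
  have h' := forallLt_elim (forallLt_elim h hy) hc
  simp only [stepOne, Bool.and_eq_true, Nat.blt_eq] at h'
  obtain ⟨hto, hb, heq, hs⟩ := h'
  exact ⟨_, _, hto, hb, (eqW_sound heq).2.2, Nat.eq_of_beq_eq_true (forallLt_elim hs hv)⟩
where
  sImg_five : forallLt 1408 (fun s => Nat.beq (sImg 5 s) (sImg 4 s)) = true := by decide +kernel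

/-- Every word times a representative is a representative times a short remainder. -/
theorem decomp (h : forallLt 5 (fun x => forallLt 352 fun c => stepOne x c) = true) :
    ∀ {w : List ℕ}, isN w = true → ∀ {c : ℕ}, c < 352 → ∀ {b : List ℕ}, (b.all fun k => Nat.blt k 4) = true →
      ∃ c' b', c' < 352 ∧ (b'.all fun k => Nat.blt k 4) = true ∧ ev (w ++ (repW c ++ b)) = ev (repW c' ++ b') ∧
        sWord w (4 * c + (expWord b - 1)) = 4 * c' + (expWord b' - 1)
  | [], _, c, hc, b, hb => ⟨c, b, hc, hb, rfl, rfl⟩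
  | x :: w, hw, c, hc, b, hb => by
    obtain ⟨hx, hw'⟩ : x < 6 ∧ isN w = true := by simpa [isN] using hw
    obtain ⟨c1, b1, hc1, hb1, he1, hs1⟩ := decomp h hw' hc hb
    obtain ⟨h1, h2⟩ := expWord_bound hb1
    obtain ⟨c', β, hc', hβ, he, hs⟩ := step_sound h hx hc1 (show expWord b1 - 1 < 4 by omega)
    have hall : ((β ++ b1).all fun k => Nat.blt k 4) = true := by rw [List.all_append, hβ, hb1]; rfl
    refine ⟨c', β ++ b1, hc', hall, ?_, ?_⟩
    · rw [List.cons_append, ev_cons, he1, ev_append, ← mul_assoc, ← ev_cons, he]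
      simp [mul_assoc]
    · show sImg x (sWord w (4 * c + (expWord b - 1))) = _
      rw [hs1, hs, Nat.sub_add_cancel h1, ← expWord_append, Nat.mod_eq_of_lt]
      obtain ⟨-, h4⟩ := expWord_bound hall
      omega

end CfsgLib.Sporadic.HNCoset
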