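import Cfsg.Agent.Lib.Sporadic.HNCoset.Cover

set_option autoImplicit false
set_option maxRecDepth 20000
set_option Elab.async false

/-! The facts and their reasons (owner: helper25). -/

namespace CfsgLib.Sporadic.HNCoset

/-- the representatives -/
def repList : List (List ℕ) := [[],
  [6],
  [6,4,6,6],
  [6,4,6,6,6],
  [6,4,3,4,6,6],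
  [6,4,3,4,3,4,6],
  [6,4,6,6,3,4,6,6],
  [6,4,3,4,6,6,4,3,4,6],
  [6,4,6,6,3,4,6,6,1,2,4,6]]

/-- a representative -/
def W (k : ℕ) : List ℕ := repList.getD k []

/-- facts -/
def facts0 : List Edge := [
  ⟨0,[],1,1,[],[]⟩,
  ⟨1,[4],2,2,[],[]⟩,
  ⟨1,[4],3,3,[],[]⟩,
  ⟨1,[4,3,4],2,4,[],[]⟩,
  ⟨1,[4,3,4,3,4],1,5,[],[]⟩,
  ⟨2,[3,4],2,6,[],[]⟩,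
  ⟨4,[4,3,4],1,7,[],[]⟩,
  ⟨6,[1,2,4],1,8,[],[]⟩,
  ⟨0,[0],0,0,[],[0]⟩,
  ⟨0,[2],0,0,[],[2]⟩,
  ⟨0,[4],0,0,[],[4]⟩,
  ⟨1,[1,2,4,2,4,3,4,0,2,0,2,2,0,2,2,0,2,0,3,3,0,3,3,0,3,0,3],1,1,[3,4,3,4,1,3,4,3,0,2,0,2,2,0,3,0,3,3,0,3,0,2,2,0,2,0,2,1,3,3],[1,2,4,2,4,3,4,3,3,0,2,0,2,0,2,0,3,3,0,3,0,3,3,0,2,1]⟩,
  ⟨1,[2,0,3,0,3,3,0,2,2,0,2,0,3,0,3,0,2,0,3,3,1],1,1,[2,0,3,0,3,3,0,2,2,0,2,0,3,0,3,0,2,0,3,3,0],[0,0]⟩,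
  ⟨1,[1,2,1,2,1,2,2,4,2,2,0,2,0,2,2,0,2,2,0,2,0,2,0,2,2,1],1,1,[3,1,3,1,3,3,4,0,3,0,3,0,3,0,2,0,2,2,0,2,2,0,2,2,0,2,2],[1,2,1,2,1,2,2,4,0,3,0,2,0,2,2,2,0,3,0,3,0,3,0]⟩,
  ⟨1,[2,2,2,0,3,0,3,3,0,3,3,0,2,0,2,2,0,2,1,2,2],3,1,[0,2,2,2,0,3,0,3,3,0,3,3,0,2,0,2,2,0,2,0,2,2],[0]⟩,
  ⟨1,[2,1,2,1,2,2,4,3,0,2,0,3,3,0,3,0,2,2,2,0,2,0,2],1,1,[3,1,3,3,3,4,0,3,0,3,0,3,3,0,2,0,2,0,2,2,1,2],[2,1,2,1,2,2,4,2,2,2,0,2,2,2,0,2,2,2,0,2,2,2,0,3,3]⟩,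
  ⟨1,[1,3,4,3,4,1,3,4,3,3,0,3,0,2,2,0,2,0,3,0,3,3,1,3,3],1,1,[2,4,2,4,3,4,2,0,2,0,2,0,3,3,0,3,0,2,2,0,3,0,3,3],[1,3,4,3,4,1,3,4,0,3,0,3,0,3,1,3]⟩,
  ⟨1,[2,2,4,2,4,3,4,0,3,0,3,0,2,0,2,2,0,2,0,2,2,0,2,2,0,3,0,3],1,1,[3,4,3,4,1,3,4,3,3,0,3,0,2,2,0,3,0,2,2,2,0,2,0,3,0,3,0,3,3,1,3],[2,2,4,2,4,3,4,0,2,0,2,0,2,0,2,2,0,2,0,2,0,3,3]⟩,
  ⟨1,[2,2,4,3,0,3,0,2,0,2,0,2,2,0,2,2,0,3,3,0,2,2,0,2,2],1,1,[1,3,3,4,2,0,3,3,0,3,0,3,3,0,3,0,2,0,2,1],[2,2,4,0,3,3,0,2,0,2,0,2,2,0,2,0,2]⟩,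
  ⟨1,[2,1,3,3,4,2,0,2,2,0,2,0,3,0,2,2,0,3,0,3,0],1,1,[1,3,1,3,3,4,2,0,2,0,2,0,3,0,3,3,0,3,0,2,2,0,2,0,2,0,3,1],[2,1,3,3,4,0,2,2,0,3,0,3,0,3,3,0,3,0,2,2,1]⟩,
  ⟨1,[1,2,2,4,0,2,0,2,2,0,2,0,3,0,2,2,0,3,0,3],1,1,[2,1,3,3,3,4,2,2,0,2,0,2,2,0,3,3,0,2,0,2,2,0,2,1,3,3],[1,2,2,4,3,0,3,3,0,2,0,3,3,0,3,0,2,2]⟩,
  ⟨1,[1,2,2,4,2,4,3,4,3,0,3,0,3,3,0,3,3,0,3,3,0,2,2,1,2,2,2],1,1,[3,1,2,1,3,1,3,3,4,0,3,3,0,3,3,0,2,2,0,2,2,1,2,2],[1,2,2,4,2,4,3,4,3,0,2,0,2,0,2,0,3,0,3,0,3,0,2,2,1]⟩,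
  ⟨1,[1,3,1,2,1,2,2,4,3,3,0,2,2,0,3,3,0,3,0,2,2,0,2,0,2,1],1,1,[2,4,2,4,3,4,0,3,3,0,3,3,0,3,0,3,3,0,2,0,2,2,0,3],[1,3,1,2,1,2,2,4,0,3,3,0,3,0,3,0,2,0,2,0,2,0,3,3,0,3,1,2]⟩,
  ⟨1,[1,3,4,0,2,0,2,2,0,2,0,2,2,0,3,3,0,2,0,2,2,0,2,1,2],1,1,[1,3,1,3,1,3,3,4,0,3,0,3,0,3,0,2,0,2,2,0,2,0,3,3,0,3,0,3,0,2,0],[1,3,4,2,2,0,2,2,0,2,0,2,0,3,3,0]⟩,
  ⟨1,[4,2,4,1,3,3,4,0,2,2,0,2,2,0,3,3,0,2,2,0,2,2,2],1,1,[3,1,2,1,3,1,3,3,4,3,0,2,2,2,0,2,2,0,3,3,0,3,1,3],[4,2,4,1,3,3,4,0,2,2,2,0,3,0,2,2,0,3,0,2,2,2,0,2,0]⟩,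
  ⟨1,[2,1,3,1,3,3,3,4,0,3,0,3,0,2,0,2,0,2,2,0,3,0,3,1,2,2],1,1,[2,2,4,3,3,0,3,3,0,2,0,2,2,0,2,0,3,3,0,3],[2,1,3,1,3,3,3,4,0,3,0,2,0,2,0,3,0,2,2,2,0,2,0,2,2,0]⟩,
  ⟨1,[1,3,3,3,4,0,3,3,0,2,2,0,3,3],1,1,[1,3,1,3,1,3,3,4,0,2,0,2,0,2,0,2,2,0,2,0,3,0,3],[1,3,3,3,4,0,2,2,2,0,2,2,2,0,2,0,2,0,2,2,0,2,1]⟩,
  ⟨1,[4,2,1,3,4,3,4,3,0,3,0,2,0,2,2,0,3,3,0,3,0,3,3,0,2,2,0,2,1,3],1,1,[3,1,3,3,3,4,3,0,2,0,3,3,0,3,0,2,0,2,2,0,2,2,2,1,3],[4,2,1,3,4,3,4,0,2,0,2,0,3,3,0,2,0,2,2,0,3,0,3,0,2,0,3]⟩,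
  ⟨1,[1,3,1,3,3,3,4,3,3,0,2,0,2,0,2,2,0,3,3,0,2,0,2,2,0,2,2,1],1,1,[2,2,4,3,0,3,0,2,0,2,0,3,0,2,2,2,0,2],[1,3,1,3,3,3,4,0,2,2,0,3,0,2,2,2,0,2,0,3,3,1,2,2]⟩,
  ⟨1,[4,2,2,4,3,3,4,2,2,0,2,0,3,0,2,2,0,2,2,0,2,2,0,2,1,2,2,2],1,1,[4,2,2,4,3,3,4,0,3,0,3,0,2,0,3,3,0,3,3,0,3,0,2,2,2],[4,2,2,4,3,3,4,0,3,0,2,2,2,0,2,0,3,3,0,3,3,0,3,3,0,2,2]⟩,
  ⟨1,[3,1,3,1,3,3,3,4,0,3,0,3,0,2,0,2,2,0,2,2,2,0,3,3,0,2,1,3],1,1,[1,2,1,3,1,3,3,3,4,2,0,2,0,2,2,2,0,2,0,2,2,0,3,3,0,3,3,0,2],[3,1,3,1,3,3,3,4,2,0,3,0,3,0,3,0,2,2,0,2,0,2,0,3,0,2]⟩,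
  ⟨1,[2,1,2,2,4,0,3,3,0,3,3,0,3,0,2,2,1,2,2],1,1,[1,3,3,4,3,0,2,0,3,3,0,3,0,2,0,2],[2,1,2,2,4,0,3,3,0,2,1,2]⟩,
  ⟨1,[1,2,1,2,2,4,2,0,2,2,0,3,0,2,2,0,2,2,2,0,3,3,0,3],1,1,[1,2,1,3,3,3,4,0,2,0,3,3,0,2,2,2,0,2,0,2,2,0,2,0,3,0,3],[1,2,1,2,2,4,0,2,2,2,0,2,0,3,3,0,3]⟩,
  ⟨1,[1,2,1,3,1,3,3,4,0,2,0,2,0,3,3,0,3,0,2,0,2,0,3,0,3,0,2],1,1,[3,1,2,1,3,3,3,4,2,0,3,0,3,0,2,0,2,0,2,2,2,0,3,3,0,3,0],[1,2,1,3,1,3,3,4,0,3,0,3,0,2,0,2,2,2,0,2,0,2,0,3,0,2,2,1,3,3]⟩,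
  ⟨1,[3,1,3,3,4,2,0,2,0,2,2,0,3,3,0,2,1,3],1,1,[1,3,4,3,4,1,3,4,3,0,2,2,0,2,0,2,2,0,2,0,3,3,0,3,0,3,3,1,2,2],[3,1,3,3,4,2,0,2,2,2,0,2,2,0,2,0,2,0,3]⟩,
  ⟨1,[4,0,2,0,2,0,2,0,2,2,0,2,2,2,1,3],1,1,[3,4,0,2,0,2,0,2,0,2,2,0,2,2,2,0,3],[4,0,0,2]⟩,
  ⟨1,[3,3,4,0,2,0,3,3,0,2,0,2,2,0,3,3,0,3,3,0,2,0],1,1,[3,1,2,1,2,2,4,0,3,0,3,3,0,2,0,3,3,0,2,0,2,2,0,3,0,3,3,0,2,1,3],[3,3,4,2,0,2,0,3,0,3,0,3,0,2,0,2,0,2,1,3,3]⟩,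
  ⟨1,[1,2,4,2,0,3,3,0,3,0,2,0,2,2,0,2,0,2,2,0,2,2],1,1,[2,4,3,0,3,3,0,2,0,3,3,0,2,0,2,2,0,3,0,3,1],[1,2,4,0,2,2,2,0,2,0,2,2,0,3,0,2,2,0,2,1,2,2]⟩,
  ⟨1,[3,3,1,3,3,4,0,2,0,2,2,0,2,0,2,2,0,3,0,3,0,2,2],1,1,[1,3,3,1,3,3,4,0,3,3,0,3,3,0,2,2,0,2,2,0,2,2,1],[3,3,1,3,3,4,2,0,3,3,0,3,0,3,3,0,3,3,0,2,0,2,2,1,3,3]⟩,
  ⟨1,[4,2,4,3,4,3,3,0,3,0,2,0,2,0,3,0,3,3,0,2,0,2,0,3,0],1,1,[2,1,2,2,4,3,3,0,2,2,0,2,2,0,2,0,2,0,3,0,3,1,2],[4,2,4,3,4,0,2,2,0,3,3,0,3,0,3,3,0,2,2,0,3,0,2,2,2]⟩]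

/-- facts -/
def facts1 : List Edge := [
  ⟨1,[2,1,3,1,3,3,4,3,3,0,2,2,0,2,0,3,3,0,2,0,3,3,0,3,0,2,1,2,2],1,1,[1,2,4,2,4,3,4,0,3,3,0,3,0,3,0,2,0,2,0,2,0,3,3,0,3,0,2,2,0],[2,1,3,1,3,3,4,0,2,2,0,2,0,2,0,3,0,3,0,3,0,2,2,0,2,0,2,2,1]⟩,
  ⟨1,[4,3,4,2,4,0,3,3,0,2,2,0,2,0,2,2,0,2,0,3,3,0,2,0,2,0,2],1,1,[4,3,4,2,4,0,2,0,3,3,0,3,0,3,3,0,3,0,2,2,0,2,2,0,2,1,2],[4,3,4,2,4,3,1,2]⟩,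
  ⟨1,[2,0,3,3,0,3,0,3,0],0,1,[],[2,0,3,3,0,3,0,3,0]⟩,
  ⟨3,[2,2,0,2,0,2,2,0,2,0,3,3,0,3,0,2,2,0,2,2,1,2,2,2],2,1,[2,2,4,3,0,2,2,2,0,3,3,0,2,0,2,2,0,2,1,2,2],[4,0,3,0,3,0,3,3,0,2,2,0,2,2,0,3]⟩,
  ⟨1,[4,1,3,4,1,3,4,0,3,0,2,2,0,2,0,3,0,3,0,3,3,0,3,3,0,3,3],1,2,[2,2,0,3,3,0,3,0,2,2,0,3,0,3,3,0,2,0,2,2,0],[4,1,3,4,1,3,4,3,3,0,2,0,3,3,0,2,2,0,2,0,3,3,0,3,0,2,2,2,0]⟩,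
  ⟨1,[4,3,4,2,4,3,3,3,4,0,3,0,3,3,0,3,0,3,0,2,0,3,3,0,3,3,0],1,4,[2,4,0,3,3,0,2,2,0,3,3,0,3,0,3,0,3,3,1,2],[1,2,1,3,1,3,3,3,4,0,2,2,2,0,2,0,3,0,3,0,2,0,2,2,0,3,3]⟩,
  ⟨2,[0,2,2,0,2,0,3,0,3,3,0,3,3,0,2,2,2],4,3,[0,2,2,0,2,0,3,0,3,3,0,3,3,0,2,2,2],[]⟩,
  ⟨1,[1,3,1,3,3,3,4,2,0,3,0,3,0,2,0,2,0,3,0,2,2,0,2,2,0,3,3,0,3],1,3,[2,0,2,0,2,0,2,2,0,2,0,3,0,3,3,0,2,0,3,3,1,3,3],[3,3,0,2,2,0,2,0,2,2,2,0,2,2,0,2,0,2,2,0,3,3,0]⟩,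
  ⟨1,[3,3,0,2,2,0,2,0,2,2,2,0,2,2,0,2,0,2,2,0,3,3,0],0,1,[],[3,3,0,2,2,0,2,0,2,2,2,0,2,2,0,2,0,2,2,0,3,3,0]⟩,
  ⟨5,[4,3,4,2,4,0,2,2,2,0,2,0,3,3,0,2,0,2,2,0,3,0,3,3,0,3,0],1,4,[1,2,1,2,2,4,2,0,3,3,0,2,0,2,0,2,2,0,3,3,0,2,0,3,3,0,3,1],[3,3,0,2,2,0,2,0,2,2,0,2,0,2,1,3]⟩,
  ⟨4,[2,0,3,0,2,2,0,2,0,2,2,0,2,0,3,0,3,0,2],1,4,[2,0,2,2,2,0,2,2,0,2,0,2,2,0,3,3,0,3,0,2,0,2,0,2,0],[2,0,3,3,0,2,0,2,0,2,2,0,3,0,3,0,2,0,2,2,2]⟩,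
  ⟨4,[2,1,3,1,3,3,4,3,0,2,2,0,3,0,3,3,0,3,0,3,3,0,2,2,0,2,0,3,0,3],1,5,[2,1,3,1,3,3,3,4,0,2,0,3,3,0,2,2,0,2,0,2,2,0,2,0,3,3,0,3,3],[3,0,2,2,0,3,0,3,3,0,3,0,3,0,2,0,2,2,0,3]⟩,
  ⟨4,[1,2,4,3,0,3,0,3,0,2,0,2,2,0,2,0,3,3,0,3,3,0,2,0,2,2,0,2],1,2,[4,1,3,4,1,3,4,2,2,0,2,2,0,2,2,0,2,0,3,3,0,2,0,2,0,2],[0,2,2,2,0,2,0,2,0,3,0,3,3,0,3,0,3,0]⟩,
  ⟨5,[0,3,3,0,3,0,3,0,2,0,2,2,0,3,0,3,0,3,1,3],4,5,[3,3,0,2,0,2,0,2,0,3,0,2,2,1,2],[3,3,0,3,0,3,0,2,0,2,0,2,0,3,0,2,2,0,2,0,3,1,2,2]⟩,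
  ⟨4,[3,1,2,1,2,2,4,2,0,2,2,2,0,2,0,3,3,0,2,0,2,2,2,0,2,1],1,5,[2,1,2,2,4,0,2,0,3,3,0,3,3,0,3,0,2,2,0,3,0,2,2,0,2,0],[2,2,2,0,2,0,2,2,2,0,2,2,2,0,2]⟩,
  ⟨4,[2,1,2,1,3,3,3,4,3,0,2,0,3,3,0,3,3,0,3,0,3,0,2,2,2,1,2],1,5,[1,3,3,4,0,2,0,3,0,2,2,0,2,2,0,2],[2,0,2,2,2,0,3,3,0,3,0,3,0,2,0,3,3,0,2,2,0,3]⟩,
  ⟨4,[1,3,3,4,0,3,0,2,2,0,2,0,2,0,3,0,2,2,0,3,3,1,2],1,5,[1,3,3,4,3,0,2,0,2,2,0,2,2,0,3,0,3,0,3,0,3,3,0,3,0,2],[0,2,0,3,0,2,2,0,2,0,3,3,0,3,3,0,2,2,0,2,2,2]⟩,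
  ⟨3,[3,3,1,3,3,4,2,0,3,3,0,3,0,3,3,0,3,0,2,1,2],1,4,[1,3,4,2,0,2,0,3,0,3,0,3,0,2,0,3,3,0,3,0,2,0,2,1],[0,3,0,2,0,2,0,2,0,3,0,3,0,2,0,2,2,0,3,0,3,3,0,3,0]⟩,
  ⟨3,[1,3,1,3,1,3,3,4,2,0,3,0,2,2,0,2,2,2,1,3],1,4,[1,2,2,4,3,0,2,0,2,0,3,0,3,0,3,3,0,3,3,0,2,2,0],[0,3,3,0,3,0,2,2,0,3,0,3,3,0,2,2,0,2,0,3]⟩,
  ⟨2,[1,3,4,2,0,2,2,0,2,2,0,2,0,3,0,3,0,2,0,2,2,1,2],1,4,[4,0,3,3,0,2,2,0,3,0,3,3,0,2,0,2,1],[3,3,0,2,0,2,0,2,2,0,3,3,0,2,0,2,2,0,2,2,0]⟩,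
  ⟨5,[2,0,3,0,3,0,2,2,0,2,2,0,2,2,0,3,3,1,3,3],4,5,[3,0,2,0,2,0,2,2,2,0,2,0,2,2,0,3,0,2],[0,3,3,0,2,0,2,0,3,0,3,3,0,3,0,2,2,0,2,2,0,2,1]⟩,
  ⟨2,[3,1,2,1,2,2,4,2,0,2,0,2,2,0,3,0,3,0,3,0,3,3,1,2],1,4,[4,2,2,0,2,2,0,2,0,3,3,0,3,0,2,0,2,2,1,3],[0,3,0,3,3,0,2,0,3,3,0,2,0,2,2,0,2,2,0,3]⟩,
  ⟨5,[1,3,1,3,3,4,0,3,0,3,3,0,2,0,2,2,0,3,0,3,3,0,3,0,2,2,0,2,0],1,4,[3,3,1,3,3,4,3,0,3,0,3,3,0,2,2,0,2,0,2,2,1,3],[0,3,0,3,0,3,3,0,3,0,2,2,0,2,2,0,2,0,2,2]⟩,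
  ⟨5,[1,2,2,4,0,3,0,3,0,3,0,2,0,3,3,0,2,0,2,2,0,3,1,3],1,4,[2,1,2,1,2,2,4,2,0,3,0,3,0,2,2,0,2,2,0,2,2,0,3,0,3,3,0,3,1,3],[0,3,0,2,2,0,2,2,0]⟩,
  ⟨5,[2,1,2,1,3,3,3,4,0,2,0,3,3,0,2,0,2,0,2,2,0,3,3,0,2,0,2,2,0,3,0,3],1,4,[2,1,3,3,3,4,2,0,3,3,0,3,3,0,3,0,2,2,0,3,0,2,2,0,2,0],[3,3,0,3,0,2,0,2,2,0,3,0,3,0,2,0,3,3,0,2]⟩,
  ⟨5,[4,3,4,1,3,4,2,0,3,0,3,0,2,2,0,2,0,2,0,2,2,2,1,2,2],1,4,[1,2,4,2,4,3,4,2,2,2,0,2,0,2,2,0,2,0,3,0,3,0,2,0,2,2,0,3,0],[3,0,3,0,2,0,2,0,2,2,0,2,2,2,0,3,0,2,2,0,3,3]⟩,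
  ⟨3,[3,4,3,4,1,3,4,2,0,2,0,2,2,0,3,3,0,2,0,2,2,0,3,3,0,2,2,1,2],1,4,[1,3,4,3,4,1,3,4,2,2,0,2,0,3,3,0,3,3,0,3,0,3,0,2,1,2,2],[2,0,3,0,3,0,3,0,2,0,2,0,2,0,3,0,2]⟩,
  ⟨2,[0,2,0,3,0,2,2,0,3,0,3,3,0,3,0,2],4,2,[3,0,2,0,2,2,0,3,0,3,0,3,0,2,0,2,0,2,2,2,0,2,2],[4,2,2,0,2,0,3,3,0,3,0,3,0,2,0,2,0,2,2,1,2,2,2]⟩,
  ⟨4,[1,2,1,3,1,3,3,3,4,0,2,2,0,2,2,0,3,0,2,2,0,2,2,2,0,2,0,3,3,0,2],1,5,[1,2,4,2,4,3,4,3,3,0,2,2,0,3,3,0,2,2,0,2,0,2,2,2,0,2,2],[2,2,2,0,3,0,2,2,0,2,2,0,3,3,0,3,3,1,3]⟩,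
  ⟨5,[1,3,1,2,1,2,2,4,3,0,3,0,2,0,2,0,3,0,2,2,0,2,2,2,0,2,0,2,0],1,4,[4,2,2,4,3,3,4,0,3,0,3,0,3,0,2,2,0,2,2,0,2,2,0,3,1,3,3],[2,0,3,3,0,2,0,3,3,0,2,0,2,2,1,3]⟩,
  ⟨4,[4,3,4,2,4,2,0,2,0,2,2,0,2,2,0,2,2,0,3,3,1,2,2,2],1,5,[1,2,2,4,2,2,0,3,0,2,2,0,3,0,3,3,0,2,0,3,3,1,2,2,2],[2,0,3,0,3,0,2,0,2,0,3,0,3,0,3,0,2,0,2,1]⟩,
  ⟨4,[2,2,4,2,4,3,4,3,0,3,0,3,0,2,2,0,2,0,3,0,3,0,2,2,2,0],1,5,[2,4,3,3,0,3,3,0,3,3,0,2,2,2,0,2,0,3,3,0],[2,2,0,3,0,3,3,0,2,2,0,2,0,2,0,2,2,2,0,2,0]⟩,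
  ⟨4,[1,3,1,3,3,3,4,2,0,2,0,3,0,3,3,0,3,3,0,3],1,3,[2,1,3,1,3,3,3,4,2,0,2,0,3,0,3,0,3,3,0,3,3,0,3,0,2,2,0,2,2,0],[3,0,2,2,0,2,0,3,3,0,2,0,2,2,0,3,0,3,3,0,2]⟩,
  ⟨4,[3,1,3,3,3,4,0,3,0,3,3,0,2,0,3,3,0,2,2,0],1,5,[1,3,3,3,4,3,0,2,2,0,2,0,2,2,0,2,2,0,2],[0,2,0,2,2,0,2,2,0,3,0,3,3,0,2,2,0,2,2,0,2,2]⟩,
  ⟨4,[2,1,3,3,4,3,0,2,2,0,3,3,0,3,0,2,0,2,0,3,0,2,2,1,2],1,5,[1,2,4,3,3,0,3,3,0,2,0,3,3,0,2,2,2,0,3,0,3,1,3],[2,2,0,2,0,3,0,3,0,2,2,0,2,2,0,2,2,0,3,0]⟩,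
  ⟨5,[3,1,3,1,3,3,3,4,3,0,3,0,2,0,2,2,0,3,3,0,3,0,3,3,0,3,0,2,2,0,3,0],1,4,[1,2,1,3,1,3,3,3,4,0,3,0,3,0,3,0,2,0,2,2,0,2,0,3,3,1,3,3],[2,0,2,0,3,0,3,3,0,2,2,0,2,2,0,2,2,0,3,0,3,3]⟩,
  ⟨4,[3,1,3,1,3,3,3,4,3,0,2,2,2,0,3,0,2,2,0,2,2,0,2,2,0,3,3,1],1,5,[4,3,4,1,3,4,3,0,3,3,0,3,0,3,0,3,3,0,2,2,2,0,3,0,2],[0,2,0,3,3,0,2,2,0,2,0,2,2,2,0,3,0,2,2,0,2,2]⟩,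
  ⟨4,[1,3,1,2,1,2,2,4,0,3,3,0,2,2,0,3,3,0,3,0,3,0,2,0,2,0],1,5,[4,3,4,1,3,4,3,0,3,0,3,0,2,0,3,3,0,3,0,2,2,0,2,2,0,2,2,1,3],[0,2,2,2,0,2,2,0,3,0,2,2,0,2,1,2]⟩,
  ⟨3,[1,3,4,0,2,0,3,0,3,0,3,0,2,2,2,0,3,3,0,2,0,3,3],1,4,[2,4,2,4,3,4,3,3,0,3,0,3,0,2,0,3,3,0,3,0,3,3,0,2,2,2,1,3],[2,0,2,0,3,0,3,0,3,0,2,0,3,3,0,3,0,2,0,2,2,1,3]⟩,
  ⟨5,[2,2,4,2,4,3,4,3,3,0,2,2,0,3,3,0,3,0,2,2,0,2,2,2],1,4,[4,3,4,1,3,4,2,2,2,0,2,0,3,0,3,0,3,3,0,3,0,2,2,0,3,1,2,2],[0,3,3,0,3,0,3,0,2,2,2,0,2,0,3,0,3,3,0,2]⟩]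

/-- facts -/
def facts2 : List Edge := [
  ⟨3,[1,2,4,3,0,2,2,0,3,0,3,3,0,2,2,2,0,2,1],1,4,[2,4,2,4,3,4,3,0,2,2,2,0,3,3,0,2,0,2,2,0,2,0,3,0,3,3,1],[0,3,3,0,2,2,0,3,0,3,3,0,3,0,3,3,0,2,2,0,2]⟩,
  ⟨3,[2,1,3,3,3,4,3,0,2,0,2,0,2,2,0,2,0,3,3,0,3,0,3,0,2],1,4,[1,3,4,3,4,1,3,4,3,3,0,2,2,0,3,0,3,3,0,2,2,0,2,2,0,3,1,3,3],[0,2,2,0,2,0,3,3,0,3,0,3,0,3,3,0,3,3,0,3,3]⟩,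
  ⟨2,[3,1,2,1,3,3,3,4,0,3,3,0,2,0,2,0,3,0,3,3,0,2,1,2],1,4,[3,1,2,1,3,1,3,3,4,2,0,2,2,0,2,0,2,0,3,0,2,2,0,2,2,0,2,1],[0,2,0,3,0,2,2,0,2,2,0,3,3,0,3,0,2,0,2]⟩,
  ⟨2,[4,2,4,1,3,3,4,0,3,0,3,0,2,2,0,2,0,3,0,3,0,2,0,2,0,2,1,3,3],1,4,[1,3,1,3,1,3,3,4,0,2,0,2,0,2,0,2,2,0,3,3,0,2,2,2,0,2,1,2],[3,3,0,2,0,2,0,3,0,2,2,0,3,0,3,3,0,2,0,2,0,3,1]⟩,
  ⟨3,[3,1,2,1,3,3,3,4,0,3,0,3,0,2,0,2,2,0,3,3,0,2,2,0,3],1,4,[1,3,1,3,3,3,4,0,2,0,3,3,0,2,0,2,2,0,2,2,2,0,3,0],[0,3,3,0,2,2,0,2,0,2,0,3,0,3,3,0,3,0,2,2]⟩,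
  ⟨3,[3,1,3,3,4,3,0,3,0,3,0,3,3,0,2,2,0,2,0,2,2,0,2,2,0,2],1,4,[2,4,2,4,3,4,2,0,2,2,0,3,0,2,2,0,3,3,0,3,0,2,0,2,1,3],[0,3,0,3,0,2,2,0,3,0,3,3,0,2,2,0,3,0,2,2]⟩,
  ⟨4,[4,1,3,4,1,3,4,2,0,2,0,2,0,3,3,0,3,0,2,0,2,0,3,0,3,3,0],1,5,[1,2,1,2,1,2,2,4,0,2,0,3,3,0,2,2,0,2,0,3,0,3,0,2,0,2,2,2,1,2],[3,0,2,0,2,2,0,3,3,0,3,0,2,2,1,2,2,2]⟩,
  ⟨4,[4,2,4,1,3,3,4,0,3,3,0,2,0,2,2,0,3,0,3,0,3,0,2,0,3,3,0,2,1,2,2],1,3,[3,3,1,3,3,4,3,3,0,2,0,2,0,3,0,3,3,0,2,0,2,0,3,0,3,0,3,0,3],[0,2,0,2,0,3,3,0,3,0,3,3,0,2,2,0,2,0,3]⟩,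
  ⟨5,[3,3,1,3,3,4,2,0,3,0,2,2,0,2,2,0,2,1],1,4,[3,4,3,3,0,3,3,0,3,0,2,2,0,2,0,3,3,0,2,0,3,3,0,2,2,0],[0,2,2,0,3,0,3,3,0,2,2,0,3,3,0,3,0,3,0,2,0,2,2,2,1,2]⟩,
  ⟨4,[1,3,3,1,3,3,4,3,0,3,0,3,0,3,3,0,3,3,0,2,0,3,3,1,2,2],1,5,[1,3,3,3,4,3,0,2,2,0,2,2,0,3,3,0,3,0,2,0,2,1],[0,3,0,2,2,0,3,0,3,3,0,2,2,0,2,0,2,0,3,0,3,3,1]⟩,
  ⟨5,[1,2,1,3,3,3,4,3,0,2,0,3,3,0,3,0,3,3,0,2,2,0,2,0,3,3,1,2],1,4,[3,1,3,3,4,3,0,3,3,0,2,0,3,3,0,2,2],[2,0,2,0,2,2,0,2,0,3,3,0,3,3,0,3,0,2,0]⟩,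
  ⟨3,[2,1,3,1,3,3,4,0,3,0,3,3,0,3,0,3,0,2,2,0,2,0,2],1,4,[1,2,2,4,3,0,2,0,2,0,3,0,3,0,2,0,2,2,0,2,2,0,3],[2,0,2,0,3,0,2,2,0,3,0,3,3,0,3,0,2,2,0,3,3]⟩,
  ⟨4,[4,2,1,3,4,3,4,3,3,0,2,2,0,2,0,3,0,3,0,3,0,2,0,3,3,1,3],1,5,[4,3,4,2,4,0,3,0,2,2,2,0,2,2,0,2,0,3,3,0,2,0,2,2,0,3,1],[0,3,3,0,2,0,3,3,0,2,0,2,2,0,3,0,3,0,2]⟩,
  ⟨3,[4,2,0,2,2,0,3,0,3,3,0,2,2,0,2,2,0,2,2,1],1,1,[4,3,4,1,3,4,0,3,3,0,3,3,0,2,0,2,0,2,0,3,0,2,2,0,3,3,0,3,0,2],[2,0,2,0,3,3,0,3,3,0,3,0,3,0,2,0,2,2,2,1,2]⟩,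
  ⟨5,[2,1,3,3,4,2,0,2,2,0,3,0,2,2,0,3,0,3,3,0,2,0,2,2,0,2,2,1,2],1,4,[3,1,3,4,3,0,2,0,3,3,0,3,0,2,2,0,3,1],[3,0,2,0,2,2,0,2,2,2,0,3,0,3,0,2,0,2,2,0]⟩,
  ⟨2,[4,2,1,3,4,3,4,3,0,3,3,0,2,0,2,0,2,0,3,0,2,2,0,3,1,2,2,2],1,4,[3,1,3,1,3,3,4,0,3,0,3,0,2,0,2,2,0,2,2,2,0,3,3,0,3,0,2,1,2],[3,0,3,0,3,0,3,3,0,2,2,2,0,2,0,3,3,0,3,0,3]⟩,
  ⟨4,[2,1,3,1,3,3,3,4,2,0,3,3,0,3,0,2,0,2,2,0,3,3,0,2,2,1,2,2],1,5,[2,4,2,0,2,2,0,2,0,2,0,3,3,0,3,0,3,3,0,3,3,1,3],[2,2,0,3,3,0,3,0,2,2,0,3,0,2,2,2,0,2,2,2,0,3,0]⟩,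
  ⟨3,[1,2,2,4,3,0,2,0,2,2,2,0,2,2,0,3,0,2,2,1,2],1,4,[1,3,4,3,4,1,3,4,2,0,2,2,0,3,3,0,3,0,2,2,0,2,0,2,0,3,0,2,2,2,0],[0,2,0,2,0,3,0,2,2,0,2,0,3,0,3,0,2,2,0,2,1]⟩,
  ⟨5,[1,2,1,3,1,3,3,4,2,0,2,0,2,2,0,2,0,3,3,0,2,0,2,2,0,3,0,3,0],1,4,[2,2,4,0,2,0,3,3,0,3,0,3,0,3,3,0,2,2,1,3,3],[2,0,3,0,2,2,0,2,0,3,3,0,3,1,3]⟩,
  ⟨5,[2,2,0,2,0,3,0,3,0,3,3,0,2,2,0,2,2,0,2,2,0],0,5,[],[0,2,2,2,0,2,2,2,0,3,0,2,2,0,3,0,3,3,0,2,0,2,2]⟩,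
  ⟨3,[1,3,1,3,3,4,2,0,2,0,2,2,0,3,3,0,3,0,3,0,3,3,0,3,0,2,1,2],1,4,[1,3,1,3,3,3,4,3,3,0,2,2,0,2,2,0,2,2,0,3,0,3,3,0,3,0,3],[0,2,2,0,3,3,0,3,0,2,2,0,2,0,3,3,0,2,0,2,2,2,0,3,1]⟩,
  ⟨4,[1,3,3,3,4,0,3,0,3,0,3,0,3,3,0,3,0,2,0,2,0,3,0,3,3,0,3],1,5,[1,2,4,2,4,3,4,2,2,2,0,2,0,2,2,0,2,0,3,0,2,2,0,2,2,0,3,3,1],[2,0,2,0,2,2,0,3,0,2,2,0,3,0,3,3,0,3,3,0]⟩,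
  ⟨2,[0,2,0,2,0,3,0,3,0,2,0,2,0,3,0,3],0,2,[],[0,2,0,2,0,3,0,3,0,2,0,2,0,3,0,3]⟩,
  ⟨4,[1,2,1,3,3,3,4,0,2,2,0,3,0,3,0,2,0,2,2,2,0,2,1],1,5,[1,3,3,1,3,3,4,0,3,3,0,2,2,0,3,3,0,3,0,3,0,2,2,2,0,2,0,2],[0,2,2,2,0,3,0,2,2,0,2,2,2,0,3,3,1,2]⟩,
  ⟨4,[1,2,1,2,1,2,2,4,2,0,2,0,2,2,0,3,0,3,3,0,2,2,0,3,0,2,2,0,2],1,5,[3,1,3,1,3,3,3,4,3,0,2,0,3,3,0,2,2,0,2,0,2,2,0,3,3,0,3,0,3],[0,2,2,0,2,2,0,2,0,3,3,0,3,3,0,3,3,0,2,0,3]⟩,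
  ⟨2,[1,3,1,2,1,2,2,4,0,2,0,3,0,2,2,0,2,2,2,0,2,0,3,0,3,0,2,0,2,1,3],1,4,[1,2,4,0,2,0,2,2,2,0,2,0,3,3,0,3,3,0,3,3,0,2,2,0],[0,2,0,2,2,0,3,0,3,3,0,3,0,2,2,0,2,0,3,3]⟩,
  ⟨4,[3,1,2,1,3,3,3,4,0,2,0,2,2,0,2,0,2,2,0,3,0,3,0,2,0,2,0,3],1,2,[1,3,1,3,1,3,3,4,3,0,3,3,0,3,0,3,3,0,2,2,0,3,3,0,3,0,3,3,1,3],[0,3,0,3,0,2,0,2,2,2,0,2,0,2,0,3,0,3]⟩,
  ⟨2,[3,1,3,3,3,4,3,0,3,3,0,2,2,0,3,3,0,3,0,3,3,0,2,0,2,2,2,1],1,4,[1,2,4,0,2,0,3,3,0,2,2,2,0,2,0,2,2,0,2,0,3,0,3],[0,3,0,3,3,0,2,0,3,3,0,2,0,2,2,0,3,0,3,0,2,1]⟩,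
  ⟨4,[4,2,4,3,4,3,3,0,3,3,0,3,0,3,3,0,3,0,2,0,2,0,2,0,3,0,3,1],1,2,[3,1,3,1,3,3,3,4,3,0,3,0,2,0,2,2,0,2,2,0,2,1],[3,4,3,3,0,3,3,0,2,0,2,2,1,2,2]⟩,
  ⟨2,[1,2,1,3,1,3,3,4,0,3,0,2,2,2,0,3,0,3,3,0,2,0,2,2,0,2,2,0],1,4,[3,1,3,1,3,3,4,2,2,0,3,3,0,2,0,3,3,0,3,0,2,0,2,2,0,2],[2,0,2,0,2,0,2,2,0,3,3,0,3,0,2,0,2,0,2,0,3,1]⟩,
  ⟨2,[1,3,1,3,3,3,4,2,2,0,3,3,0,3,3,0,3,0,3,0,2,0,2,1,3],1,4,[1,3,1,3,1,3,3,4,2,0,2,0,3,3,0,3,0,2,0,2,0,3,0,3,3,0,3,0,3,0],[0,3,3,0,2,0,2,0,2,2,0,2,0,3,3,0,3,0,3,3]⟩,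
  ⟨3,[1,2,1,2,2,4,3,0,3,3,0,2,0,3,3,0,2,0,2,2,0,3,0,3,3,0,2,1,3],1,4,[4,2,4,1,3,3,4,0,3,0,2,2,0,3,3,0,3,0,2,0,2,0,2,1,3,3],[2,0,2,0,3,3,0,2,0,2,2,0,3,0,3,0,2,0,3,3,0,2,1]⟩,
  ⟨4,[3,3,4,0,2,2,0,2,0,2,2,2,0,2,2,0,2,0,3,3,0],1,5,[1,3,3,1,3,3,4,0,2,0,2,2,0,2,0,3,0,2,2,0,3,0,3,0],[3,0,2,0,2,2,2,0,2,0,2,0,2,2,1,2,2]⟩,
  ⟨3,[1,2,1,3,1,3,3,3,4,0,2,0,2,0,3,0,3,0,3,0,2,0,3,3,0,2,2,0,2,2,0,3],1,4,[1,3,4,2,2,0,2,0,2,0,3,0,3,0,3,0,2,0,2,0,2,2],[2,2,0,2,0,3,0,3,0,2,2,2,0,3,0,3,0,3,0]⟩,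
  ⟨4,[1,2,1,3,1,3,3,4,3,0,2,2,0,2,0,2,0,3,0,2,2,0,3,0,3,0],1,5,[2,1,3,1,3,3,3,4,3,0,3,0,2,2,2,0,3,0,3,0,2,0,2,2,2,0,3,0],[2,0,3,0,3,0,3,0,2,2,2,0,3,3,0,3,0,3,0,2,0,2,2,1,2]⟩,
  ⟨3,[1,2,1,3,3,3,4,0,3,0,3,0,3,0,2,0,2,2,0,2,0,3,3,0,3,3,0,2,0,2,2,0,2],1,4,[1,3,4,3,4,1,3,4,2,0,3,0,3,0,2,0,2,0,3,0,2,2,1,2,2,2],[3,0,2,0,2,0,2,2,0,3,3,0,3,0,3,0,3,3,0,2]⟩,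
  ⟨3,[3,1,2,1,2,2,4,2,0,2,0,3,0,3,0,2,0,3,3,0,2,2,2,0,3,0,3,1],1,4,[2,4,2,4,3,4,2,0,2,0,3,3,0,3,3,0,2,2,0,2,0,3,3,0,2,2,2,1,3],[2,0,3,0,3,0,2,0,2,0,2,0,2,2,2,0,2,2,0]⟩,
  ⟨4,[3,1,3,1,3,3,4,3,0,2,0,2,2,0,3,3,0,3,0,3,0,2,0,2,0,3,3],4,6,[2,0,2,0,3,3,0,2,0,2,2,0,2,2,2,0,3,3,0,3,0],[0,2,0,3,0,3,0,3,0,2,2,0,2,2,0,3,0,2]⟩,
  ⟨4,[0,3,0,3,0,2,0,2,0,3,0,2,2,2,0,2,2,0,2,2],0,4,[],[2,0,2,0,3,0,2,2,2,0,2,2,0,2,2,0,2,2,0,3,0]⟩,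
  ⟨2,[1,2,2,4,2,4,3,4,0,2,0,3,0,2,2,2,0,3,3,0,2,0,2,2,0,3,3,0,3,1,2],1,4,[1,3,1,3,1,3,3,4,0,2,0,3,0,3,0,2,2,0,3,0,2,2,0,2,1],[2,0,3,3,0,3,0,2,2,2,0,3,3,0,3,0,3,0,2,0,2]⟩]

/-- facts -/
def facts3 : List Edge := [
  ⟨3,[3,4,0,2,2,0,3,3,0,2,0,2,2,0,3,3,0,2,2,0,2,0,2,0,2],1,4,[1,3,1,3,3,3,4,0,2,0,2,2,2,0,2,0,3,0,3,0,2,2,0],[2,2,0,2,0,2,2,0,2,0,3,0,3,0,2,0,3,3,0,2,2]⟩,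
  ⟨2,[2,1,3,3,3,4,0,3,0,2,2,2,0,2,2,0,2,0,2,2,0,3],1,4,[1,2,4,3,0,2,2,2,0,3,0,2,2,0,3,0,2,2,2,1,3],[3,0,3,3,0,3,0,2,2,0,2,2,0,3,0,2,2,0,2,0,3,3]⟩,
  ⟨2,[3,0,3,3,0,3,3,0,2,0,3,3,0,3,3,1,3],0,2,[],[3,0,3,3,0,3,3,0,2,0,3,3,0,3,3,1,3]⟩,
  ⟨2,[1,3,3,4,3,0,3,0,3,0,2,0,2,2,0,2,0,2,2,0,2,2,1],1,4,[1,3,1,3,1,3,3,4,2,0,2,2,0,3,0,3,0,3,3,0,3,0,2,0,2,1,2,2],[0,2,2,2,0,2,0,3,0,3,0,3,0,3,3,0,2,2,0,3,3,0,3,1]⟩,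
  ⟨3,[2,2,4,2,4,3,4,0,2,0,2,2,2,0,2,2,0,3,0,3,3,0,2,2,0,2,1,3],1,4,[4,2,4,1,3,3,4,0,2,2,2,0,2,0,2,0,2,2,0,2,0,3,0,2,2,1,2,2,2],[2,2,0,2,2,0,3,0,3,3,0,2,2,0,2,1,2]⟩,
  ⟨2,[0,3,0,3,0,2,2,0,2,0,3,0,3,0,2,0,2,0,3,1],0,2,[],[0,3,0,3,0,2,2,0,2,0,3,0,3,0,2,0,2,0,3,1]⟩,
  ⟨5,[2,0,2,2,0,2,0,2,0,3,3,0,2,1,2,2],0,5,[],[2,0,3,3,0,3,0,2,0,2,0,2,0,3,3,0,2,0]⟩,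
  ⟨3,[3,1,3,1,3,3,4,0,2,0,3,3,0,3,3,0,2,2,0,2,2,2,0,3,0],1,4,[4,2,4,1,3,3,4,2,0,3,0,2,2,2,0,3,0,3,0,3,3,0,3,0,2,1,2,2],[2,2,0,2,0,3,3,0,3,3,0,3,0,2,0,2,0,3,0,3,3]⟩,
  ⟨3,[2,0,2,0,2,0,2,2,0,3,3,0,3,0,3,3,0,2,2,2,0],1,2,[2,0,2,2,2,0,2,0,3,3,0,2,0,2,2,0,2,0,2,1,3],[4,0,2,2,2,0,3,0,2,2,0,2,0,2,2,0,3,3,0,2,2,1,2]⟩,
  ⟨3,[1,2,1,3,1,3,3,4,2,2,0,2,0,2,2,2,0,2,2,0,2,0,3,0,3,0,2,1],1,4,[1,3,4,0,2,0,2,2,2,0,3,3,0,3,0,2,2,1,3],[2,2,0,2,2,0,3,3,0,3,0,3,0,2,0,2,0,2,2,2,0,2,0,3,1]⟩,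
  ⟨3,[2,1,2,1,2,2,4,2,0,2,2,0,3,0,2,2,0,3,3,1],1,4,[2,4,2,4,3,4,3,3,0,2,0,2,2,0,3,3,0,3,0,3,0,2,0,2,2,2,1,2,2,2],[2,0,2,0,3,0,3,0,2,0,2,0,2,2,0,3,3,0]⟩,
  ⟨3,[1,3,4,3,4,1,3,4,3,3,0,3,0,3,3,0,2,2,0,2,0,2,0,2,2,1],1,4,[1,2,2,4,0,3,0,2,0,2,2,2,0,2,0,2,0,3,0,2,2,2,0,3],[2,0,2,0,3,3,0,3,3,0,2,0,2,2,0,3,3,0,2,2,0]⟩,
  ⟨4,[2,0,2,0,2,2,0,2,0,3,0,3,0,2,0,2,0,3],0,4,[],[0,2,0,2,2,0,2,0,3,0,3,0,2,0,2,0]⟩,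
  ⟨7,[2,2,0,2,2,0,3,3,0,2,2,0,2,0,2,2,0,2,2,2,0],1,7,[0,2,0,2,2,2,0,2,0,3,0,3,0,3,3,0,3,0,2,2,0,3],[0,2,0,2,0,3,0,3,0,3,0,2,2,0,2,0,2,2,0,2,1,3]⟩,
  ⟨5,[3,3,4,2,4,2,4,2,4,3,0,3,0,3,0,3,3,0,2,2,2,0,3,0,3,3,0,3,3],1,7,[4,2,4,3,4,2,0,3,0,2,2,0,2,0,3,3,0,3,0,2,2,0,3,0,3,3,1],[0,2,2,0,3,0,3,3,0,2,2,0,3,3,0,3,0,3,0,2,0,2,2,2,1,2]⟩,
  ⟨6,[1,3,3,3,4,2,0,2,2,0,2,0,3,0,2,2,0,2,0,2,2,0,3,3,0,3,3,0,2],1,7,[2,4,2,4,3,4,0,3,3,0,2,2,0,3,0,3,3,0,3,0,3,3,0,2,0,2,1,3],[0,2,2,0,2,2,0,2,2,0,2,2,0,2,2,2,1]⟩,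
  ⟨3,[3,1,3,3,3,4,2,2,0,3,0,2,2,2,0,2,0,2,2,0,2,2,0,3,0,3,3,0,3],1,4,[1,3,1,3,3,3,4,0,2,0,2,2,2,0,2,0,2,2,0,3,0,3,3,0,3,3],[0,3,0,2,2,0,3,0,3,3,0,2,0,2,2,0,3,3,0,2,2]⟩,
  ⟨6,[1,2,4,2,4,3,4,0,3,3,0,2,2,0,2,0,2,0,3,0,2,2,0,3,3,1,3],1,7,[2,4,2,4,3,4,0,3,0,2,2,2,0,3,3,0,2,0,2,2,0,2,0,3,0,3,3,1],[2,2,0,2,0,3,0,3,3,0,2,0,3,3,0,3,3,0,3,3,0,2,2]⟩,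
  ⟨3,[1,2,1,2,1,2,2,4,0,3,0,3,3,0,2,0,3,3,0,3,3,0,3,3,0,2,2,1],1,4,[1,3,4,3,0,3,0,3,0,3,3,0,2,2,0,2,2,0,3,3,0,2,0,3],[3,3,0,3,0,2,0,2,2,0,2,0,2,2,0,3,0,3,0]⟩,
  ⟨3,[2,4,2,4,3,4,3,0,2,2,0,2,0,2,0,3,3,0,3,0,2,2,0,3,1,2,2,2],1,4,[1,3,1,3,3,3,4,0,2,0,2,2,2,0,3,3,0,3,0,3,0,2,0,3,3,0,2,2,1],[0,2,2,0,3,3,0,3,0,3,3,0,3,0,2,0,2,0,3]⟩,
  ⟨4,[2,4,0,3,3,0,2,0,2,0,3,0,2,2,0,2,2,0,3,0],0,4,[],[4,3,4,2,4,3,0,3,0,2,2,2,0,2,2,0,3,3,0,3,0,3,0]⟩,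
  ⟨3,[4,3,4,1,3,4,2,2,2,0,2,2,2,0,2,0,3,0,3,0,2,0,2,2],1,4,[2,4,2,4,3,4,0,3,3,0,2,0,3,3,0,2,0,2,0,2,2,0,2,1,2],[0,3,0,3,0,3,3,0,2,0,2,1,3]⟩,
  ⟨7,[1,2,1,2,2,4,0,3,0,2,0,3,3,0,3,3,0,3,3,0,2,2,2,0,2,1],1,7,[3,4,0,2,0,2,2,2,0,3,0,3,3,0,3,3,0,2,0,2,2,1,2,2],[4,3,4,2,4,0,2,0,3,0,2,2,0,2,2,1,2,2]⟩,
  ⟨7,[3,4,3,4,1,3,4,3,3,0,3,0,3,0,2,0,2,2,0,2,0,2,0,3,0,3,0],1,7,[3,1,2,1,2,2,4,3,0,2,0,2,0,2,2,0,2,0,3,3,1,3,3],[4,3,4,2,4,3,3,0,2,0,2,0,2,2,2,0,2,0,3,3,0,2,0]⟩,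
  ⟨7,[3,1,3,4,0,2,2,0,3,0,3,3,0,2,2,2,0,3,0,3,3,0],1,7,[3,1,3,4,2,2,0,3,0,3,0,2,0,2,2,0,3,0,3,0,3,0,2,0,3],[4,3,4,2,4,2,0,3,0,3,3,0,3,0,3,3,0,2,0,2,0,2,0,3,1,3]⟩,
  ⟨3,[1,3,3,1,3,3,4,0,2,2,0,3,3,0,2,0,2,2,0,2,0,2,2,0,3,3,0,3,1,3],1,4,[2,4,2,4,3,4,0,2,2,0,3,3,0,3,0,2,0,2,2,0,3,3,0,3,0,3,0,3,3,0],[2,2,0,2,0,3,0,3,3,0,2,0,3,3,0,3,3,0,2,0,3,3]⟩,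
  ⟨7,[1,2,1,3,1,3,3,3,4,0,3,0,2,2,0,2,2,0,2,0,3,0,3,0,2,0,2,0,3],1,7,[3,4,3,4,1,3,4,2,2,0,2,0,3,3,0,3,0,3,0,2,0,3,3,0,2,2,0,2,1,3],[4,3,4,2,4,0,2,0,2,0,2,0,2,2,0,2,0,2,2,0]⟩,
  ⟨7,[2,1,2,1,2,2,4,2,2,0,3,0,3,0,2,0,2,2,0,3,0,3],1,7,[2,1,3,3,3,4,2,2,0,2,2,0,2,0,3,3,0,3,0,3,0,2,0,2,0,2,2,0,2],[4,3,4,2,4,0,2,0,2,2,0,2,0,3,0,2,2,0,2,0,3,0,2,2,1,3]⟩,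
  ⟨2,[4,3,3,0,2,0,2,2,2,0,3,0,3,3,0,3,3,0,2,0,2,2,0,2],1,1,[1,2,1,3,1,3,3,3,4,0,3,0,2,2,0,2,2,0,2,0,3,0,3,0,2,0,2,0,3,1],[4,0,2,0,2,0,3,3,0,3,3,0,3,3,0,2,0,2,2,2]⟩,
  ⟨7,[3,1,3,3,3,4,2,0,2,0,2,2,0,3,3,0,3,0,3,0,3,3,0,3,3,0,3,1],1,7,[1,2,1,3,1,3,3,3,4,0,2,0,2,0,3,0,3,3,0,2,2,2,0,2,2,0,2,0,3,1,3],[4,3,4,2,4,2,0,3,0,2,2,2,0,3,0,3,0,2,0,2,0]⟩,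
  ⟨5,[3,3,1,2,2,4,1,2,4,0,2,0,2,0,2,0,3,3,0,3,0,2,2,0,3,0,3,3,0,3,1,2],1,5,[3,3,1,2,2,4,1,2,4,3,0,2,2,0,2,0,3,0,3,0,2,0,3,3,0,2,1,2,2],[1,3,1,3,3,4,3,3,0,3,3,0,3,3,0,3,0,2,0,2,2,1,3]⟩,
  ⟨7,[0,2,0,2,0,3,0,3,0,2,0,2,0,3,0,3],0,7,[],[0,3,0,3,0,2,0,2,0,3,0,3,0,2,0,2]⟩,
  ⟨6,[1,3,1,2,1,2,2,4,0,3,0,2,0,2,2,2,0,2,2,0,3,0,2,2,2,0,3],1,7,[2,4,2,4,3,4,0,3,0,2,2,0,2,2,0,2,0,2,0,3,0,2,2,2,0,2,1,3],[2,0,2,0,2,2,2,0,2,0,2,0,2,2,0,3,3,0,2,0,2]⟩,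
  ⟨4,[4,1,3,3,1,3,4,3,4,0,2,0,3,3,0,3,3,0,3,3,0,3,3,0,3,0,2,0],1,5,[3,3,3,4,3,0,2,2,0,3,3,0,2,2,0,2,0,2,0,2,2,2,1,3],[4,1,2,1,2,1,2,2,4,3,3,0,3,0,2,0,2,0,2,0,3,3,0,2,0,3,3,0,3,3]⟩,
  ⟨5,[2,2,1,3,3,4,3,4,0,2,2,0,3,0,2,2,0,2,0,2,2,0,3,3,0,3,0,2,0,2,1],1,5,[1,3,3,4,3,1,3,3,4,2,0,3,3,0,3,3,0,3,3,0,2,0,2,2,0,3,1,3],[1,3,1,2,1,2,2,4,0,2,2,0,3,0,3,0,2,2,2,0,2,2,2,0,2,2]⟩,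
  ⟨7,[4,2,4,3,4,0,2,2,0,3,3,0,3,0,3,0,2,0,3,3,0,3,3,0,2],3,5,[2,1,3,1,3,4,3,4,2,0,2,0,3,0,2,2,2,0,3,3,0,3,0,2,2],[1,3,3,4,0,2,0,3,0,2,2,0,2,2,0,2,0,3,1]⟩,
  ⟨4,[4,1,3,3,1,3,4,3,4,2,0,2,2,2,0,2,0,3,0,3,0,2,0,2,2,0,3,3,0,3,0],2,4,[2,1,2,2,4,0,2,0,3,0,3,0,2,0,3,3,0,3,0,2,0,2,0,3,0,2,2,2],[4,1,2,1,2,1,2,2,4,3,0,2,2,0,3,3,0,3,3,0,3,0,2,0,2,0,2,2,0,2,2]⟩,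
  ⟨3,[2,2,4,3,4,3,4,3,4,2,0,2,0,2,0,2,2,0,2,0,3,0,3,0,2,1],1,4,[1,3,1,3,3,3,4,0,2,0,2,0,3,0,3,0,2,0,2,2,0,2,0,3,3,1],[2,2,4,3,3,4,0,3,0,2,2,0,2,2,0,2,0,2,1,3]⟩,
  ⟨7,[1,3,1,2,1,2,2,4,3,0,3,0,2,0,2,0,3,0,2,2,0,2,2,1,3],1,4,[2,1,2,4,1,2,2,4,3,0,2,2,2,0,2,2,0,3,3,0,2,2,0,2,0,3,3,0,2,0,3,3],[4,2,1,3,1,3,3,3,4,0,3,0,3,0,2,2,0,2,0,2,0,2,2,0,2,2,2,0,2,0,2]⟩,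
  ⟨5,[3,3,3,4,2,1,3,3,4,2,0,3,3,0,2,0,2,1],1,2,[2,1,2,4,1,2,2,4,0,3,3,0,2,0,2,0,3,0,2,2,0,2,2,2,0,2,1,2,2],[2,2,1,3,3,4,3,4,3,0,2,0,2,2,0,2,0,2,2,2,0,3,0,3,3,1,2]⟩]

/-- facts -/
def facts4 : List Edge := [
  ⟨7,[1,3,1,3,1,3,3,4,2,0,2,0,3,3,0,3,0,3,3,0,3,0,2,2,0,2,0,2,0,3],1,4,[4,3,1,3,3,3,4,0,2,2,2,0,3,3,0,3,3,0,2,0,2,2,0,3,3,0,2,2,0,2,0,3],[1,2,2,4,3,4,0,2,0,3,0,3,0,2,0,2,0,2,2,0,2,0,3,0,2,2,0]⟩,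
  ⟨7,[3,3,4,0,3,3,0,3,3,0,2,0,2,2,0,2,0,2,2,0,3,3,0,2],1,5,[4,3,1,3,3,3,4,0,2,0,2,0,3,0,2,2,0,2,0,3,0,3,3,1,3],[4,2,1,3,1,3,3,3,4,3,0,2,0,2,0,3,0,3,3,0,2,2,0,2,0,2,2,0,3,3,0,3]⟩,
  ⟨7,[4,3,1,2,1,3,3,3,4,0,2,0,2,2,2,0,3,0,2,2,0,2,2,0,3,0,2,2,2,0,2,1],1,4,[3,4,2,1,3,3,4,3,0,2,0,2,0,3,0,3,0,3,3,0,2,2,0,3,3,1,3],[2,4,2,4,2,0,2,0,2,2,2,0,3,0,2,2,0,2,0,3,3,1,2]⟩,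
  ⟨5,[3,3,3,4,2,1,3,3,4,2,2,0,3,0,2,2,0,2,2,0,2,0],4,5,[3,3,3,4,2,1,3,3,4,3,0,2,0,3,3,0,2,2,0,2,0,3,3,0,3,0,2,2],[1,3,4,1,3,3,4,3,0,2,0,2,2,2,0,3,0,3,3,0,3,3,0,2,1,2]⟩,
  ⟨6,[1,2,1,3,1,3,3,4,0,2,0,3,3,0,2,2,0,2,0,3,3,0,2,0,2,2,0,2,1,2],1,7,[2,4,2,4,3,4,2,0,2,2,0,2,2,0,2,0,3,0,3,0,2,0,3,3],[2,0,2,2,0,2,2,0,3,3,0,3]⟩,
  ⟨7,[3,1,3,1,3,3,4,0,2,0,2,0,2,0,3,0,3,3,0,3,0,2,2,0,2,0,3,3,0,3],1,4,[4,2,2,4,2,2,4,2,4,0,2,0,2,0,3,0,2,2,2,0,3,0,2,2,0,3,1,2,2],[1,2,1,3,4,3,3,4,2,2,0,3,3,0,2,2,0,2,2,2,0,3,1,2,2]⟩,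
  ⟨4,[4,2,4,2,0,3,0,3,0,3,3,0,3,3,0,2,0,2,2,0,2,1],0,4,[],[3,4,3,3,0,3,0,3,0,2,2,0,2,0,2,2,0,2,0,3]⟩,
  ⟨2,[3,1,3,1,3,3,3,4,0,2,2,0,2,2,0,3,3,0,3,0,3,0,3,3,0,2,2,2,0,3,0,3],3,1,[2,1,2,4,2,4,0,2,0,2,2,0,3,0,2,2,0,3,3,0,3,0,3,1],[3,1,3,1,3,3,3,4,0,3,0,2,2,0,3,3,0,3,0,2,2,0,2,2,0,3]⟩,
  ⟨2,[3,1,3,1,3,3,3,4,0,2,0,3,0,3,3,0,3,0,3,0,2,2,2,0,2,1,3,3],2,4,[0,2,0,2,2,0,3,0,3,0,3,0,3,3,0,2,2,1,3,3],[3,1,3,1,3,3,3,4,3,3,0,3,3,0,3,0,3,3,0,3,0,2,0,2,2,0]⟩,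
  ⟨6,[3,1,3,1,3,3,3,4,0,2,2,0,2,2,0,3,0,3,3,0,3,0,2,0,2,2,0,3],1,4,[4,1,3,1,3,4,3,4,3,3,0,2,0,2,2,0,2,0,2,0,3,0,2,2,2,0,3,0,3,3,1],[1,2,2,4,2,4,3,4,0,2,2,0,3,0,3,3,0,3,3,0,2,0,2,2,0,3,0,2,2]⟩,
  ⟨2,[4,3,1,2,1,3,1,3,3,4,0,2,2,0,3,3,0,3,3,0,2,2,0,3,0,2],1,6,[2,4,3,4,0,3,0,3,3,0,2,0,2,0,2,2,0,2,2,0,2,0],[3,1,2,1,3,1,3,3,4,2,0,2,0,2,0,2,2,0,2,2,0,2,2,0,2,2,0,2]⟩,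
  ⟨2,[1,3,4,0,2,0,2,2,0,2,0,3,3,0,3,3,0,2,2,2,0,2,0,2,1],1,2,[1,2,1,3,3,3,4,3,0,3,0,2,2,2,0,2,2,0,2,0,2,0,3,0,2,2,2,0],[1,3,4,3,3,0,3,0,2,0,2,0,2,0,3,0,2,2,0,2,1,3,3]⟩,
  ⟨6,[2,0,2,2,2,0,3,0,3,3,0,2,0,2,2,0,3,3,0,2,0,2,2,0,2,0],1,2,[1,2,1,3,3,3,4,2,2,2,0,2,2,0,2,0,2,2,0,3,3,0,3,0,2,0,2,2,1,2],[3,4,2,2,0,2,0,3,3,0,3,0,2,0,2,0,3,0,3,0,2,1]⟩,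
  ⟨2,[3,1,3,3,4,1,3,4,2,2,0,2,2,0,2,0,3,0,2,2,0,2,2,0,3,0,2,2,2,1,2],1,1,[3,1,3,4,1,3,3,4,2,2,0,2,0,3,3,0,3,0,3,0,3,3,0,3,0,2,0,2,2],[3,1,3,3,4,1,3,4,0,3,0,2,0,2,2,0,3,0,2,2,0,3,0,3,3,0,2,0,2,2,0,3,3,0]⟩,
  ⟨5,[4,2,4,2,4,0,2,0,2,2,0,2,0,3,0,2,2,0,3,0,3,3,0,3,0,2,0],1,1,[4,1,3,1,3,4,3,3,4,3,0,3,0,2,0,2,2,2,0,2,0,3,0,3,0,3,3,0,3,0,2],[4,3,4,3,4,0,2,0,3,3,0,3,0,2,0,2,0,2,0,3,0,3,0,2,1,2]⟩,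
  ⟨5,[4,0,2,0,3,3,0,2,2,2,0,2,0,2,2,0,2,0,3,0,3],1,2,[3,4,3,4,3,4,1,3,4,0,2,2,0,2,0,2,0,3,0,2,2,0,2,2,0,3,0,2,2,2,1,2],[3,4,0,2,2,0,3,0,2,2,0,3,0,3,3,0,2,2,0,2,0,2,2,2,0]⟩,
  ⟨4,[4,3,1,3,3,3,4,2,0,2,0,3,3,0,3,3,0,3,0,3,0,2,0,2,2,2,1,2],1,6,[2,4,1,3,3,3,4,0,2,2,2,0,3,0,3,3,0,3,0,3,0,2,0,2,2,0,2,1,3],[3,4,3,3,4,1,3,4,2,2,2,0,2,0,3,3,0,3,3,0,2,0,2,2,0,3]⟩,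
  ⟨6,[4,1,2,1,2,4,2,4,0,3,3,0,2,2,2,0,2,2,2,0,3,3,1],1,6,[2,4,1,3,4,3,3,4,3,0,2,0,3,3,0,3,3,0,2,0,3,3,0,2,0,2,2,0],[1,2,2,4,3,4,3,4,3,4,0,2,0,2,2,0,3,3,0,3,3,0,2,0,2,2,0,3,0,3,0]⟩,
  ⟨2,[4,3,3,0,3,0,2,0,2,0,2,0,3,3,0,3,1,2,2,2],0,2,[],[4,3,3,0,3,0,2,0,2,0,2,0,3,3,0,3,0,2,2,2]⟩,
  ⟨3,[3,4,2,4,0,3,3,0,3,0,3,0,2,0,2,0,2,2,0,3,0,3,0,2,1,3],0,3,[],[4,3,4,2,4,0,3,3,0,3,0,3,0,2,0,2,0,2,2,0,3,0,3,0,2,1,3]⟩,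
  ⟨7,[2,0,3,0,3,0,3,0,2,2,0,2,2,0,2,2,0,2,0,2,0,3,1],1,6,[2,4,1,3,3,3,4,0,3,0,3,0,3,3,0,2,2,0,3,3,0,3,0,2,2,2,1,3],[4,3,3,4,2,4,0,2,0,3,0,2,2,0,3,3,0,3,0,2,0,2,0,3,0,3,3]⟩,
  ⟨2,[3,1,3,1,3,3,3,4,3,0,2,2,0,2,0,3,3,0,3,0,2,0,2,0,3,3,0,3,1],4,2,[3,1,3,1,3,3,3,4,2,0,2,0,2,0,2,2,0,3,3,0,2,2,0,2,1,2,2],[2,1,2,2,4,1,2,4,3,3,0,2,2,0,2,2,0,2,0,2,0,3,0,2,2,2,0,2,0,3,1]⟩,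
  ⟨5,[3,3,3,4,0,2,2,0,3,3,0,2,0,2,2,0,3,3,0,3,3,0,2,1],3,6,[3,1,3,1,3,3,3,4,3,3,0,2,0,2,0,3,0,2,2,0,2,0,3,3,0,3,1],[4,3,4,3,4,0,2,2,0,2,2,0,3,0,2,2,0,2,1,3,3]⟩,
  ⟨5,[4,2,0,2,0,2,2,0,2,0,3,0,3,0,2,2,0,2,0,2,0,3,1],2,5,[4,0,3,0,2,0,2,2,0,2,0,3,0,3,0,3,0,2,0,3,3,0],[4,1,3,4,2,0,3,0,3,0,2,0,2,2,2,0,2,2,0,3,0,3,3,0,3,1]⟩,
  ⟨5,[4,2,4,2,4,0,2,2,0,3,3,0,2,2,0,2,0,2,0,2,2,2,0,2,0,2,2],0,5,[],[4,3,4,3,4,3,0,3,3,0,3,0,2,0,2,0,2,2,0,3,3,0,2,0,3]⟩,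
  ⟨3,[2,2,4,3,3,4,0,2,0,3,0,3,0,2,0,3,3,0,3,0,3,3,0,2,2,2],0,3,[],[4,2,2,4,3,3,4,0,2,0,3,0,3,0,2,0,3,3,0,3,0,3,3,0,2,2,2]⟩,
  ⟨7,[2,1,2,2,4,0,2,0,3,0,3,0,2,0,2,0,3,0,3,3,0,2,0,2,2,0,3,0,2],1,4,[3,3,1,3,4,3,4,0,2,0,3,0,3,0,2,2,0,2,0,2,0,3,3,0,3,1,3],[1,2,1,3,1,3,3,4,3,3,0,2,0,2,0,3,0,2,2,0,3,0,3,3,0,2]⟩,
  ⟨6,[3,4,3,4,1,3,3,3,4,0,2,2,0,2,2,0,3,3,0,2,0,2,2,0,3,3,0,2,1,2,2,2],1,6,[2,1,3,4,3,3,4,0,2,2,2,0,3,0,3,0,2,0,2,2,0,3,0,3,3,0,3,3,0,2],[3,1,2,1,3,3,4,3,4,0,2,0,3,0,3,3,0,3,0,3,0,2,2,2,0,2,0,3]⟩,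
  ⟨6,[2,4,1,3,3,3,4,3,0,3,3,0,2,0,2,2,2,0,3,0,3,3,0,3,3,1],2,6,[2,4,1,3,3,3,4,0,2,0,2,2,0,3,3,0,3,0,3,0,2,2,0,2,0,3,1,3],[4,1,3,1,3,3,3,4,0,2,0,2,0,2,2,0,2,2,0,3,0,3,3,0,2,2,0,3,1]⟩,
  ⟨7,[4,1,2,1,3,4,3,3,4,3,0,2,2,0,2,0,2,0,2,2,0,3,3],1,5,[1,3,4,1,3,4,0,2,0,3,3,0,3,0,2,2,0,2,0,2,0,3,0,3,1,2,2],[1,3,1,3,3,4,2,2,0,2,0,3,3,0,2,0,2,2,0,2,0,3,3,0,3,3,0,2,1,3]⟩,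
  ⟨7,[2,2,4,3,3,0,2,2,0,2,2,0,2,2,0,3,0,3,1,2],1,5,[4,3,3,1,3,3,4,2,0,2,0,2,0,3,3,0,3,3,0,3,3,0,2,2,0,2,0,3,3],[3,4,3,3,0,3,0,3,0,2,0,2,0,2,2,2,0,2,2,2,0,3]⟩,
  ⟨7,[1,2,4,3,3,4,2,0,2,2,0,2,2,0,3,3,0,3,0,2,2,0,3,0,3],1,5,[3,3,4,2,2,4,2,4,0,2,2,2,0,3,3,0,3,0,3,0,2,2,2,0,3,3,0,2,1,3],[1,3,1,2,1,2,2,4,2,0,2,0,2,0,2,2,2,0,3,0,3,0]⟩,
  ⟨6,[1,3,4,2,0,2,0,2,2,0,3,3,0,3,0,2,0,2,0,2,1,2],1,2,[3,3,4,3,3,4,2,4,2,0,2,0,2,0,2,2,0,3,3,0,3,0,3,3,0,3,0,2],[3,1,3,4,0,2,0,2,0,2,0,3,0,3,3,0,3,1,2,2,2]⟩,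
  ⟨5,[4,3,0,2,2,0,2,0,2,0,3,0,2,2,0,2,0,3,3,0,3],4,6,[1,3,4,0,2,0,3,0,2,2,0,3,0,2,2,2,0,2,0,3,3,0,2,0,3],[4,3,4,2,4,0,3,0,3,0,3,0,3,3,0,2,2,0,2,2,2,0]⟩,
  ⟨6,[4,2,4,1,3,3,4,3,0,3,0,3,0,2,0,2,0,2,0,3,0,3,0,3,0,2,1],1,2,[1,2,1,3,3,4,3,4,2,0,3,3,0,3,0,2,2,0,2,0,3,3,0,2,0,2,2],[4,1,3,3,4,2,0,2,0,3,0,3,0,3,0,2,0,2,2,0,2,0,2,1,2]⟩,
  ⟨7,[2,2,4,2,4,3,1,2,2],1,5,[2,4,2,4,3,3,4,1,3,4,0,3,3,0,2,2,0,2,2,0,3,3,0,3,0,2,2,0,2,0,2,1],[3,3,4,3,3,4,2,4,2,0,3,3,0,2,2,0,2,2,0,2,0,3,3,0,2,0,3,3]⟩,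
  ⟨6,[1,3,3,1,3,4,3,4,2,2,0,3,3,0,2,2,0,3,3,0,3,0,3,3,1,2],1,4,[3,4,3,4,3,4,3,4,2,2,0,2,0,3,0,3,0,3,3,0,3,0,2,2,0,3,0,2,2,0,3,0,3,0],[4,2,4,3,3,4,2,2,0,3,0,3,0,2,0,2,2,0,3,0,3,1,2,2]⟩,
  ⟨6,[1,3,3,1,3,4,3,4,0,2,2,0,3,0,2,2,0,2,1,2],3,7,[3,0,2,0,2,2,0,3,3,0,3,0,2,0,2,0,2,0,3,0,3,1,2],[4,1,3,3,4,3,3,0,3,0,2,2,2,0,2,0,2,0,2,2,2,0,3,0,3,3]⟩,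
  ⟨5,[4,3,3,1,3,3,4,0,2,2,0,3,0,3,0,3,3,0,3,0,3,1,2,2],1,6,[3,1,3,3,4,2,0,3,0,3,0,2,0,2,0,3,3],[4,2,4,2,4,2,4,2,0,2,2,2,0,3,0,2,2,0,2,2,0,3,0,3,3,0,2,0]⟩,
  ⟨3,[4,3,1,3,4,2,2,0,3,0,3,0,2,1,3],0,3,[],[3,1,3,4,2,2,0,3,0,3,0,2,1,3]⟩]

/-- facts -/
def facts5 : List Edge := [
  ⟨7,[4,3,4,3,0,2,0,3,3,0,3,0,2,2,2,0,2,0,3,3,1,2,2,2],1,5,[4,3,4,3,4,1,3,4,3,0,2,2,0,2,0,3,3,0,2,0,3,3,0,3,0,2,2,0],[2,4,2,4,1,3,3,3,4,3,0,3,3,0,2,0,2,2,0,3,3,0,3,0,2,2,0,2,2,0]⟩,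
  ⟨6,[2,4,0,3,3,0,3,0,3,0,2,0,2,0,2,2,0,2,0],1,3,[1,2,4,2,2,4,3,4,0,3,3,0,2,2,0,2,0,2,0,3,3,0,3,0,3,1,2],[4,1,2,2,4,1,2,4,0,2,0,2,2,0,3,3,0,3,0,3,0,3,3,0,2,2,0,3,1,3]⟩,
  ⟨6,[1,3,4,3,1,3,3,4,0,3,3,0,3,3,0,3,0,3,3,0,2,2,0,2,0,3,0,3,0],1,6,[3,3,4,2,1,3,3,4,0,2,2,2,0,2,0,2,0,2,2,0,3,3,0,2,2,0,2,0,3,1],[4,1,3,4,1,3,4,2,0,2,0,2,0,3,0,3,0,3,3,0,2,2,0,2,1,3,3]⟩,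
  ⟨6,[3,4,2,4,2,4,2,4,0,3,0,3,3,0,3,0,2,2,0,2,2,0,2,1,2],1,5,[1,3,4,1,3,4,0,2,2,0,2,0,2,2,0,3,3,0,3,3,0,3,3,0,2,1,2],[3,4,2,1,3,3,4,3,0,3,3,0,3,0,2,2,0,2,0,3,0,3,0,2,2,0,2,0]⟩,
  ⟨6,[0,3,0,3,0,2,2,0,2,0,2,0,3,0,3,3],4,6,[2,2,0,2,2,0,2,2,0,3,0,3,3,0,2,2,0,2,1,2,2,2],[3,4,3,0,2,2,0,3,3,0,3,0,3,0,2,2,2,0,3,0,3]⟩,
  ⟨7,[4,2,2,4,2,2,4,2,4,0,2,0,2,0,2,0,2,2,2,0,2,0,2,2,0,2,0,3,3,0,3],1,4,[3,3,1,3,4,3,4,2,2,2,0,3,0,2,2,0,3,0,3,3,0,2],[4,3,1,3,4,1,3,3,4,2,2,0,3,0,3,0,3,3,0,2,2,0,2,2,1,3,3]⟩,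
  ⟨3,[2,2,4,3,3,4,2,0,2,2,0,2,2,0,2,0,3,3,0,2,0,2,2,0,3,3,0,2],0,3,[],[4,2,2,4,3,3,4,2,0,2,2,0,2,2,0,2,0,3,3,0,2,0,2,2,0,3,3,0,2]⟩,
  ⟨6,[3,1,3,3,4,2,0,3,0,3,0,3,0,3,3,0,3,0,2,2,1,2,2],1,7,[3,1,3,3,3,4,3,4,2,0,2,2,0,2,0,3,0,2,2,0,3,0,3,3,0,3,0],[3,4,3,1,3,3,3,4,3,0,3,0,2,2,0,2,2,0,2,0,3,0,3,0,3,3,0,3,0]⟩,
  ⟨6,[4,3,1,3,3,4,0,3,3,0,2,0,3,3,0,3,0,3,3,0,2,2,0,3,3,0],1,5,[3,4,2,4,2,2,0,3,3,0,3,0,2,0,2,0,3,0,3,0,3,3,0,2,2,0],[2,4,3,1,3,3,4,3,0,2,2,0,2,2,0,3,3,0,3,0,3,0,2,0,2,2,2,0]⟩,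
  ⟨6,[2,1,3,3,4,3,0,3,0,3,3,0,2,2,0,2,2,2,1,3],1,4,[2,4,1,3,3,4,3,3,0,3,0,3,0,2,0,2,2,2,0,3,0,2,2,0,3,1,2],[3,4,2,4,0,3,0,2,2,0,2,2,0,2,0,3,3,1,2,2]⟩,
  ⟨6,[4,2,4,1,3,3,4,2,2,0,2,2,0,2,0,2,2,0,2,0,3,0,3,0,2,0,2,2,1],3,5,[4,3,0,2,0,2,0,2,0,3,0,2,2,0,3,0,3,3,0,2,0,2,0],[3,4,2,0,3,0,2,2,0,3,0,2,2,2,0,3,3,0,2,0,3,3]⟩,
  ⟨6,[1,3,3,1,3,3,4,3,0,3,3,0,3,3,0,3,0,3,0,3,3,0,2,2,2,0,2,1],1,5,[4,1,2,2,4,3,3,0,2,0,2,2,0,2,0,2,2,2,0,3,3,0,3,0,3,3],[4,1,3,3,4,0,2,2,0,2,0,2,0,3,0,3,0,2,2,0,2,2,0,2,1,2,2]⟩,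
  ⟨6,[4,3,4,2,4,0,2,0,3,3,0,3,0,2,2,0,3,0,3,3,0,3,3,0,3,0,2],1,4,[4,1,3,1,3,3,3,4,0,2,0,2,2,0,2,2,0,3,3,0,3,0,3,0],[3,4,2,4,3,3,0,3,3,0,3,0,3,3,0,3,0,2,0,2,0,2,0]⟩,
  ⟨7,[4,3,3,4,2,4,3,3,4,0,3,0,2,2,0,3,3,0,3,3,0,3,0,3,0,2,0],1,5,[3,4,2,4,2,4,3,0,3,3,0,3,0,3,0,2,0,3,3,0,3,0,2,0,2,2],[1,2,4,2,2,4,3,4,0,2,0,2,0,3,0,2,2,2,0,2,0,2,2,0,3,1]⟩,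
  ⟨6,[3,1,3,1,3,3,3,4,2,0,2,2,0,3,0,3,3,0,2,0,2,2,0,3,3,0,2,2,0,2,1],3,4,[4,1,3,3,1,3,4,3,4,3,3,0,2,2,0,3,0,2,2,0,3,0,3,3,0,2,2,0,2,0],[1,2,2,4,1,2,4,2,0,3,3,0,3,3,0,3,0,2,2,2,0,3]⟩,
  ⟨6,[1,3,3,1,3,4,3,4,2,2,2,0,3,3,0,3,0,3,0,2,0,2,0,2,0,3,0,2],2,6,[1,3,3,1,3,4,3,4,0,3,3,0,3,0,3,0,2,0,2,2,0,2,2,2,0,2,1],[2,2,4,2,4,1,3,3,3,4,2,0,2,2,2,0,2,0,2,0,2,2,0,3,3,0,2,2,0,2,0]⟩,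
  ⟨6,[2,4,0,3,3,0,3,0,3,0,2,0,2,2,2,0,2,2,2,0,2,1,2],3,6,[2,4,3,3,0,2,0,3,3,0,2,2,2,0,3],[0,2,2,0,3,3,0,3,0,3,0,2,2,0,2,0,3,1,3,3]⟩,
  ⟨6,[3,4,3,3,3,4,2,4,3,3,0,3,0,2,0,2,0,2,2,2,0,2,0,3,3,0,2,2],1,5,[4,3,1,3,4,1,3,3,4,0,3,0,3,3,0,3,0,3,3,0,2,2,2,0,3,0,2,2,0],[4,3,3,3,4,2,2,0,2,0,2,0,2,2,0,2,2,2,0,3,0,2,2,1,2]⟩,
  ⟨6,[2,2,4,1,3,4,3,3,4,0,2,0,2,0,2,2,0,3,0,2,2,2,0,2,1],1,6,[4,3,3,4,3,3,4,3,4,3,0,3,0,3,3,0,2,2,2,0,3,0,2,2,0,2],[2,2,4,2,2,4,2,4,0,3,0,2,0,2,2,2,0,2,2,0,3,0,2,2]⟩,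
  ⟨4,[1,2,2,4,0,2,0,2,2,0,2,0,2,0,3,0,3,0,3,3,0,2,2,2,0],4,4,[1,3,1,3,3,3,4,0,3,0,2,0,3,3,0,2,0,3,3,0,2,0,2,1,2,2],[4,2,4,1,3,3,4,0,2,0,3,3,0,3,0,2,2,0,2,0,3,3,0,2,0,3,3,1]⟩,
  ⟨7,[1,3,3,4,1,3,4,0,2,2,2,0,2,0,3,0,3,0,3,0,2,1],1,6,[3,4,3,3,1,3,4,3,4,0,3,0,2,2,2,0,3,0,2,2,0,2,2,0,2,2,0,2,0],[1,2,4,1,2,2,4,0,2,0,2,2,2,0,3,0,2,2,0,2,0,2,2,2]⟩,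
  ⟨3,[3,1,3,1,3,3,3,4,0,2,0,2,2,0,3,0,2,2,0,3,3,0,3,1,3],0,3,[],[3,1,3,1,3,3,3,4,0,2,0,2,2,0,3,0,2,2,0,3,3,0,3,0,3]⟩,
  ⟨6,[4,1,3,3,1,3,3,4,0,2,2,2,0,2,0,2,2,0,3,0,2,2,2,0,2,0,3,0,3,1],1,5,[4,2,1,3,3,4,0,3,0,2,0,3,3,0,2,0,2,0,2,2,0,3,3,0,2,2,1,2,2],[3,3,4,3,4,3,4,3,4,2,2,2,0,2,0,3,0,3,3,0,3,0,2,2,0,2,1,2,2,2]⟩,
  ⟨4,[1,2,2,4,3,0,2,2,0,2,0,2,0,2,2,0,3,3,0,2,0,2,2,0,3,0,3],1,6,[2,4,3,3,0,3,3,0,2,0,2,2,0,2,2,0,2,0,3,3,0,3,0,3],[4,3,4,2,4,0,3,0,2,2,0,2,0,3,0,3,0,2,0,2,0,3,3]⟩,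
  ⟨6,[2,4,1,2,2,4,0,2,2,0,2,0,3,3,0,3,0,2,0,2,2,0,3],1,7,[3,1,3,4,3,3,4,2,0,2,2,0,2,0,2,0,3,0,3,0,2,0,2,2,0,2,2,2],[3,4,1,3,3,3,4,0,2,0,2,0,2,2,0,3,3,0,2,0,2,2,0,2,0,2,2,2,0,2]⟩,
  ⟨6,[4,1,3,1,3,3,4,3,0,2,2,0,2,0,3,0,3,3,0,3,0,3,3,1,2],1,6,[4,1,3,1,3,3,4,0,3,3,0,2,2,0,2,0,2,2,0,3,3,0,3,3,0,2],[3,1,3,1,3,3,3,4,0,2,2,0,3,3,0,3,0,3,0,2,2,0,2,0,3,3,0,2,1,2,2,2]⟩,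
  ⟨6,[4,2,4,1,3,3,4,0,3,3,0,3,3,0,2,2,0,2,0,3,3,1,2],3,5,[4,2,0,2,0,2,2,0,2,0,2,0,3,3,0,2,1],[1,3,3,4,3,0,3,0,3,0,2,2,0,2,0,2,0,3,1,3,3]⟩,
  ⟨7,[2,1,2,1,3,3,3,4,2,0,3,0,2,2,0,3,3,0,3,0,3,0],1,6,[1,2,1,2,1,2,2,4,0,2,0,3,3,0,3,0,2,2,0,3,0,2,2,0,2,0,2,2,0,3],[3,3,3,4,2,2,2,0,2,0,2,2,0,3,0,3,3,0,3,3,1]⟩,
  ⟨4,[1,3,1,3,3,3,4,2,2,0,2,2,0,2,2,0,3,0,3,3,0,3,3,0,3,0,2,2,0,2],3,6,[2,4,0,3,3,0,3,0,2,2,2,0,2,2,2,0,2,0,3],[4,3,4,2,4,3,3,0,2,0,2,2,0,3,0,3,3,0,3,0,3,0,2,1,2,2]⟩,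
  ⟨7,[1,2,1,2,4,2,4,0,2,0,3,3,0,3,0,3,3,0,2,2,0,2,0,2,2,0,3,1],1,6,[4,2,4,1,3,3,3,4,3,0,2,0,2,0,3,3,0,3,0,2,2,0,3,1,3],[2,1,2,2,4,1,2,4,0,2,2,0,3,3,0,3,0,3,3,0,3,3,0,3,3]⟩,
  ⟨6,[3,4,2,4,2,4,2,4,0,3,0,3,0,3,3,0,3,3,0,3,3,0,2,0,2,0,2,1,3],1,7,[4,1,2,1,3,4,3,3,4,3,3,0,3,3,0,3,3,0,2,1,3],[4,3,1,3,4,3,4,2,2,0,2,0,2,2,2,0,3,3,0,3,0,3,0]⟩,
  ⟨7,[1,3,4,3,3,0,2,2,0,3,0,3,3,0,2,1,2],1,5,[3,3,3,4,3,1,3,3,4,2,0,2,2,0,2,0,2,0,3,3,0,3,0,3,3,0,3,3,0,3],[1,2,1,2,1,2,2,4,2,2,2,0,3,0,2,2,0,2,2,0,2,1,2,2]⟩,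
  ⟨6,[1,2,1,3,4,3,3,4,0,2,0,2,2,2,0,3,3,0,3,0,3,0,3,3,0,3,3,0,3],1,4,[2,2,1,3,3,4,3,4,3,0,2,2,0,2,2,0,3,0,2,2,0,3,3,1],[4,1,2,4,3,0,3,0,3,0,2,2,0,2,0,3,3,0,2,0,3,3,0,3,3,1,2]⟩,
  ⟨6,[1,3,4,1,3,3,3,4,2,0,3,3,0,2,2,0,2,0,3,0,3,0,2,0,3,3,0,3],1,2,[1,2,1,3,3,4,1,3,4,2,0,3,0,3,3,0,2,0,2,2,0,2,0,2,2,0,3,1,3],[1,2,2,4,1,2,4,0,2,2,0,2,0,2,2,0,2,2,0,2,2,0,3,0,3,3]⟩,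
  ⟨6,[4,1,3,4,1,3,4,3,0,2,0,2,0,3,0,2,2,0,2,2,0,3,3,0,3,0,3,0,2,0,2],1,5,[4,1,2,2,4,2,2,2,0,2,2,2,0,2,2,2,0,2,2,2,0,2,2,2,1,2,2,2],[3,4,1,3,4,2,0,3,3,0,2,2,0,2,0,3,0,3,0,2,0,3,3,0,3,0,2]⟩,
  ⟨6,[4,3,1,2,1,3,3,3,4,0,2,0,2,2,0,2,0,3,0,2,2,0,3,0,3,0,3,0,2,1,2],1,6,[4,1,2,4,0,3,3,0,3,0,3,3,0,3,0,2,0,2,0,3,3],[4,1,2,1,3,1,3,3,3,4,3,3,0,2,0,2,0,3,0,3,3,0,2,2,2,0,2,2,1]⟩,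
  ⟨6,[2,4,2,1,3,3,4,2,0,3,3,0,3,3,0,2,2,0,3,3,0,3,3,1,2,2],1,2,[2,4,2,4,3,3,4,1,3,4,0,3,0,3,0,2,0,2,0,3,0,2,2,0,3,0,3,3,1,3],[2,4,3,3,4,2,0,3,0,3,3,0,3,0,3,1,2,2]⟩,
  ⟨6,[2,4,1,3,1,3,3,4,2,0,3,3,0,3,0,3,0,2,0,3,3,0,2,0,2,0],1,4,[2,2,1,3,3,4,3,4,0,2,0,3,0,3,0,2,0,2,2,0,3,0,3,3,0,3,0,3,3,1,2],[3,4,3,4,2,2,4,0,2,0,3,0,3,0,3,0,3,3,0,2,2,0,2,0,2,2,1,2,2]⟩,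
  ⟨6,[2,4,3,4,1,3,3,4,0,3,3,0,3,0,2,2,0,2,1,2],1,5,[3,4,3,4,3,4,1,3,4,3,3,0,3,0,3,0,3,3,0,2,2,0,2,0,3,0,3,0,3,0],[4,2,4,3,3,4,0,2,0,2,0,2,2,0,2,0,2,2,0,3,0,3,0,3,0,2]⟩,
  ⟨6,[3,3,1,3,3,4,3,0,3,0,2,0,2,0,2,2,0,3,0,2,2,2,0,2,0,2,1,3],1,5,[3,4,1,3,4,0,3,3,0,3,0,3,0,2,0,2,0,2,0,3,0,3,0,2,2,2],[3,4,1,3,1,3,3,3,4,2,0,3,0,3,3,0,3,0,2,2,0,2,0,3,3,0,3,3,0,3,3]⟩]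

/-- facts -/
def facts6 : List Edge := [
  ⟨6,[2,2,4,3,1,3,4,3,4,2,2,0,3,0,3,0,3,3,0,2,2,0,2,0,3,0,3,0,2,0,2],1,5,[2,4,2,4,3,3,4,0,3,3,0,2,2,0,2,0,3,3,0,3,0,2,2,0],[4,2,1,2,2,4,2,2,0,2,2,2,0,2,2,2,0,3,0]⟩,
  ⟨6,[2,4,3,4,3,4,3,4,3,0,3,3,0,3,3,0,2,2,0,3,3,0,3,0,2,2,0,3,1,2,2],1,6,[3,4,3,4,3,4,1,3,4,2,0,2,0,3,3,0,3,0,2,2,0,2,2,0,3,3,0,3,0,3,0,2],[2,4,1,3,4,3,3,4,0,2,0,3,0,2,2,2,0,2,0,3,0,3,0,3,3,0,2,2,2,0,2]⟩,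
  ⟨6,[4,1,3,3,3,4,0,3,0,2,2,0,3,0,3,3,0,2,2,0,2,0],1,5,[3,1,2,4,2,2,4,3,4,0,3,3,0,2,0,2,0,2,0,3,0,2,2,0,2,2,2,0,2,0,3,1],[2,2,1,3,3,4,3,4,0,3,0,2,0,2,2,0,2,2,0,3,3,0,2,0]⟩,
  ⟨6,[4,2,4,1,2,2,4,2,0,3,3,0,3,0,2,2,2,0,2,0,3,3,1,2,2],1,7,[3,4,1,3,1,3,3,4,2,0,3,3,0,3,0,3,3,0,3,3,0,2,0,2,2,0,2,0,2],[4,1,3,3,3,4,0,2,0,3,3,0,3,3,0,2,0,2,2,0,3,0,2,2,0,3,0,3]⟩,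
  ⟨7,[1,3,3,3,4,3,4,2,0,3,0,3,0,2,0,2,2,0,2,0,3,0,2],1,4,[2,1,3,4,3,4,2,2,0,2,0,3,0,2,2,0,3,0,3,3,0,2,2,0,2,0,3,1],[1,3,1,3,3,4,2,0,3,0,2,2,2,0,3,3,0,3,0,3,3,0,2,0,3]⟩,
  ⟨6,[2,1,3,1,3,3,3,4,2,0,3,3,0,3,0,2,0,2,2,0,2,0,2,2,2,0,3,1,3],1,5,[1,2,4,1,2,4,0,3,3,0,3,3,0,2,2,0,2,0,2,2,2,0],[3,4,1,3,1,3,3,3,4,0,2,0,3,3,0,2,0,2,2,0,3,0,3,0,3,0,2,0,2,1,3,3]⟩,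
  ⟨6,[2,2,4,2,4,1,3,3,3,4,3,0,2,2,0,2,0,3,0,3,0,2,2,0,2,0,2,0,3,1,3],1,6,[1,2,4,2,4,2,4,0,2,2,0,3,0,2,2,0,3,0,3,3,0,2,2,0,2,2,0,3,3],[4,2,2,4,3,4,2,0,3,3,0,2,2,0,2,0,2,2,0,2,0,3,3,0,3,3,0]⟩,
  ⟨6,[2,4,3,4,2,0,2,2,0,2,0,3,0,2,2,0,2,2,0,3,3,0,2,2,0,2,1],1,2,[4,1,3,4,1,3,4,2,2,2,0,2,0,3,3,0,3,3,0,2,0,3,3,0,3,1],[4,3,4,2,4,0,2,2,2,0,2,0,3,3,0,2,0,2,2,0,3,0,3,3,0,3,0,3,0,3]⟩,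
  ⟨6,[2,1,3,4,3,4,3,4,0,3,0,3,0,3,3,0,3,0,2,0,2,0,3,0,3,0,3,1,2],1,6,[4,2,1,2,4,1,2,2,4,0,2,0,2,2,2,0,2,2,2,0,3,0,2,2,0,3,0,3,3],[1,2,4,2,2,4,3,4,0,3,0,2,0,2,2,2,0,3,0,3,3,0,2,2,0,2,0,3,3,0]⟩,
  ⟨6,[3,3,1,3,3,4,0,2,0,2,2,0,2,2,0,2,2,0,2,0,2,0,3,1,3],3,7,[4,1,2,1,3,4,3,3,4,3,0,3,3,0,3,0,2,2,0,2,0,2,2,0,2,0,2],[2,4,3,4,3,3,3,4,3,3,0,2,2,2,0,2,2,0,3,0,3,3,0,3,0]⟩,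
  ⟨6,[2,4,3,3,4,1,3,4,0,3,0,2,2,0,2,2,0,2,0,2,0,3,0,3,3,0,3,0,2,0,2,0,3,0],1,6,[4,1,3,4,1,3,4,3,0,2,2,0,2,0,2,0,3,0,2,2,0,3,0,3,3,0,2,1],[1,2,2,4,1,2,4,2,2,0,3,3,0,3,0,3,0,2,0,2,2,0,2,2,0]⟩,
  ⟨7,[3,3,4,1,3,4,2,2,2,0,2,0,3,0,3,0,2,0,2,2,0,2,2,2,1],1,7,[3,3,4,1,3,4,2,2,2,0,2,2,0,2,0,2,0,3,0,3,3,0,2,2,2,0,3],[4,1,3,3,4,3,4,3,0,2,2,0,3,0,3,3,0,2,0,3,3,0,2,0,2,2,0,3]⟩,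
  ⟨6,[4,1,2,4,1,2,2,4,0,2,2,0,3,0,2,2,2,0,2,2,2,0,2,0,3,0],1,6,[3,4,3,1,3,4,3,3,4,0,3,3,0,3,0,2,0,2,0,2,2,0,3,3,0,3,3,0],[4,2,4,2,4,0,3,0,3,0,3,0,2,0,3,3,0,3,3,0,2,2,0,2,0,3,0]⟩,
  ⟨6,[1,2,4,3,4,3,3,3,4,3,0,3,0,2,0,3,3,0,3,0,2,0,2,0,3,3,0,3],1,5,[3,4,1,3,3,3,4,3,4,0,3,3,0,2,2,0,3,3,0,3,0,3,0,2,0,2,2,2,1,2,2,2],[1,2,2,4,3,0,2,0,2,2,0,2,2,0,2,2,0,2,2,0,3,3,0,3]⟩,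
  ⟨6,[2,2,4,3,4,3,0,2,0,3,3,0,2,0,2,2,0,3,3,0,3,1,2,2,2],1,5,[2,2,4,2,4,0,3,0,3,0,2,0,3,3,0,2,2,0,2,0,3,3,1],[0,2,0,2,2,0,3,0,2,2,0,3,0,3,3,0,3,0,2,2,1,3,3]⟩,
  ⟨7,[1,3,3,4,0,3,0,2,2,2,0,3,0,2,2,0,2,2,2,0,2,0,3],1,5,[3,3,3,4,2,4,0,2,0,2,0,3,3,0,2,0],[4,2,1,2,1,2,2,4,0,3,0,3,0,3,3,0,3,0,2,2,0,2,0,2,2,0,3,3,0,3,3]⟩,
  ⟨6,[1,3,4,1,3,3,3,4,0,2,2,2,0,3,0,2,2,0,3,0,3,3,0,2,0,2,0,3,0,2,2,1],2,6,[1,3,4,1,3,3,3,4,0,2,0,2,0,2,2,2,0,2,2,0,3,0,2,2,0,3,1,2],[2,1,2,2,4,1,2,4,0,2,2,0,3,0,3,0,2,0,2,2,2,0,2,2,0,2]⟩,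
  ⟨6,[4,2,2,4,1,2,4,0,2,0,2,2,0,2,2,0,2,2,0,3,0,2,2,0,2,2,0,3],1,6,[4,1,3,1,3,4,3,3,4,2,2,0,2,0,2,0,3,0,3,3,0,3,0,2,2,0,2,0,2,2,0],[3,4,1,3,4,3,0,3,0,2,2,0,3,0,2,2,2,0,2,0,2,0,3,1]⟩,
  ⟨6,[1,3,4,1,3,3,3,4,2,0,3,3,0,3,3,0,3,3,0,2,0,2,0,2,0,3,0],3,5,[4,2,0,2,0,2,0,2,2,0,3,3,0,2,0,2,2,1,3],[4,1,2,2,4,1,2,4,0,3,0,2,0,2,0,2,2,0,2,0,3,1,3,3]⟩,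
  ⟨7,[4,3,4,2,4,3,3,3,4,3,0,3,0,2,2,0,3,0,2,2,0,3,0,3,3,0,3,0,3,0,2,0,2,2,1],1,4,[3,4,3,1,3,3,3,4,2,2,0,2,0,3,0,3,0,2,0,3,3,0,2,2,0],[4,3,4,3,3,3,4,2,0,3,0,3,0,3,3,0,2,0,2,2,2,1,2]⟩,
  ⟨6,[3,1,2,1,3,1,3,3,4,0,3,0,3,3,0,2,0,2,2,0,2,0,3,3,0,3,0,3,0,2],1,6,[3,1,2,1,3,1,3,3,4,0,2,0,2,0,2,0,2,2,0,2,0,3,0,3,0,2,0,2,2,0,2],[3,4,2,4,2,0,3,0,2,2,0,3,0,2,2,0,3,1,2]⟩,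
  ⟨6,[4,3,1,3,3,4,0,3,3,0,3,0,3,0,2,0,3,3,0,3,3,0,2,1,3,3],2,5,[3,3,1,2,2,4,1,2,4,0,3,0,2,2,0,2,0,2,2,0,2,2,0,2,0,2,0,3,1],[1,3,3,4,0,3,0,2,0,2,2,0,2,0,2,0,3,0,2,2,2,0,3,0,2]⟩,
  ⟨6,[3,4,2,2,4,0,2,0,3,3,0,2,0,2,2,0,2,0,2,2,0,3,0,3,3,1,2],1,6,[2,4,1,2,4,2,0,2,2,0,2,0,3,0,2,2,0,2,2,0,3,3,0,3,0,2,1,2],[1,3,3,4,3,0,3,3,0,2,2,0,2,2,0,3,0,3,3,0,2,2,0,3,3,0,3,0]⟩,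
  ⟨7,[4,2,4,2,2,0,3,0,2,2,0,2,0,3,3,0,2,0,3,3,0,2,0,2,1],1,6,[2,4,3,3,4,1,3,4,0,3,3,0,3,3,0,3,0,2,2,0,3,0,3,3,1,2,2,2],[2,4,3,3,3,4,2,2,0,3,0,2,2,0,3,0,2,2,2,0,3,0,3,0,2]⟩,
  ⟨6,[4,2,1,3,3,4,2,0,2,0,2,0,3,0,3,3,0,2,2,0,2,0,3,3,0,2,2,2],1,5,[3,3,4,2,2,0,2,2,0,2,0,3,3,0,2,0,2,2,0,3,0,2,2,2],[3,4,2,1,3,3,4,0,2,0,2,0,3,0,2,2,0,3,3,0,3,3,1,3]⟩,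
  ⟨6,[3,1,3,3,3,4,2,0,2,0,2,2,0,3,0,3,3,0,2,2,0,3,0,2,2,1,2],1,6,[2,4,3,3,4,1,3,4,2,0,2,0,2,0,2,2,0,3,3,0,3,3,0,2,2,0,3,1,2,2],[4,2,1,3,3,3,4,0,3,3,0,3,3,0,3,3,0,3,0,3,0,3,3,0,2,2,2,0,2,2]⟩,
  ⟨6,[3,3,1,3,3,4,0,3,0,3,0,2,0,2,2,2,0,2,2,0,2,0,2,0],1,5,[1,2,4,3,3,4,1,3,4,0,2,0,2,2,0,3,0,3,3,0,2,0,2,0,3,1,3,3],[3,3,4,1,3,1,3,3,4,3,3,0,2,0,2,0,3,0,3,3,1,2,2]⟩,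
  ⟨6,[1,3,1,3,1,3,3,4,2,0,2,0,3,0,3,0,2,0,2,2,0,3,0,3,3],1,6,[1,3,1,3,1,3,3,4,2,0,2,0,2,0,3,0,3,0,3,0,2,0,2,2,0,2,0,2],[3,4,0,2,0,3,0,2,2,0,2,0,2,2,0]⟩,
  ⟨6,[3,3,4,2,4,2,4,2,4,2,0,2,2,2,0,3,3,0,3,0,2,2,0,3,0,3,3,0,3,3],1,6,[1,2,4,1,2,2,4,0,3,3,0,3,0,3,0,2,2,2,0,3,3,0,3,0,3],[4,3,4,3,4,3,3,4,2,0,3,3,0,3,0,2,0,2,2,0,2,0,3,3,0,3,3,1,2]⟩,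
  ⟨6,[1,3,1,3,4,3,4,2,2,2,0,2,2,0,3,3,0,3,0,3,0,2,0,2,2,2,0,3,0],1,4,[4,3,3,1,3,3,4,2,0,2,2,0,2,2,2,0,3,0,3,3,0,2,0,2,2,2],[4,1,2,4,0,2,2,0,2,2,0,2,0,3,3,0,3,0,3,0,3,3,0,3,3,1,2]⟩,
  ⟨6,[4,2,4,1,2,2,4,2,0,2,0,3,0,3,0,2,2,2,0,2,2,2,0,3,1],1,4,[3,3,3,4,3,3,4,3,4,0,3,0,3,0,3,0,2,0,3,3,0,2,0,2,2,0,2,2,0,2,1],[4,1,3,1,3,3,4,0,3,0,2,0,2,0,2,2,0,3,3,0,2,0,2,2,0,3,0,2,2,1]⟩,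
  ⟨6,[3,3,4,1,3,1,3,3,4,3,0,3,0,2,2,0,3,0,2,2,0,3,0,3,3,0,3,1,2,2,2],1,6,[1,3,4,3,3,4,0,3,3,0,2,0,2,2,2,0,3,0,3,3,0,2,0,2,2,0,3,0,3],[2,2,4,2,2,4,2,4,0,3,0,2,0,2,2,2,0,2,2]⟩,
  ⟨6,[4,2,4,1,3,3,4,3,0,3,0,3,3,0,2,0,2,0,3,0,3,3,0,3,0,3,1],4,6,[1,3,4,0,2,2,0,3,3,0,3,0,2,0,2,0,3,0,3,3,0,2,2,1,3],[3,4,2,1,3,3,4,0,3,3,0,2,0,2,2,0,3,3,0,2,2,0,2,0,2,2,1,2,2]⟩,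
  ⟨6,[3,1,2,1,3,1,3,3,4,2,2,2,0,2,0,3,0,3,0,3,3,0,3,0,2,2,0,2,0,3,0,3,1],3,6,[3,1,2,1,3,1,3,3,4,2,2,2,0,2,0,3,0,3,0,3,3,0,3,0,2,2,0,2,0,3,0,3,0],[4,3,4,0,3,0,2,2,0,3,0,3,3,0,3,3,0,2,2,0,3,3,0,3]⟩,
  ⟨6,[3,4,3,4,3,3,4,0,2,0,2,2,0,2,0,3,0,2,2,0,2,2,0,3,0,2,2,2,1,3],1,5,[2,4,3,4,0,3,0,3,0,2,2,0,2,0,3,3,0,2,1,2,2],[1,3,1,3,4,3,3,4,2,2,2,0,3,0,3,3,0,2,2,0,3,3,0,3]⟩,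
  ⟨6,[2,4,2,4,3,4,2,0,2,0,2,0,3,0,3,0,3,0,2,2,0,2,0,3,1,2],1,5,[4,1,2,1,2,1,2,2,4,0,2,2,0,3,3,0,2,2,0,2,0,2,0,3,1,3],[3,4,2,4,2,0,2,0,2,0,2,2,0,2,2,2,0,2,0,3,0,3,3,0,3,1]⟩,
  ⟨6,[2,4,3,4,3,3,4,3,3,0,2,2,0,2,0,3,3,0,3,3,0,3,0,2,0,2,0],1,5,[4,1,3,3,4,2,2,0,3,3,0,3,3,0,2,2,0,3,3,1,2,2],[4,2,4,3,3,4,0,3,0,2,0,2,0,2,2,0,2,0,3,3,0,3,3,0,3,0]⟩,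
  ⟨6,[3,3,4,1,3,4,2,2,0,3,0,3,0,2,0,3,3,0,3,0,2,2,2,0,3],1,5,[1,3,4,1,3,1,3,3,4,2,0,2,2,0,3,0,3,3,0,2,2,0,2,0,3,3,0,3,3,0,2],[3,4,3,4,1,3,3,3,4,3,0,3,0,2,0,2,0,2,2,0,2,2,0,2,2,0,3,0,3,0,3]⟩,
  ⟨6,[3,3,4,0,3,0,2,2,0,2,0,3,0,3,3,0,3,0,3,3,1,3,3],1,7,[2,4,2,4,3,4,2,0,2,2,0,2,0,3,3,0,2,0,2,2,0,3,3,0,3,0,2,2,1],[0,3,0,2,0,2,0,2,2,0,2,2,0,3,3,0,3,0]⟩,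
  ⟨6,[4,3,1,2,1,3,1,3,3,4,3,0,3,0,3,3,0,2,2,0,2,0,2,2,0,3,0,2,2,2],1,6,[4,3,1,2,1,3,3,3,4,2,2,0,2,0,2,2,0,3,3,0,3,0,2,2,0,3,0,2,2,2,1,3],[4,2,1,3,1,3,3,3,4,0,3,0,3,3,0,3,0,3,3,0,2,2,0,3]⟩]

/-- facts -/
def facts7 : List Edge := [
  ⟨6,[3,1,3,1,3,3,3,4,0,3,0,2,0,2,2,0,3,0,3,0,2,2,2,0,2,0,3,1,3],4,5,[2,2,1,3,3,4,3,4,3,0,3,3,0,2,0,3,3,0,2,0,2,2,0,3,0,3,0,2,1,2,2,2],[4,3,4,2,4,3,3,0,2,2,0,2,0,3,0,2,2,0,3,3,0,3,3,0,2,1]⟩,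
  ⟨6,[2,1,2,2,4,0,2,0,3,0,3,3,0,2,2,0,2,0,2,0,2],1,5,[2,4,1,3,1,3,3,3,4,2,2,2,0,2,0,2,2,0,2,1,3,3],[4,1,3,3,4,2,0,3,0,3,0,2,0,2,2,2,0,2,2,0,3,0,2]⟩,
  ⟨6,[4,2,1,3,3,4,1,3,4,0,2,0,3,0,3,3,0,3,0,2,0,2,2,0,3,1,2],1,6,[1,3,4,3,1,3,4,3,3,4,0,2,0,3,0,3,0,3,0,3,3,0,2,2,0,2,2,0,2],[2,2,4,0,2,2,0,2,0,2,2,0,3,3,0,3,3,1,2]⟩,
  ⟨6,[2,2,4,3,4,3,0,2,0,3,3,0,2,0,2,2,0,3,0,3,3,0,3,1],1,2,[2,2,1,3,3,4,1,3,4,0,2,2,2,0,3,0,3,3,0,2,0,2,0,2,2,0,3,3,0,3,1],[3,4,3,1,3,4,0,2,0,2,0,3,0,3,3,0,2,2]⟩,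
  ⟨6,[2,1,3,3,3,4,0,2,2,0,3,3,0,2,2,0,2,0,2,0,2,2,0,2,2,2,0,2,0,3],1,7,[2,1,3,3,4,3,0,3,3,0,3,0,2,0,2,0,3,0,3,1],[2,1,3,1,3,3,4,3,3,0,3,0,2,0,2,0,2,0,2,2,0,3,3,0,3,1,3]⟩,
  ⟨6,[3,4,3,4,3,3,4,0,3,3,0,2,2,0,2,0,3,3,0,3,0,3,0,2,0,3,3],4,5,[3,3,1,2,2,4,1,2,4,0,2,2,0,3,0,3,3,0,3,0,2,2,0,2,2],[4,1,2,2,4,1,2,4,3,3,0,2,2,0,2,0,2,0,3,3,0,3,3,0,2,1]⟩,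
  ⟨6,[3,3,4,3,4,2,2,4,2,2,2,0,2,0,2,0,2,2,0,3,3,0,3,3,0,3,0,2,2,1],1,6,[1,3,3,4,3,0,2,0,2,2,0,2,0,2,0,3,3,0,3,0,2,0,2,2],[1,2,2,4,1,2,4,2,2,0,2,0,2,0,2,2,0,3,3,0,3,0,2,0,2,2,0,2,1]⟩,
  ⟨6,[2,4,3,1,3,4,3,0,2,2,0,3,3,0,3,0,3,3,0,3,0,2,2,1,2,2],1,6,[2,4,3,1,3,4,0,3,0,2,0,2,0,2,2,0,3,0,3,3,0,3,0,2,0,2,0,2,0],[4,3,1,3,4,0,2,2,0,3,3,1,2,2]⟩,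
  ⟨6,[3,4,3,4,3,3,4,3,0,2,0,3,3,0,2,0,2,2,2,0,2,2,2,1],2,6,[3,3,1,3,3,4,2,0,2,2,2,0,3,0,2,2,0,3,0,2,2,2,0,3,0,2],[3,3,4,2,4,2,0,2,0,2,0,3,0,3,0,2,0,2,0]⟩,
  ⟨6,[4,1,3,1,3,4,3,4,0,2,2,0,3,0,2,2,2,0,2,2,0,2,0,2,0,3,0,2,2],1,4,[4,2,1,3,1,3,3,3,4,0,2,0,3,3,0,3,3,0,3,0,2,2,0,3,0,3,3,0,2,2,1,3],[1,2,2,4,1,2,4,2,0,3,0,3,0,3,0,2,0,2,2,0,2,0,2,0,3,0,3,0,2,0]⟩,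
  ⟨6,[4,1,2,2,4,3,4,0,3,0,3,0,2,0,2,0,2,2,0,2,0,3,0,3,0,3,1],1,5,[2,1,2,4,1,2,2,4,3,0,2,2,0,2,0,2,0,3,0,3,3,0,3,3,0,2,1],[4,2,4,3,3,4,2,2,0,3,3,0,2,2,0,2,0,2,2,0,2]⟩,
  ⟨7,[1,3,1,3,3,3,4,0,2,0,3,0,3,0,2,2,0,3,0,2,2,0,2,1],1,5,[1,3,3,1,3,4,3,4,2,0,2,2,2,0,2,2,0,2,0,3,0,3,0,2,2,2,0,3],[2,1,2,1,2,2,4,3,0,3,0,3,3,0,2,2,0,3,0,3,3,1,3,3]⟩,
  ⟨6,[3,4,3,3,4,2,2,2,0,2,2,0,3,3,0,2,2,0,2,0,3,3,0,3,0,2,2,1,3,3],1,4,[4,3,3,4,3,4,3,4,0,3,0,2,0,2,2,0,2,0,3,0,2,2],[4,3,4,3,1,3,4,3,3,0,3,0,3,3,0,2,2,2,0,2,0,2,0,3,0,2,2,2]⟩,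
  ⟨6,[1,3,3,1,3,4,3,4,2,2,0,3,3,0,3,0,2,0,2,0,2,2,0],2,7,[4,1,3,1,3,1,3,3,4,3,0,3,0,2,0,2,2,0,2,0,3,3,0,3,1],[2,4,2,1,2,2,4,0,2,0,2,0,3,0,3,0,2,0,2,2,2,0,3,0,2,2,0]⟩,
  ⟨6,[3,4,3,4,3,3,4,0,2,0,2,0,3,0,3,0,3,0,2,0,2,2,0,2,0,3,1],1,7,[2,1,3,3,4,3,0,3,0,2,2,2,0,2,0,2,2,0,3,3,0,2,1,2],[1,3,3,4,2,4,2,4,2,4,0,3,0,2,2,0,3,0,3,3,0,2,2,1,2]⟩,
  ⟨6,[1,3,3,3,4,3,4,0,3,0,3,0,2,0,2,2,0,2,0,3,0,2,2,0,3,0,2,2,1,3],1,7,[3,3,3,4,3,4,2,0,2,0,2,2,0,3,0,2,2,0,2,2,0,3,0,2,2,2],[2,1,3,4,3,4,0,3,3,0,2,2,0,3,0,3,3,0,3,0,2,2,0,2,2,1,3]⟩,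
  ⟨6,[4,3,1,3,4,1,3,3,4,2,2,2,0,3,3,0,3,0,3,3,0,2,2,0,2,0,3,0,3,3,0,2,0],1,7,[3,1,3,1,3,3,3,4,2,2,0,2,0,2,2,0,2,2,0,2,0,2,1,2,2],[1,3,3,4,2,4,2,4,2,4,0,3,0,3,0,3,3,0,3,0,2,2,0,2,0,3,0]⟩,
  ⟨6,[4,2,4,2,2,2,0,2,0,3,3,0,2,0,2,2,0,3,0,3,3,0,3,0],1,3,[1,2,1,3,3,3,4,0,2,2,0,2,0,3,0,2,2,0,2,2,2,1],[3,4,2,0,2,2,2,0,3,0]⟩,
  ⟨6,[4,1,3,3,1,3,4,3,4,3,0,2,0,3,3,0,2,2,0,2,2,0,3,3,0,2,1],1,6,[2,4,2,1,3,3,3,4,2,2,0,2,2,0,2,0,3,3,0,3,0,2,2,0,2,2,0,2,2,0,2],[1,3,3,4,2,4,2,4,2,4,3,0,3,0,2,0,2,2,0,3,3,0,3,0,3,3,0,2]⟩,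
  ⟨6,[4,2,2,4,3,4,2,0,2,2,0,3,3,0,3,0,2,2,0,3,0,2,2,2,0,3,3],1,6,[1,3,1,3,3,3,4,0,3,0,3,0,3,3,0,2,0,2,2,0,3,3,0,2,0,2,2,2],[1,2,4,3,0,2,2,2,0,2,0,3,0,3,3,0,2,2,0,2,0,2,2,1,2,2,2]⟩,
  ⟨6,[1,3,4,1,3,3,3,4,2,0,3,0,2,2,0,2,0,3,3,0,3,3,0,2,0,3,3,0],4,5,[4,2,0,2,0,3,3,0,3,3,0,3,0,3,0,2,2,0],[3,4,2,0,2,0,2,2,0,2,0,3,0,3,0,2,0,2,0,2,1]⟩,
  ⟨7,[2,4,3,4,3,4,3,4,2,2,2,0,2,2,0,2,0,2,2,2,0,3,0,3,1,3,3],1,5,[3,4,3,3,3,4,0,2,0,2,0,3,3,0,2,0,3,3,0,3,3,0,2,0,2,2,2,1,3],[4,3,3,3,4,2,0,2,0,2,2,2,0,3,0,2,2,0,3,0,2,2]⟩,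
  ⟨6,[2,4,2,4,1,2,2,4,0,2,2,0,3,0,2,2,2,0,2,2,0,2,0,2,0,2],1,5,[2,1,2,4,1,2,2,4,3,3,0,3,3,0,3,3,0,3,0,2,0,2,0,2,2],[4,2,4,3,3,4,3,3,0,2,0,2,2,2,0,3,3,0,3,3,0,3,0,3,1]⟩,
  ⟨6,[3,3,4,3,4,1,3,3,4,0,2,0,2,0,2,0,2,2,0,2,0,3,0,2,2,0,3,1,3,3],1,4,[2,4,2,4,3,3,4,1,3,4,3,0,2,0,2,0,3,3,0,3,0,3,0,2,0,2,0,2,1],[1,2,4,0,3,0,3,3,0,2,0,2,0,2,0,3,0,2,2,0,3,0,3,3]⟩,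
  ⟨6,[3,4,2,4,3,0,2,0,2,0,2,0,2,2,0,2,0,3,3,0,3,0,2,1,2,2],1,4,[3,4,3,4,1,3,4,2,2,0,2,0,2,2,0,2,0,3,3,0,3,0,2,0,2,2,0],[4,3,4,1,3,4,3,0,2,2,0,3,0,2,2,0,2,0,3,0,3,3,0]⟩,
  ⟨6,[4,2,4,0,3,0,2,2,0,2,0,2,2,0,2,0,3,3,0,3,1,2,2],1,4,[1,3,1,3,3,3,4,3,0,2,0,3,3,0,3,0,2,2,0,2,2,0,3],[3,4,0,3,3,0,3,0,2,2,2,0,2,0,3,0,3,0,3,3,0,2,2,1,2]⟩,
  ⟨6,[3,1,2,4,1,3,3,3,4,0,2,0,2,0,2,2,2,0,3,0,3,1],1,5,[4,3,3,4,3,4,2,2,0,2,2,2,0,3,0,3,0,2,2,2,0,3],[2,2,4,3,1,3,3,4,0,3,3,0,2,0,2,2,0,2,0,2,2,2,0,3,3,0,3]⟩,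
  ⟨6,[3,1,2,1,2,2,4,3,0,3,3,0,3,3,0,3,0,3,0,3,3,0,3,3,0,3,0],1,7,[4,2,0,3,3,0,2,2,0,3,3,0,3,0,3,3,0,2],[3,4,3,0,2,2,0,2,2,0,3,3,0,3,3,0,3,3,0,3,3,0]⟩,
  ⟨6,[4,3,4,3,3,4,0,2,0,2,2,2,0,2,2,0,2,0,3,3,0,2,0,2,2,1,2],1,4,[1,2,1,2,4,2,4,0,2,2,0,2,0,3,0,3,0,2,0,2,2,0,3,0,3,3,1],[3,4,3,1,3,4,3,0,2,0,2,0,3,0,3,3,0,3,3,0,2,1,3]⟩,
  ⟨6,[4,2,4,0,2,2,0,3,0,3,3,0,3,0,2,0,2,0,3,3,1],2,4,[1,3,1,3,3,3,4,0,2,0,2,0,2,2,0,2,2,2,0,3,0,3,0,3,3,0],[4,3,4,2,4,2,2,0,2,2,0,3,3,0,3,0,3,3,0,2,0,2,1]⟩,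
  ⟨6,[2,2,4,3,3,4,2,2,0,2,2,0,3,0,3,3,1,3],1,5,[4,1,3,4,1,3,4,0,2,2,0,2,0,3,3,0,2,0,2,2,0,2,0,2,0,3,3,0],[2,4,3,3,4,2,2,0,2,0,3,0,3,0,2,0,2,0,3,0,2,2,0,3,1,3]⟩,
  ⟨6,[1,2,4,2,4,3,4,0,3,0,2,2,0,2,0,2,0,2,2,0,2,0,3,0,3,3,1],1,6,[4,3,3,4,1,3,4,3,0,3,0,2,2,0,2,2,0,3,3,1,2,2],[2,1,3,4,3,4,3,3,0,3,0,2,0,2,0,3,0,3,3,0,2,0,2,2,0,2,0,2,1,2]⟩,
  ⟨6,[3,4,3,4,1,3,3,3,4,0,2,2,2,0,2,2,0,2,0,2,0,2,2,0,3,3,0,3,0,2,0,2],1,6,[2,1,3,4,1,3,3,4,0,2,0,3,0,3,0,2,2,0,2,2,0,2,1,2],[2,4,3,3,3,4,3,4,0,2,0,3,0,3,3,0,3,0,3,3,0,3,3,0,3]⟩,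
  ⟨6,[3,3,3,4,0,3,0,2,2,0,2,0,2,0,3,0,2,2,2,0,3,0,2,2,1,3,3],1,6,[3,3,4,3,4,2,2,4,2,2,2,0,2,2,0,3,0,3,3,0,3,0,2,0,2,0,2,2,0,2,2],[4,2,2,4,2,2,0,2,0,3,0,3,0,2,2,2,0,2,2,0,2,1]⟩,
  ⟨6,[4,3,4,3,4,3,4,2,2,0,3,0,2,2,0,3,0,3,3,0,2,2,0,3,3,1,2,2,2],1,6,[2,4,1,3,1,3,3,3,4,3,3,0,2,0,2,0,2,0,3,0,3,3,0,2,0,2],[4,3,1,3,3,4,0,3,0,3,0,2,2,0,3,0,2,2,2,0,2,2,0,3,0,2]⟩,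
  ⟨6,[4,1,2,1,3,3,4,1,3,4,3,0,2,0,2,2,0,2,0,3,3,0,3,0,3,0,2,2,2,0,3,0],1,4,[3,1,2,2,4,2,4,2,2,0,2,0,2,2,0,3,0,3,0,3,1,2,2],[3,4,2,1,3,3,4,0,2,0,2,0,2,0,3,0,3,3,0,2,2,0,2,0,2,0,2,2,0,2,1]⟩,
  ⟨6,[3,1,3,4,1,3,3,4,2,2,0,2,0,2,2,2,0,3,0,3,0,3,3,0,3,0,2,0,2],1,5,[4,1,2,4,1,2,2,4,3,0,3,0,2,2,0,2,2,0,2,0,3,0,3,0,3,3,0,3,1,2],[4,1,3,1,3,1,3,3,4,0,3,0,2,2,2,0,2,2,0,3,0,3,3,0,3,0,3,3,0,2,2,1]⟩,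
  ⟨6,[1,2,1,3,4,1,3,3,4,0,2,2,0,2,0,3,0,3,0,2,0,2,2,2,0,2,2,2,0,2,0,2],1,7,[1,2,4,2,4,3,4,3,0,3,0,2,2,0,2,2,0,2,0,2,0,2,2,0,2,2,2,1],[2,4,3,3,3,4,3,4,2,0,2,2,0,2,2,0,3,3,0,2,2,0,2,0,2,2,0,3,3]⟩,
  ⟨6,[3,4,3,4,3,4,3,3,0,2,2,0,2,0,3,3,0,3,0,3,3,1,3],1,4,[3,3,4,2,4,2,4,2,4,0,2,2,2,0,2,2,2,0,2,0,3,3,0,2,0,2,2,0],[4,2,4,1,3,3,4,3,0,2,0,2,2,0,3,0,3,3,0,3,0,3,3,0,2,2,0,2,1,2]⟩,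
  ⟨6,[3,1,3,4,1,3,3,4,0,3,0,2,2,0,3,0,2,2,0,3,0,3,3,0,2,0,3,3],3,5,[3,3,1,2,2,4,1,2,4,0,2,0,2,0,3,0,3,3,0,3,3,0,2,2,0,2,0,2,0,3,3],[3,3,4,2,4,0,3,3,0,2,0,2,2,0,2,0,2,0,2,2,2,0,2,2,0,3,1]⟩]

/-- facts -/
def facts8 : List Edge := [
  ⟨6,[4,1,2,1,2,2,4,3,0,3,3,0,2,2,0,2,0,3,3,0,3,3,0,2,2,0,2,1,3],1,5,[3,4,1,3,3,4,1,3,4,2,2,0,2,2,0,2,2,0,3,3,0,2,2,0,3,3,0,3,0,2],[2,2,4,1,3,1,3,3,4,3,0,3,0,2,0,2,2,2,0,2,2,0,2,0,2,0,3,0,3,3]⟩,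
  ⟨7,[4,1,3,4,1,3,4,0,2,2,0,2,0,3,3,0,3,0,2,0,2,0,3,0,3,3,0,2,2,0,2],1,6,[2,4,3,3,4,0,2,2,0,3,0,3,3,0,3,0,3,0,2,2,2,0,3],[4,3,4,2,2,4,2,0,2,0,2,0,3,3,0,3,0,2,0,2,0,2,2,0,3,0,3,0]⟩,
  ⟨6,[3,4,2,4,2,0,2,2,0,3,3,0,2,0,2,2,0,2,2,2,0,2,0],4,4,[4,1,3,3,1,3,4,3,4,2,0,2,2,0,3,0,3,0,2,0,2,0,2,2,0,3,3,0,2,2,0,3],[4,3,3,4,2,4,0,3,0,3,3,0,3,0,2,0,2,0,2,0,3,0,3,1,3,3]⟩,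
  ⟨6,[3,1,2,1,3,3,3,4,0,2,2,0,2,0,2,2,2,0,3,0,3,3,1],1,6,[3,1,3,1,3,3,4,3,0,2,2,0,3,0,3,3,0,2,0,2,0,2,2],[4,3,4,0,2,0,3,3,0,3,3,0,3,0,3,3,0,2,0,2,0,3]⟩,
  ⟨6,[3,4,2,4,2,4,0,2,0,2,0,2,2,0,2,0,2,0,3,0,2,2,0,2,2,0],1,4,[3,4,1,3,1,3,3,3,4,0,2,0,3,0,3,0,2,0,2,2,0,3,3,0,3,0,2,2,2,0,2],[3,4,2,1,3,3,4,0,3,0,3,0,2,0,2,0,2,2,2,0,2,0,3,3,0,2,0,2,2]⟩,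
  ⟨6,[3,4,3,4,3,4,0,2,0,3,0,3,3,0,3,0,3,3,0,2,2,0,2,0],3,7,[0,2,2,0,2,2,0,2,2,0,3,0,3,3,0,3,0],[4,2,4,1,3,3,4,2,0,3,0,3,0,3,0,3,3,0,2,2,0,3,3,0,3,0,2,1,2]⟩,
  ⟨7,[2,1,3,3,4,0,3,3,0,3,0,2,2,0,3,0,3,3,0,3,3,0,3,0,3],4,5,[3,3,4,3,4,3,4,3,4,0,3,0,3,0,3,3,0,2,0,3,3,0,2,0,2,0,2,2,1,2],[2,4,1,3,3,4,2,0,2,2,2,0,3,3,0,3,0,3,0,2,2,2]⟩,
  ⟨6,[1,3,4,2,0,2,2,0,3,0,2,2,0,3,3,0,3,0,3,0,2,2,1,2],4,5,[4,1,3,1,3,3,4,2,0,3,3,0,2,0,2,2,2,0,2,2,0,3,0,2,2,2,1],[4,3,1,3,4,0,2,0,3,0,2,2,2,0,2,2,2,0,3,0,2,2,0,2,2,1,2]⟩,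
  ⟨6,[1,3,3,4,2,4,2,4,2,4,3,0,2,2,0,2,2,0,2,0,2,2,2,0,3,0,2,2,0],1,6,[3,4,2,4,3,1,3,3,4,3,0,2,2,2,0,3,0,2,2,0,3,3],[3,4,2,4,3,1,3,3,4,0,2,0,2,0,3,0,2,2,0,2,0,3,3,0,3,3,0,3,0,3,0,2,0]⟩,
  ⟨6,[4,3,4,2,2,4,0,2,0,3,0,3,3,0,2,2,0,2,0,3,3,0,3,3,0,2,2,1,3],1,6,[1,3,4,3,0,2,2,0,3,0,3,3,0,2,0,2,2,0,3,3,1],[1,3,3,4,2,0,2,0,3,3,0,3,3,0,3,3,0,2,2,0,2,2,2]⟩,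
  ⟨6,[2,1,3,4,3,4,3,4,0,2,2,2,0,2,2,0,3,0,3,3,1,2],1,6,[3,3,1,3,4,3,4,0,2,2,0,3,3,0,3,0,2,2,0,2,2,0,3,1,3],[2,4,3,3,4,1,3,4,3,0,2,2,0,2,0,2,2,0,2,2,0,3,1,3,3]⟩,
  ⟨6,[1,2,4,2,1,2,2,4,0,3,3,0,2,0,2,0,3,0,3,3,0,3,0,2,2,0,2,2,0,3,1,2],1,6,[3,3,4,2,1,3,3,4,0,2,2,2,0,2,2,0,2,2,0,2,2,0,2,0,3,0,3,0],[3,4,3,3,3,4,2,4,2,2,0,2,0,2,0,2,2,0,3,3,0,2,0,2,2,0,3,3,0,3]⟩,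
  ⟨7,[4,1,2,1,3,4,3,3,4,0,3,0,3,3,0,2,2,0,2,2,0,2,0,3,0,3,0,2,0,2,2,0],2,5,[1,3,4,3,4,1,3,3,4,2,2,0,2,0,3,0,3,3,0,3,0,2,2,2,0,2,0,2,1],[2,4,2,4,3,3,4,3,0,2,2,2,0,3,0,3,0,2,0,3,3,0,2,0,2,0,3,0]⟩,
  ⟨6,[0,2,2,0,3,0,3,0,2,0,3,3,0,3,3,0,2,0,3],0,6,[],[0,2,0,3,3,0,2,2,0,3,3,0,3,0,3,3,0,2,0]⟩,
  ⟨6,[4,3,3,1,3,3,4,2,0,2,0,2,0,2,2,0,2,0,3,3,0,3,3,0,3,1,3],1,6,[4,3,3,1,3,3,4,0,3,0,2,2,0,3,0,2,2,0,2,0,3,0,3,0,2,0,2,2,2,1],[2,1,3,3,4,2,0,2,2,0,3,0,3,3,0,3,0,3,3,0,2,2,0,2,0]⟩,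
  ⟨6,[4,2,1,3,3,4,1,3,4,2,0,3,3,0,2,0,2,0,2,2,0,2,2,2,0,2,0],1,6,[2,4,3,3,4,3,4,2,0,3,0,3,0,2,0,2,0,3,0,2,2,2,0,2,0,3,3,1],[1,2,4,2,4,2,4,0,3,0,3,3,0,2,0,2,2,0,3,0,3,3,1,2,2]⟩,
  ⟨6,[4,1,3,3,4,0,2,0,2,2,2,0,2,0,2,0,2,2,2,0,3,0,3],1,5,[1,2,4,2,2,4,2,4,2,2,2,0,2,2,0,2,0,2,0,3,0,3,3,0,3,1],[4,3,3,4,3,4,3,4,3,0,2,0,2,2,0,2,2,2,0,3,1,2,2]⟩,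
  ⟨7,[3,3,4,3,1,3,3,3,4,0,2,2,0,2,0,2,2,0,3,3,0,2,2,0,2,0,3,3,0,3,3],1,5,[4,3,1,3,4,3,3,4,0,3,0,2,0,2,2,0,2,0,3,3,0,3,0,3,0,2,0,2,2,2,0,3,3],[2,1,3,4,3,4,0,3,0,2,0,2,0,3,0,3,3,0,2,0,2,2,0,2,0,2,0,3]⟩,
  ⟨6,[4,3,4,1,3,4,2,0,3,3,0,3,3,0,3,0,2,2,0,3,0,3,3,0,3,0,2,2,0,3,3],1,5,[4,3,3,4,2,0,3,0,2,2,0,2,2,0,2,2,0,2,0,3,0,3,0],[3,4,1,3,1,3,3,3,4,2,0,3,3,0,2,2,0,2,0,3,0,3,0,2,0,3,3,0]⟩,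
  ⟨7,[1,3,3,4,3,1,3,3,4,3,0,2,0,2,2,0,3,0,3,3,0,3,0,3,0,3,3,0,2,2,0,2,0],0,7,[],[3,3,4,1,3,4,3,3,4,0,2,2,0,2,2,2,0,2,2,2,0,2,2,2,0,3,0]⟩,
  ⟨6,[1,3,4,1,3,1,3,3,4,0,2,0,2,0,3,0,3,0,2,0,2,0,2,2,0,3,1,3],1,5,[3,4,3,3,4,2,0,2,2,2,0,2,2,0,2,0,2,0,3,0,3,0,3,3,0,2,1],[4,1,2,1,3,4,3,3,4,0,2,2,0,3,3,0,2,0,3,3,0,2,0,2,2,1,2,2]⟩,
  ⟨6,[4,1,2,4,2,4,0,3,3,0,3,0,2,0,2,2,0,3,0,3,3,0,3,0,3,3,0],1,4,[2,2,1,3,3,4,3,4,0,3,0,3,0,2,2,2,0,2,0,3,0,3,0,3,3,0,2],[3,4,3,1,3,4,3,0,2,2,0,3,3,0,3,0,2,2,0,2,0,3,0,3,0,2,0]⟩,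
  ⟨6,[2,4,3,4,3,0,3,0,2,2,2,0,3,0,3,0,2,0,3,3,0,2,0],0,6,[],[4,3,4,2,4,2,0,2,0,2,2,2,0,2,0,2,2,0,2,0,3,3,0,2,1,2]⟩,
  ⟨7,[4,2,2,4,2,1,3,3,3,4,0,2,2,2,0,2,0,3,3,0,3,0,3,1,2],0,7,[],[2,4,1,2,4,2,0,2,2,0,2,0,3,0,3,0,2,0,2,2,0,2]⟩,
  ⟨6,[4,0,3,0,2,0,2,2,0,2,2,2,0,3,3,0,3,0,2,0],0,6,[],[4,3,0,3,0,2,0,2,2,0,2,2,2,0,3,3,0,3,0,2,1,2]⟩,
  ⟨8,[4,2,2,4,3,3,4,3,3,0,3,0,2,0,2,0,2,2,0,2,0,2,2,2,1],1,6,[4,1,3,1,3,1,3,3,4,3,3,0,3,3,0,3,3,0,3,0,3,0,2,0,2,2,2,0,2,0],[3,4,3,4,2,2,4,3,0,2,2,0,3,0,3,3,0,2,2,0,2,0,2,2,0,3,3,0,3,1]⟩,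
  ⟨8,[2,4,3,1,3,3,4,3,3,0,3,0,2,2,0,2,0,2,0,3,0,2,2,2,0,2],1,6,[4,3,1,2,1,3,1,3,3,4,0,3,3,0,3,0,3,0,2,0,2,0,3,0,3,0,3,0,2,1],[3,3,4,2,1,3,3,4,0,2,2,2,0,2,0,2,2,2,0,3,0,3,0,3,3,0]⟩,
  ⟨8,[2,0,2,0,2,2,0,3,3,0,3,0,2,0,2,2,0,2,1],4,6,[4,1,2,4,2,2,2,0,2,0,2,0,2,2,2,0,3,0,2,2,2,1],[4,1,3,4,2,0,2,0,2,2,0,3,0,3,3,0,2,2,0,3,3,0,3,0,2,2,1,2,2]⟩,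
  ⟨8,[2,4,3,1,3,3,4,2,2,0,2,0,3,3,0,3,0,3,3,0,3,0,2,0,2,0,3,0],1,6,[3,1,2,1,3,1,3,3,4,3,0,2,2,0,2,0,2,0,2,2,0,2,0,3,0,3,3,0,2,0,2,1],[3,1,2,1,3,3,3,4,2,0,3,0,3,0,2,2,2,0,2,2,2,0]⟩,
  ⟨8,[4,2,2,4,3,3,4,0,3,0,3,0,3,0,2,0,2,2,0,3,0,3,3,0,3,0,3,0,2,2],4,6,[3,1,2,1,3,1,3,3,4,3,0,2,0,3,3,0,3,1,3],[1,3,3,4,2,4,0,2,0,2,0,2,2,0,2,0,3,0,3,3,0,2,0,3,3,0]⟩,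
  ⟨8,[1,3,1,3,3,4,3,0,2,2,0,2,2,0,2,0,2,2,2],0,8,[],[3,4,3,4,1,3,4,2,2,0,2,2,0,3,0,3,3,0,2,0,2,2,0,3,3,1]⟩,
  ⟨8,[1,2,1,3,1,3,3,3,4,0,2,0,2,0,2,2,0,3,0,3,0,3,0,2,0,2,0],1,8,[2,4,3,3,4,1,3,4,0,2,0,3,0,3,0,3,0,3,3,0,3,0,2,2,0,2,0,3],[2,4,1,2,1,2,2,4,0,3,0,3,3,0,3,3,0,2,0,2,2,0,3,0,3,3,1,3,3]⟩,
  ⟨8,[1,2,4,3,4,3,3,3,4,2,0,2,2,0,2,0,3,3,0,3,3,0,2,2,0,2,0,2,1,2,2],1,6,[4,3,1,2,1,3,3,3,4,0,2,0,2,0,2,0,3,3,0,3,0,2,2,0,2,2,0,3,0],[4,3,4,3,4,3,4,2,0,3,0,3,0,3,0,2,0,2,2,0,3,3,0,3,0,2,2,1,2]⟩,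
  ⟨8,[4,2,1,3,4,3,3,4,0,2,0,3,0,2,2,0,2,2,0,2,2,2,0,3,0,3,0,3],1,6,[4,1,3,1,3,1,3,3,4,2,0,2,2,2,0,3,0,3,3,0,3,0,3,1,2],[4,1,3,3,4,3,4,3,4,0,3,0,2,0,3,3,0,3,3,0,2,2,0,3,3,1,3]⟩,
  ⟨8,[1,3,3,4,1,3,4,0,3,0,2,0,2,0,3,0,3,3,0,2,2,2,0,3,0,2],1,6,[4,3,1,2,1,3,1,3,3,4,3,3,0,2,0,2,2,0,3,3,0,3,0,3,0,2,0,3,3,0],[4,3,4,3,3,4,3,4,0,2,0,2,0,2,0,3,3,0,3,0,3,0,2,0,2,0,2,2,1]⟩,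
  ⟨8,[4,3,1,2,1,3,3,3,4,3,3,0,2,0,3,3,0,3,0,2,0,2,2,1],0,8,[],[1,2,1,2,4,1,2,2,4,0,2,0,2,0,2,0,3,0,3,0,2,0,3,3,0,2,0,2,0,3,1]⟩,
  ⟨5,[2,0,2,0,2,0,3,3,0,3,0,2,2,0,3,0,3,3,0,2,2,0,2,1],0,5,[],[2,2,0,3,0,3,0,2,0,2,2,0,2,2,1,3,3]⟩,
  ⟨5,[0,2,0,3,3,0,2,2,0,2,0,2,0,3,0,3,0,2,0,2,2,2,1],0,5,[],[2,2,0,3,3,0,2,2,0,2,0,2,0,2,2,2,0,2,0,2,0,3]⟩,
  ⟨5,[4,2,4,2,4,3,0,3,0,2,2,2,0,3,3,0,3,0,3,1,2,2],0,5,[],[4,3,4,3,4,0,2,2,0,3,3,0,2,0,2,2,0,3,3,0,2,0,2,2,2,0,3]⟩,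
  ⟨5,[2,0,2,0,2,2,0,3,3,0,3,0,2,2,0,2,2,0,3,3,0,2,2],0,5,[],[0,2,0,2,2,0,3,3,0,2,0,2,2,2,1,2,2,2]⟩]

/-- facts -/
def facts9 : List Edge := [
  ⟨8,[4,1,3,1,3,3,3,4,3,0,3,0,3,0,2,0,2,0,2,0,3,0,2,2,0,2,2,1,3],0,8,[],[3,4,2,4,3,1,3,3,4,2,0,2,0,3,3,0,3,0,2,0,2,0,2,2,0,2,0,3,3]⟩,
  ⟨8,[3,1,3,3,4,2,0,2,0,2,2,2,0,3,0,3,0,3,3,0,3,0,3,3,1],0,8,[],[2,4,1,2,2,4,3,4,2,0,3,0,3,0,3,3,0,3,0,2,2,0,2,1,3]⟩,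
  ⟨8,[2,2,4,3,4,3,4,3,4,3,3,0,2,0,2,0,2,2,0,3,3,0,3,0,2,1,2],0,8,[],[2,4,2,2,4,1,2,4,3,3,0,2,0,2,2,2,0,2,2,0,3,1,3]⟩,
  ⟨8,[3,4,1,3,4,3,4,2,2,2,0,3,0,3,3,0,2,2,0,3,3,0,3,0,2,2,0],0,8,[],[4,2,4,3,4,3,3,3,4,0,2,0,3,3,0,2,2,0,2,0,2,0,3,3,0,3,0,2,2,0,2]⟩,
  ⟨8,[2,4,3,4,3,4,3,3,0,3,0,2,0,2,0,3,0,3,3,0,2,0,2,2,0,2,0,2,0,2],0,8,[],[2,4,3,1,3,4,3,0,2,2,0,3,0,3,3,0,2,2,0,2,2,0,2,2,0,3,1]⟩,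
  ⟨5,[0,2,0,3,3,0,3,0,2,2,0,2,2,0,2,2,0,3,0],0,5,[],[0,3,0,3,0,2,0,3,3,0,3,3,0,2,2,0,3,3,0,3,0,3,1,3]⟩,
  ⟨5,[0,2,0,2,0,3,0,3,0,2,0,3,3,0,3,0,2,2,0,2,1],0,5,[],[0,2,2,0,3,3,0,2,2,0,2,0,2,2,0,3,0,3,0,3]⟩,
  ⟨8,[1,2,4,2,4,3,4,2,0,3,0,3,0,2,2,2,0,2,0,3,3,0,2,1,2],0,8,[],[4,2,2,4,2,4,0,3,0,2,2,2,0,3,0,2,2,0,3,3,0,3,0,2,0]⟩,
  ⟨5,[2,0,2,0,3,3,0,3,3,0,3,0,2,2,0,3,0,2,2,0,3,3],0,5,[],[0,3,0,2,0,2,2,0,2,0,3,3,0,3,0,3,0,2,0,2,1,3]⟩,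
  ⟨8,[3,4,3,1,3,4,0,3,0,2,0,3,3,0,3,0,3,3,0,3,3,0,3,1],0,8,[],[3,4,2,2,4,0,2,0,3,0,3,0,2,0,2,2,0,2,0,2,0,2,2,2,0,3,0]⟩,
  ⟨8,[3,3,1,2,2,4,2,4,3,0,3,3,0,3,3,0,3,3,0,2,0,2,0,2,0,3,1,3],0,8,[],[3,4,3,3,4,2,4,3,3,0,3,0,2,0,2,2,0,3,0,3,3,0,2,2,0,3,3,0,2]⟩]

/-- all facts -/
def facts : List Edge := facts0 ++ facts1 ++ facts2 ++ facts3 ++ facts4 ++ facts5 ++ facts6 ++ facts7 ++ facts8 ++ facts9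

/-- reasons -/
def why0 : List Why := [
  .defn,
  .defn,
  .defn,
  .defn,
  .defn,
  .defn,
  .defn,
  .defn,
  .base,
  .base,
  .base,
  .loop ⟨0,[4,0,2,0,2,2,2,0,2,0,2,2,0,2,0,3,3,0,2,2,2,1],[0,1,0,1,0,1],3,4,[⟨[(10,false),(9,true),(10,false),(9,true),(10,false),(8,false),(9,true),(10,false),(8,false)],0,false,[3,0,2,0,2,0,2,2,2,0,2,0,2,2,0,2,0,3,3,0,2,2,2]⟩],[⟨[(10,false)],0,false,[0,2,0,2,2,2,0,2,0,2,2,0,2,0,3,3,0,2,2,2,1]⟩]⟩,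
  .loop ⟨0,[1,3,3,1,3,4,3,4,0,2,2,0,3,0,3,3,0,3,0,2,0,2,0,2,2,0,2,2,2,1,2],[2,1,2],1,2,[⟨[(8,false),(9,false),(9,false),(8,false),(9,false),(10,false),(9,false),(10,false)],0,false,[2,0,3,0,3,3,0,2,2,0,2,0,3,0,3,0,2,0,3,3,1]⟩],[⟨[(8,true),(9,false),(9,false),(8,false),(9,false),(10,false),(9,false),(10,false)],0,false,[2,0,3,0,3,3,0,2,2,0,2,0,3,0,3,0,2,0,3,3,0]⟩]⟩,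
  .loop ⟨0,[2,1,2,4,1,2,2,4,0,2,0,3,0,3,0,2,2,2,0,2,0,3,0,3,0,3,1],[0,1,0,1,0,1],3,4,[⟨[(8,true),(9,true),(10,false),(8,false),(9,true),(10,false),(9,true),(10,false)],0,false,[2,0,2,0,3,0,3,0,2,2,2,0,2,0,3,0,3,0,3]⟩],[⟨[(9,false),(8,false),(9,false),(10,false),(8,false),(9,false),(9,false),(10,false),(8,false)],0,false,[2,0,3,0,3,0,2,2,2,0,2,0,3,0,3,0,3,1]⟩]⟩,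
  .loop ⟨0,[4,2,4,2,2,4,3,4,2,2,0,3,0,3,0,2,0,2,0,2,2,1,3,3],[3,3,4],1,2,[⟨[(9,true),(8,true),(9,false),(8,false),(9,false),(10,false),(9,false),(10,false),(8,false)],0,false,[2,2,2,0,3,0,3,3,0,3,3,0,2,0,2,2,0,2,1,2,2]⟩],[⟨[(9,true),(8,false),(9,false),(8,false),(9,false),(10,false),(9,false),(10,false)],0,false,[0,2,2,2,0,3,0,3,3,0,3,3,0,2,0,2,2,0,2,0,2,2]⟩]⟩,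
  .loop ⟨0,[3,4,2,4,2,4,2,4,3,0,3,0,2,0,2,0,2,2,0,3,0,3,0,3,3,1],[0,1,0,1,0,1],3,4,[⟨[(9,false),(10,false),(9,true),(9,true),(10,false),(8,false),(9,true),(10,false)],0,false,[0,3,0,2,2,0,2,0,2,2,2,0,2,2,1,2]⟩],[⟨[(9,true),(10,false),(9,false),(10,false),(9,false),(10,false),(9,false),(10,false)],0,false,[3,0,3,0,2,0,2,0,2,2,0,3,0,3,0,3,3,1]⟩]⟩,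
  .loop ⟨0,[1,2,4,2,2,4,3,4,3,0,2,0,2,0,3,0,3,3,0],[0,1,0,1,0,1],3,4,[⟨[(10,false),(9,false),(10,false)],0,false,[0,2,0,2,0,2,2,0,2,0,3,3,0,3,0,2,2,2,0,3,3,0,3,1]⟩],[⟨[(9,true),(10,false),(9,false),(8,false),(9,false),(10,false),(9,false),(10,false),(8,false)],0,false,[2,0,3,3,0,2,0,2,0,3,0,3,3,0]⟩]⟩,
  .loop ⟨0,[4,1,3,3,3,4,3,3,0,2,0,2,2,0,2,2,0,2,1,3],[0,1,0,1,0,1],3,4,[⟨[(9,true),(10,false),(9,false),(10,false),(9,false),(9,false),(10,false),(8,true)],0,false,[0,3,0,2,2,2,0,2,0,2,2,0,3,3,0,3,0,2,0]⟩],[⟨[(10,false),(8,true),(9,false),(9,false),(9,false),(10,false),(8,false)],0,false,[0,3,3,0,2,0,2,2,0,2,2,0,2,0,3]⟩]⟩,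
  .loop ⟨0,[2,1,3,3,4,3,4,3,0,3,3,0,3,0,3,3,0,3,0,2,0,2,1],[0,1,0,1,0,1],3,4,[⟨[(9,false),(10,false),(9,false),(9,false),(10,false),(9,false),(10,false),(8,false),(8,false)],0,false,[0,2,0,3,0,2,2,0,2,2,0,2,2,0,3,3,0,2,2,0,2,2]⟩],[⟨[(9,false),(8,false),(9,true),(9,true),(10,false),(9,true),(10,false),(8,false)],0,false,[2,2,0,2,0,2,2,0,2,0,2,2,2,0,2,0]⟩]⟩,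
  .loop ⟨0,[4,3,4,3,4,3,4,2,0,2,0,3,0,3,0,2,0,2,2,0,3,0,3,3,0,3,0,3,1,2,2],[0,1,0,1,0,1],3,4,[⟨[(8,true),(9,false),(9,false),(10,false)],0,false,[2,0,3,0,2,2,0,2,0,3,0,2,2,0,3,0,3,0]⟩],[⟨[(10,false),(9,true),(10,false),(9,true),(10,false),(9,true),(10,false),(8,false),(8,false)],0,false,[2,0,2,0,3,0,3,0,2,0,2,2,0,3,0,3,3,0,3,0,3,0,2,2]⟩]⟩,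
  .loop ⟨0,[3,4,3,1,3,4,0,2,0,2,2,2,0,3,3,0,3,0,3,0,3,3,0,2,2,0,2,0,3,3],[0,1,0,1,0,1],3,4,[⟨[(9,false),(9,false),(10,false),(9,true),(10,false),(9,false),(9,false),(10,false),(8,false)],0,false,[0,2,2,0,2,0,2,2,0,2,0,3,0,2,2,0,3,0,3]⟩],[⟨[(9,true),(10,false),(9,false),(8,false),(9,false),(10,false),(8,false)],0,false,[0,2,0,3,0,2,2,2,0,3,3,0,2,0,2,2,0,2,1,3,3]⟩]⟩,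
  .loop ⟨0,[4,1,3,4,3,3,4,3,0,3,0,3,0,3,3,0,3,3,0,3,3,0],[0,1,0,1,0,1],3,4,[⟨[(8,true),(9,true),(10,false),(8,false),(9,false),(9,false),(9,false),(10,false)],0,false,[2,0,3,0,3,0,2,0,2,2,0,3,0,3,3,0,2,2,0]⟩],[⟨[(10,false),(8,true),(9,false),(10,false),(9,false),(9,false),(10,false)],0,false,[0,2,2,0,2,2,0,2,2,0,2,2,2,0,3,0,3,3]⟩]⟩,
  .loop ⟨0,[3,4,2,4,3,1,3,3,4,0,3,0,2,2,0,2,2,0,2,2,0,3,0,3,0,2,0,3,3,0,2],[0,1,0,1,0,1],3,4,[⟨[(9,false),(9,false),(10,false),(9,true),(10,false)],0,false,[3,3,0,2,2,0,2,2,0,2,2,0,2,0,3,1]⟩],[⟨[(8,false),(9,true),(10,false),(9,false),(10,false),(9,false),(9,false),(9,false),(10,false),(8,false)],0,false,[3,0,2,2,0,2,2,0,2,2,0,3,0,3,0,2,0,3,3,1,2]⟩]⟩,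
  .loop ⟨0,[4,1,3,4,3,4,1,3,4,2,0,2,2,2,0,2,0,2,2,0,3,3,0,2,2,0,2,0,2,0,2,2],[0,1,0,1,0,1],3,4,[⟨[(9,true),(10,false),(8,false),(9,false),(10,false),(9,false),(9,false),(10,false),(8,false)],0,false,[2,0,2,2,2,0,3,0,2,2,2,0,2,0,2,0,3,0,3,0,2]⟩],[⟨[(9,false),(10,false),(8,true),(9,false),(8,false),(9,false),(9,false),(9,false),(10,false)],0,false,[3,0,2,2,0,3,3,0,3,0,2,0,2,0,3,0,3,3,1,3,3]⟩]⟩,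
  .loop ⟨0,[2,2,4,3,3,4,3,4,3,0,3,3,0,3,0,3,0,2,1,3,3],[0,1,0,1,0,1],3,4,[⟨[(10,false),(9,false),(9,false),(9,false),(10,false),(9,false),(10,false),(9,false),(10,false)],0,false,[0,3,3,0,2,2,0,2,0,3,0,3,0,2,0,2,2,0,3,0,3,3,1,2,2]⟩],[⟨[(9,false),(9,false),(10,false),(9,true),(9,true),(10,false),(9,true),(10,false),(8,false)],0,false,[0,3,0,3,3,0,3,0,3,0,2,0,3,3]⟩]⟩,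
  .loop ⟨0,[3,4,1,3,1,3,3,3,4,2,0,2,0,2,2,0,2,0,3,0,3,3,0,2,0,3,3,1,2],[0,1,0,1,0,1],3,4,[⟨[(10,false),(9,false),(9,false),(10,false),(9,false),(10,false),(8,false),(8,false)],0,false,[3,3,0,2,2,0,2,0,3,3,0,3,3,0,2,1,3,3]⟩],[⟨[(10,false),(8,false),(9,false),(10,false),(9,false),(10,false),(8,false),(9,false),(10,false)],0,false,[0,3,3,0,2,0,2,2,0,2,0,3,3,0,3]⟩]⟩,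
  .loop ⟨0,[4,3,4,3,4,3,4,2,0,3,0,3,0,2,0,2,0,2,0,2,2,2,0,2,0],[0,1,0,1,0,1],3,4,[⟨[(8,true),(9,false),(8,false),(9,false),(8,false),(9,false),(9,false),(10,false),(8,false)],0,false,[0,2,2,2,0,3,3,0,2,2,0,3,3]⟩],[⟨[(10,false),(9,true),(10,false),(9,true),(10,false),(9,true),(10,false),(8,false),(8,false)],0,false,[2,0,3,0,3,0,2,0,2,0,2,0,2,2,2,0,2,1]⟩]⟩,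
  .loop ⟨0,[3,4,3,4,1,3,3,4,0,3,0,2,0,2,0,2,0,3,0,3,3,0,2,2,2,0],[0,1,0,1,0,1],3,4,[⟨[(9,false),(9,false),(10,false),(9,false),(8,false),(9,false),(9,false),(10,false),(8,false)],0,false,[3,3,0,2,0,3,3,0,3,0,2,0,2,2,0,2,0,2,0,2,2,2]⟩],[⟨[(9,true),(10,false),(9,true),(10,false),(8,false),(9,true),(9,true),(10,false)],0,false,[0,3,0,2,0,2,0,2,0,3,0,3,3,0,2,2,2,1]⟩]⟩,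
  .loop ⟨0,[2,4,2,4,1,3,3,3,4,0,2,0,3,0,2,2,0,3,0,2,2,2,1,2],[0,1,0,1,0,1],3,4,[⟨[(9,false),(9,false),(10,false),(9,false),(10,false)],0,false,[3,0,3,0,2,2,0,3,0,3,3,0,3,3,0,2,2,0,3,0]⟩],[⟨[(9,false),(10,false),(9,false),(10,false),(8,false),(9,false),(9,false),(9,false),(10,false)],0,false,[0,2,0,3,0,2,2,0,3,0,2,2,2,0,2]⟩]⟩,
  .loop ⟨0,[4,2,1,3,3,4,1,3,4,2,0,2,2,2,0,2,0,2,0,2,2,0,2,0,3,3,0,3],[0,1,0,1,0,1],3,4,[⟨[(9,false),(10,false),(9,false),(8,true),(9,false),(9,false),(9,false),(10,false),(8,false)],0,false,[3,0,2,2,0,2,2,0,3,3,0,3,0,2,0,2,2,0,2,0,2,2,2]⟩],[⟨[(9,false),(10,false),(9,false),(8,false),(9,false),(10,false),(9,false),(9,false),(10,false)],0,false,[3,0,3,3,0,2,0,2,2,0,2,0,3,0,3,0,3,1,2,2]⟩]⟩,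
  .loop ⟨0,[1,2,4,3,3,4,1,3,4,2,0,2,2,0,3,0,3,0,3,3,0,3,3,0,2],[0,1,0,1,0,1],3,4,[⟨[(9,true),(10,false),(9,true),(8,true),(9,false),(8,false),(9,false),(9,false),(10,false)],0,false,[0,2,0,2,0,3,0,3,0,2,0,2,0,2,2,2,0,2,2,2]⟩],[⟨[(8,false),(9,false),(10,false),(9,true),(9,true),(10,false),(8,false),(9,true),(10,false)],0,false,[2,0,2,2,0,3,0,3,0,3,3,0,3,3,0,2]⟩]⟩,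
  .loop ⟨0,[2,1,3,4,3,4,3,4,0,2,2,2,0,2,2,0,2,2,0,2,0,3,3,0,2,0],[0,1,0,1,0,1],3,4,[⟨[(8,true),(9,false),(9,false),(10,false),(9,true),(10,false)],0,false,[2,0,2,2,0,3,3,0,3,3,0,3,0,2,2,1,2,2]⟩],[⟨[(9,true),(10,false),(9,false),(9,false),(10,false),(8,false),(9,false),(10,false)],0,false,[3,0,2,2,2,0,3,0,2,2,1,2,2]⟩]⟩,
  .loop ⟨0,[2,4,3,4,3,3,3,4,0,2,2,0,2,2,2,0,2,2,2,0,2,0,3,1,3,3],[0,1,0,1,0,1],3,4,[⟨[(9,true),(10,false),(8,false),(9,false),(9,false),(9,false),(10,false)],0,false,[2,0,3,0,3,3,0,3,3,0,2,2,0,2,1,3,3]⟩],[⟨[(9,false),(9,false),(9,false),(10,false),(9,true),(10,false),(9,true),(10,false)],0,false,[2,2,0,3,3,0,3,3,0,3,0,3,0,3,3,0,3,3]⟩]⟩,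
  .loop ⟨0,[1,3,3,1,3,4,3,4,0,3,0,2,0,2,2,0,3,0,2,2,0,3,0,3,3,0,3,0,3,0,2,1],[0,1,0,1,0,1],3,4,[⟨[(9,true),(10,false),(8,true),(9,false),(10,false),(9,false),(9,false),(10,false)],0,false,[2,0,2,2,0,2,2,0,2,0,2,2,0,3,3,0,3,0,3,0,2]⟩],[⟨[(8,true),(9,false),(9,false),(8,false),(9,false),(10,false),(9,false),(10,false),(8,false)],0,false,[2,0,2,2,0,2,0,3,3,0,3,0,3,0,2,0,3,3,1]⟩]⟩,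
  .loop ⟨0,[2,2,4,1,2,1,2,2,4,0,2,0,2,2,0,2,0,2,2,2,0,2,0,3,0,3,0,3,0],[0,1,0,1,0,1],3,4,[⟨[(8,true),(9,false),(10,false),(9,false),(10,false),(8,false),(9,false),(10,false),(8,false)],0,false,[3,0,3,0,2,0,2,2,0,3,3,0,2,1,3]⟩],[⟨[(9,false),(9,false),(10,false),(8,true),(9,false),(8,false),(9,false),(9,false),(10,false),(8,false)],0,false,[2,0,2,2,0,2,0,2,2,2,0,2,0,3,0,3,0,3,1]⟩]⟩,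
  .loop ⟨0,[4,2,4,3,0,2,0,2,0,2,0,2,2,0,2,2,2,0,3],[0,1,0,1,0,1],3,4,[⟨[(10,false),(9,false),(10,false),(9,true),(10,false),(8,false),(8,false)],0,false,[0,2,0,2,0,2,0,2,2,0,2,2,2,1,3]⟩],[⟨[(10,false),(9,false),(10,false)],0,false,[3,0,2,0,2,0,2,0,2,2,0,2,2,2,0,3]⟩]⟩,
  .loop ⟨0,[3,4,3,3,3,4,3,0,3,0,2,0,2,2,0,2,0,3,3,0,3,3,0,2,0,2,2,0,3],[0,1,0,1,0,1],3,4,[⟨[(10,false),(8,true),(9,false),(10,false),(9,false),(10,false)],0,false,[3,0,3,0,3,0,3,3,0,3,0,2,2,0,2,0,3,3,0,3]⟩],[⟨[(9,true),(10,false),(9,false),(9,false),(9,false),(10,false),(8,true)],0,false,[0,3,0,3,0,2,0,2,2,0,2,0,3,3,0,3,3,0,2,0,2,2,0,3]⟩]⟩,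
  .loop ⟨0,[2,4,2,4,1,3,3,3,4,0,3,3,0,2,0,3,3,0,2,0,2,2,0,3,0,3,0],[0,1,0,1,0,1],3,4,[⟨[(10,false),(9,false),(10,false),(9,false),(10,false),(9,false),(10,false),(8,false),(8,false)],0,false,[0,3,0,3,0,2,0,3,3,0,2,2,0,2,2,0,2,2,2,0]⟩],[⟨[(9,false),(10,false),(9,false),(10,false),(8,false),(9,false),(9,false),(9,false),(10,false)],0,false,[0,3,3,0,2,0,3,3,0,2,0,2,2,0,3,0,3,1]⟩]⟩,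
  .loop ⟨0,[1,3,3,1,3,3,4,0,3,0,3,3,0,3,3,0,3,0,3,3,0,3,1],[0,1,0,1,0,1],3,4,[⟨[(9,true),(9,true),(10,false),(9,false),(9,false),(10,false),(8,false)],0,false,[3,3,0,2,0,2,0,3,0,3,3,0,2,0,2,2,0,2,2,2,0,2]⟩],[⟨[(8,true),(9,false),(9,false),(8,false),(9,false),(9,false),(10,false),(8,false)],0,false,[0,3,3,0,3,0,2,2,0,2,2,0,3,3,0,3,3,0,2,1]⟩]⟩,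
  .loop ⟨0,[4,2,2,4,2,2,2,0,2,2,0,2,0,2,0,3,0,3,0,2],[0,1,0,1,0,1],3,4,[⟨[(9,true),(9,true),(10,false),(9,true),(10,false),(9,true),(10,false),(8,true)],0,false,[3,3,0,2,2,0,2,0,2,0,2,2,0,2,2,0,2,2,0,3,0,3]⟩],[⟨[(10,false),(9,false),(9,false),(10,false)],0,false,[2,2,2,0,2,2,0,2,0,2,0,3,0,3,0,2]⟩]⟩]

/-- reasons -/
def why1 : List Why := [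
  .loop ⟨0,[4,3,3,4,3,4,3,4,2,0,2,0,2,2,2,0,2,2,0,2,0,2,2,0,2,0,3,0,3],[0,1,0,1,0,1],3,4,[⟨[(9,true),(9,true),(10,false),(8,true)],0,false,[3,0,3,3,0,3,0,3,3,0,2,2,0,2,0,3,0,2,2,2,0,3]⟩],[⟨[(9,false),(9,false),(10,false),(9,false),(8,true),(9,false),(9,false),(10,false)],0,false,[0,2,2,0,2,2,2,0,3,0,2,2,0,3,0,3,3,0,2,1,2,2]⟩]⟩,
  .loop ⟨0,[2,1,2,4,1,2,2,4,2,2,0,2,2,0,2,0,3,3,0,3,3,0,3,0,3,0],[0,1,0,1,0,1],3,4,[⟨[(10,false),(9,false),(8,false),(9,false),(10,false),(8,false),(9,false),(9,false),(10,false)],0,false,[2,0,3,3,0,3,0,3,3,0,3,0,2,2,0,2,2,0,2,0,2]⟩],[⟨[(9,false),(8,false),(9,false),(10,false),(8,false),(9,false),(9,false),(10,false),(8,false)],0,false,[0,2,2,0,2,2,0,2,0,3,3,0,3,3,0,3,0,3,1]⟩]⟩,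
  .loop ⟨1,[2,1,2,2,4,3,0,3,0,3,0,2,0,2,2,0,2,1,3],[3,2],2,2,[⟨[],31,false,[2,0,3,3,0,2,0,2,2,0,2,0,3,3,0,3,1,2,2,2]⟩,⟨[],18,true,[0,3,0,2,0,2,0,3,0,3,0,3,3,0,2,0,2,0,3,0,3,3,1]⟩],[]⟩,
  .loop ⟨1,[2,2,4,3,0,2,2,2,0,3,3,0,2,0,2,2,0,2,1,2,2],[1,2,2],2,3,[⟨[(42,false),(42,false)],35,true,[0,3,0,2,0,2,0,3,3,0,3,0,2,0,2,0,3,0,2,2,0,3]⟩,⟨[],2,false,[2,2,0,2,0,2,2,0,2,0,3,3,0,3,0,2,2,0,2,2,1,2,2,2]⟩],[]⟩,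
  .loop ⟨1,[4,1,3,4,1,3,4,0,3,0,2,2,0,2,0,3,0,3,0,3,3,0,3,3,0,3,3],[1,3,1],0,1,[],[⟨[(42,true),(42,true),(42,true)],35,true,[2,2,0,2,0,2,2,2,0,2,2,0,3,0,3,3,1,2]⟩,⟨[],1,false,[2,2,0,3,3,0,3,0,2,2,0,3,0,3,3,0,2,0,2,2,0]⟩]⟩,
  .loop ⟨1,[4,2,1,2,2,4,3,0,3,0,2,0,3,3,0,2,2,2,0,2,2,0,2],[0,1,0,1,0,1],3,4,[⟨[],30,false,[0,3,0,3,3,0,2,2,0,3,3,0,3,0,2,2,0,2,2,0,2,2,0,3,1]⟩],[⟨[(42,false),(42,false),(42,false)],3,false,[2,0,3,3,0,2,2,0,3,3,0,3,0,3,0,3,3,0,2]⟩]⟩,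
  .loop ⟨1,[2,1,2,2,4,0,2,2,0,2,0,2,2,0,3,3,0,3,0,2,2,0,2,0,3,1],[4,4,2],1,2,[⟨[(42,true)],44,false,[3,3,0,3,3,0,3,0,2,2,0,3,0,3,0,3]⟩],[⟨[(42,false)],43,true,[0,2,0,3,0,2,2,0,3,0,2,2,0,2,0,3,3,0,3,3,0,3,1,3]⟩]⟩,
  .loop ⟨1,[1,3,1,3,3,3,4,2,0,3,0,3,0,2,0,2,0,3,0,2,2,0,2,2,0,3,3,0,3],[1,1,3],0,1,[],[⟨[(42,false),(42,false)],37,true,[2,2,0,3,0,3,0,2,0,2,2,0,3,0,3,0,2,0,2,0,3]⟩,⟨[(42,true)],43,true,[0,2,0,3,3,0,3,3,0,3,3,0,2,0,2,1,2]⟩]⟩,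
  .loop ⟨1,[1,3,1,3,3,3,4,3,0,2,2,0,3,3,0,3,0,3,3,0,2,0,2,2,2,0],[4,1],2,2,[⟨[],47,false,[2,2,0,3,0,3,3,0,3,0,3,0,2,2,2,0,2,2]⟩,⟨[],2,true,[0,2,2,0,2,0,2,2,0,3,3,0,3,0,3,0,3,3,0,3,3,0]⟩],[]⟩,
  .loop ⟨1,[3,4,3,1,3,4,0,2,2,0,3,0,3,0,3,3,0,2,0,2,0,3,0,3,3,1,3],[0,1,0,1,0,1],3,4,[⟨[(48,false),(42,false),(48,false),(48,false),(42,true)],4,false,[3,0,3,3,0,3,0,2,0,2,0,2,2,2,1]⟩],[⟨[(48,false),(42,false),(48,false),(42,true),(48,true)],3,false,[0,3,3,0,3,0,3,3,0,2,0,2,0,3,0,3,0,3,1,2,2]⟩]⟩,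
  .loop ⟨1,[3,1,2,4,1,3,3,3,4,0,2,0,2,2,0,3,3,0,2,0,2,2,0,2,0,2,2,1],[2,1,2],1,2,[⟨[(42,false),(48,true),(42,false)],3,false,[2,0,3,0,2,2,0,2,0,2,2,0,2,0,3,0,3,0,2]⟩],[⟨[(42,false),(48,true),(48,true),(42,false),(48,false)],3,false,[2,0,2,2,2,0,2,2,0,2,0,2,2,0,3,3,0,3,0,2,0,2,0,2,0]⟩]⟩,
  .loop ⟨1,[4,3,3,4,2,4,3,0,2,2,0,2,0,2,2,2,0,2,2,0,2,0,2,2,0],[0,1,0,1,0,1],3,4,[⟨[(42,true),(48,true),(48,true),(42,true)],3,false,[0,3,3,0,2,2,0,2,0,3,0,2,2,0,2,2,0,3,3,0,3,0,2]⟩],[⟨[(48,false),(42,false)],4,false,[2,0,2,0,2,0,2,2,2,0,2,0,3,3,0,2,0,2,2,1,3,3]⟩]⟩,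
  .loop ⟨1,[2,1,3,3,4,2,2,0,3,3,0,3,0,3,0,2,0,3,3,0,2,2,0,2,0,3,0,3,0],[0,1,0,1,0,1],3,4,[⟨[(42,false),(48,true),(42,true),(48,false)],3,false,[3,0,3,0,2,0,2,2,0,2,0,3,3,0,3,3,0,2,0,2,2,0,2]⟩],[⟨[(42,false),(48,true),(42,false),(42,false),(48,false)],1,false,[0,2,2,0,2,0,2,2,0,2,0,3,3,0,3,0,2,2,0,2,2,1,3,3]⟩]⟩,
  .loop ⟨1,[2,2,4,2,4,1,3,3,3,4,3,0,2,2,2,0,3,0,2,2,0,3,3,0,3,0,3,0,2,2],[2,4,4],1,2,[⟨[(48,false),(42,false),(48,false),(42,false),(42,false)],4,false,[0,3,3,0,3,0,3,0,2,0,2,2,0,3,0,3,0,3,1,3]⟩],[⟨[(42,false),(42,false),(48,true),(42,true)],4,false,[3,3,0,2,0,2,0,2,0,3,0,2,2,1,2]⟩]⟩,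
  .loop ⟨1,[2,4,2,2,4,1,2,4,3,3,0,2,2,2,0,2,0,2,2,0,3,3,0,2,2,2],[0,1,0,1,0,1],3,4,[⟨[(48,false),(42,true),(42,true),(48,true),(42,true),(42,true)],3,false,[3,0,3,0,3,0,2,2,2,0,2,0,2,2,0,2,2,1,3,3]⟩],[⟨[(48,false),(42,false),(42,false),(48,false),(42,true)],4,false,[0,3,0,2,2,0,3,0,2,2,0,3,0,3,0,3,0,2,0,2,2,0,3]⟩]⟩,
  .loop ⟨1,[3,1,2,4,2,2,4,3,4,3,0,2,0,2,2,0,3,3,0,3,0,2,2,0,2,1,3],[0,1,0,1,0,1],3,4,[⟨[(48,false),(42,true),(48,false),(48,false)],3,false,[2,2,2,0,2,0,3,0,3,3,0,2,0,3,3,0,2,1]⟩],[⟨[(48,true),(42,false),(42,false),(48,false),(42,false),(42,false)],4,false,[0,3,0,3,0,2,0,2,0,2,2,0,2]⟩]⟩,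
  .loop ⟨1,[1,3,4,3,4,1,3,3,4,2,0,2,2,0,3,0,3,3,0,2,2,0,2,2,0,3,0,3,3,1,2],[0,1,0,1,0,1],3,4,[⟨[(42,true),(42,true),(48,true),(42,true),(48,true)],3,false,[0,3,3,0,3,0,2,2,0,2,0,2,0,3,0,2,2,0,3,3,0,2]⟩],[⟨[(42,true),(42,true),(48,false),(42,true),(48,true)],4,false,[2,2,0,2,0,2,2,0,2,2,0,2,0,3,3,0,3,3,0,2,1]⟩]⟩,
  .loop ⟨1,[4,2,2,4,2,4,3,4,3,3,0,2,2,2,0,2,0,2,0,2,2,2],[0,1,0,1,0,1],3,4,[⟨[(42,false),(42,false),(48,false)],2,false,[0,2,0,2,2,0,2,0,2,2,2,1,2]⟩],[⟨[(48,false),(42,false),(48,true),(48,true),(42,false),(48,true)],3,false,[2,0,3,0,3,0,3,0,2,0,3,3,0,3,0,2,0,2,1]⟩]⟩,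
  .loop ⟨1,[3,3,4,3,4,3,4,3,4,0,3,3,0,2,2,0,3,0,3,3,0,3,0,2,2,0,3,0,3,3,0,2],[0,1,0,1,0,1],3,4,[⟨[(42,false),(48,true),(42,false),(42,false),(48,false)],2,false,[2,0,2,0,2,0,2,2,2,0,2,2,2,1,3]⟩],[⟨[(42,false),(42,false),(42,false),(48,false),(42,false)],3,false,[3,0,3,0,3,0,2,0,3,3,0,3,3,0,3,0,3,3]⟩]⟩,
  .loop ⟨1,[4,1,3,1,3,1,3,3,4,2,0,3,3,0,3,0,3,3,0,2,2,0,2,0,3,3,0,3,1,2],[0,1,0,1,0,1],3,4,[⟨[(42,false),(48,false),(42,true),(48,false)],1,false,[2,2,0,2,2,0,2,0,3,0,3,0,2,0,2,2,1,2]⟩],[⟨[(42,false),(48,false),(42,true),(48,true),(42,true)],3,false,[0,3,3,0,2,2,0,3,0,3,3,0,2,0,2,0]⟩]⟩,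
  .loop ⟨1,[3,4,3,3,4,1,3,4,0,2,2,0,2,0,3,0,3,0,3,3,0,3,0,2,2,0,2,0,2,2],[3,4,3],1,2,[⟨[(48,true),(48,true),(42,false),(48,true),(48,true),(42,false)],4,false,[2,0,3,0,3,0,2,2,0,2,2,0,2,2,0,3,3,1,3,3]⟩],[⟨[(48,false),(48,false),(48,false),(42,false),(48,true),(42,false)],4,false,[3,0,2,0,2,0,2,2,2,0,2,0,2,2,0,3,0,2]⟩]⟩,
  .loop ⟨1,[4,2,1,3,3,3,4,3,0,2,0,3,3,0,3,0,2,2,0,2,2,0,2,2,0,2,1,3,3],[0,1,0,1,0,1],3,4,[⟨[(42,false),(48,false),(42,true),(48,false)],1,false,[2,2,0,3,0,3,0,3,0,2,0]⟩],[⟨[(42,false),(48,false),(42,true),(48,true),(42,false)],3,false,[2,2,0,2,2,0,2,0,3,3,0,3,0,2,0,2,2,0,3]⟩]⟩,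
  .loop ⟨1,[2,4,2,4,3,3,4,1,3,4,2,2,0,2,2,0,2,2,0,3,0,3,3,0,2,0,2,0,2],[0,1,0,1,0,1],3,4,[⟨[(42,false),(48,true),(48,true),(42,false),(48,false)],4,false,[0,2,0,2,2,0,3,3,0,3,0,2,0,2,0,2,2,0,2,2,0,2,1]⟩],[⟨[(42,true),(48,true),(42,true)],3,false,[3,3,0,2,2,2,0,3,0,3,3,0,2,2,0,2,0,2,2,0,3]⟩]⟩,
  .loop ⟨1,[3,4,2,4,0,3,0,2,2,0,3,0,3,3,0,3,0,2,0,2,0,2,0,3],[0,1,0,1,0,1],3,4,[⟨[(48,true),(42,true),(42,true),(48,false),(42,false),(42,false)],4,false,[0,3,3,0,3,0,3,0,3,3,0,2,2,0,3,3,0,3,3,0,3,3]⟩],[⟨[(48,true),(42,false),(42,false),(48,true),(42,true)],3,false,[0,3,0,2,0,3,3,0,2,0,2,2,0,2,0,3,3]⟩]⟩,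
  .loop ⟨1,[3,3,1,3,4,3,4,0,2,0,2,2,0,2,2,0,2,0,3,0,3,0,2,1,2,2],[0,1,0,1,0,1],3,4,[⟨[(48,false),(42,false),(48,false),(42,true)],4,false,[2,0,2,2,0,2,0,3,3,0,3,0,2,0,2,0,3,0,3,3,0,2,1]⟩],[⟨[(48,false),(42,true),(48,true),(48,true),(42,true)],3,false,[0,2,0,2,0,2,0,3,0,2,2,2,0,3,0,3,3,0,2,2,1,3]⟩]⟩,
  .loop ⟨1,[4,3,3,1,3,3,4,3,0,2,0,2,2,0,2,0,3,0,2,2,0,2,2,0,2,1,2,2],[0,1,0,1,0,1],3,4,[⟨[(48,true),(42,false),(48,true),(42,false),(48,true),(42,false)],4,false,[2,0,2,0,3,0,3,0,3,3,0,3,0,2,2,0,2,2,0,2]⟩],[⟨[(42,true),(48,true),(42,false),(42,false),(42,false)],3,false,[2,0,2,2,0,2,2,0,3,0,3,3,0,3,0,2,0,2,0,2,1,3,3]⟩]⟩,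
  .loop ⟨1,[1,2,1,2,4,2,4,2,0,3,0,2,2,2,0,2,2,2,0,2,1,3,3],[0,1,0,1,0,1],3,4,[⟨[(48,false),(42,true),(48,false)],2,false,[0,3,0,3,0,2,0,2,0,3,3,0,3,0,3,0,3,3,1,3]⟩],[⟨[(42,true),(48,true),(42,true),(42,true),(48,true),(42,true)],3,false,[2,0,2,2,0,2,0,3,0,3,0,2,0,2,2,2,0,2,2,0,3,1]⟩]⟩,
  .loop ⟨1,[1,3,4,0,2,0,3,0,3,0,3,3,0,3,0,2,2,0,3,0,3,3,0,3,1,3],[2,4,4],1,2,[⟨[(48,true),(48,true),(42,false),(42,false)],44,false,[0,3,0,3,0,3,0,2,0,2,0,3,0,2,2,0,2,2,2,1,2]⟩],[⟨[(48,true),(42,false),(42,false),(42,false),(48,false)],1,false,[3,0,2,0,2,2,0,3,0,3,0,3,0,2,0,2,0,2,2,2,0,2,2]⟩]⟩,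
  .loop ⟨1,[2,2,4,2,4,1,3,3,3,4,2,2,0,2,0,2,0,3,3,0,3,0,3,3,0,3,0,3,0,2,0],[0,1,0,1,0,1],3,4,[⟨[(42,true),(48,false),(42,true),(48,false),(48,false),(42,false)],3,false,[0,2,0,2,0,2,2,0,2,0,3,0,2,2,0,2,2,0,3,3,0,2]⟩],[⟨[(42,false),(42,false),(48,true),(42,true)],4,false,[0,3,0,2,2,0,2,0,2,0,3,0,2,2,2,0,2,0,3,3,0,3,0,3]⟩]⟩,
  .loop ⟨1,[4,2,1,2,2,4,2,0,3,0,2,2,0,2,0,3,3,0,3,3,0,3,0,3,1],[0,1,0,1,0,1],3,4,[⟨[(48,true),(48,true),(42,true),(48,true),(42,false),(48,true),(42,false)],4,false,[0,2,2,0,2,0,3,0,3,3,0,3,0,2,2,0,2,0]⟩],[⟨[(42,false),(42,false),(42,false)],3,false,[0,3,0,3,0,3,0,2,2,0,2,2,0,2,2,0,3,0,3,3,1]⟩]⟩,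
  .loop ⟨1,[1,2,4,2,4,2,4,0,3,3,0,2,2,0,2,2,0,3,3,0,3,0,3,0,2],[0,1,0,1,0,1],3,4,[⟨[(48,false),(42,true),(48,false),(42,false)],3,false,[0,3,0,2,0,2,2,0,3,0,3,3,0,2,0,2,2,0,2,0,2,2]⟩],[⟨[(42,true),(48,true),(42,true),(42,true),(48,false)],4,false,[0,3,0,2,0,2,2,0,3,0,3,0,3,0,2,0,2,0,2,0,3]⟩]⟩,
  .loop ⟨1,[1,3,3,4,3,4,3,4,0,2,0,3,3,0,2,2,0,2,0,2,0,3,0,3,0,3,0,2,0,3],[0,1,0,1,0,1],3,4,[⟨[(42,true),(48,false),(48,false),(42,false),(48,true),(42,true)],3,false,[3,0,2,2,2,0,2,0,3,3,0,2,0,2,2,0,2,0,3,3,0,2,0,3]⟩],[⟨[(48,true),(42,true),(48,true),(42,true),(48,false),(48,false)],4,false,[3,0,3,3,0,3,3,0,2,2,2,0,2,0,3,3,0]⟩]⟩,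
  .loop ⟨1,[1,2,2,4,2,0,3,0,2,2,2,0,2,0,3,3,0,3,0,2,2,0,3,0,2,2],[0,1,0,1,0,1],3,4,[⟨[(48,true),(42,true),(48,false),(48,false),(42,false)],3,false,[0,3,0,3,0,3,0,2,0,2,2,2,0,3,3,1,3]⟩],[⟨[(48,false),(48,false),(48,false),(42,false),(48,false)],2,false,[2,2,0,2,0,3,3,0,3,3,0,3,3,0,3,3,0,2,1]⟩]⟩,
  .loop ⟨1,[3,3,4,3,4,2,2,4,2,0,3,0,3,3,0,2,2,0,2,0,2,0,3,3,0,3,3,0,2],[0,1,0,1,0,1],3,4,[⟨[(42,false),(42,false),(48,false),(42,false),(48,false),(42,false)],3,false,[2,2,2,0,2,2,0,3,0,2,2,0,2,0,2,2,2]⟩],[⟨[(48,false),(42,true),(48,false),(42,true)],4,false,[2,2,0,2,2,0,2,0,2,2,1,2,2,2]⟩]⟩,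
  .loop ⟨1,[4,2,1,2,4,2,4,0,2,0,2,2,0,2,0,2,0,2,2,2,0,2,0,2],[0,1,0,1,0,1],3,4,[⟨[(48,true),(48,true),(42,false),(42,false),(48,false),(42,true)],3,false,[3,0,2,0,2,2,0,3,0,3,0,2,0,2,2,1,2]⟩],[⟨[(42,false),(48,true),(42,true),(48,false),(42,true),(48,true)],4,false,[0,3,0,3,3,0,2,0,3,3,0,2,2,2,0,3,0,3,1,3]⟩]⟩,
  .loop ⟨1,[3,4,3,4,3,4,1,3,4,2,2,2,0,2,0,3,3,0,3,0,3,0,2,0,2,2,0,2,2,1],[0,1,0,1,0,1],3,4,[⟨[(42,false),(48,false),(42,false),(42,false),(48,true),(42,true)],4,false,[0,2,0,2,0,3,0,2,2,0,2,0,2,2,0,2,2,2,0,2,0,3,1,3]⟩],[⟨[(42,false),(42,false),(48,false),(42,false),(42,false)],3,false,[2,2,2,0,3,3,0,3,0,2,2,0,2,2,0,3,3,0,3,0,2]⟩]⟩,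
  .loop ⟨1,[3,4,1,3,3,3,4,3,4,0,2,0,2,0,3,3,0,3,3,0,3,0,2,2,0,2,2,2],[0,1,0,1,0,1],3,4,[⟨[(42,false),(48,false),(42,true),(48,true),(42,true)],3,false,[0,3,3,0,3,3,0,3,0,2,0,2,2,0,3,3,0,3,0,3,3,0]⟩],[⟨[(48,false),(48,false),(48,false),(42,false),(48,true),(48,true)],4,false,[2,0,2,2,0,2,0,2,2,2,0,3,0,2,2,0,2,2,0,3,1]⟩]⟩,
  .loop ⟨1,[2,4,2,4,2,4,0,2,0,2,0,3,0,3,0,3,0,3,3,0,2,2,0,2,0,3,1,2,2,2],[0,1,0,1,0,1],3,4,[⟨[(42,false),(42,false),(48,false),(42,false)],3,false,[3,0,3,3,0,2,2,0,3,3,0,2,2,0,2,0,2,2,1]⟩],[⟨[(48,true),(48,true),(42,false),(48,true),(42,true),(42,true)],4,false,[0,2,0,2,0,3,3,0,3,0,2,0,2,0,3,0,3,0,3,0,2,2]⟩]⟩,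
  .loop ⟨1,[4,1,3,1,3,1,3,3,4,3,0,2,0,3,3,0,2,0,2,2,0,2,2,0,3,0,3,3,0,2],[0,1,0,1,0,1],3,4,[⟨[(42,false),(48,false),(42,true),(48,false)],2,false,[2,0,3,0,2,2,0,3,0,2,2,0,2,0,3,0,2,2,2]⟩],[⟨[(48,true),(48,true),(42,false),(42,false)],3,false,[3,0,3,0,2,0,2,0,3,0,3,3,0,2,2,0,2,0,3,1,2]⟩]⟩,
  .loop ⟨1,[2,1,3,4,3,4,0,2,0,3,3,0,2,0,2,2,0,2,0,2,2,2,0,3,0],[0,1,0,1,0,1],3,4,[⟨[(48,false),(48,false),(48,false)],4,false,[0,2,0,3,0,3,0,3,0,3,3,0,2,2,0,2,0,3,0,3,3,1]⟩],[⟨[(48,true),(42,true),(48,true),(42,false),(48,false),(48,false)],3,false,[2,0,3,3,0,2,0,2,2,0,3,3,0,3,3,0,2,0,2]⟩]⟩]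

/-- reasons -/
def why2 : List Why := [
  .loop ⟨1,[1,2,4,2,1,2,2,4,3,0,2,2,2,0,2,0,2,2,0,3,0,3,0,3,3,1],[0,1,0,1,0,1],3,4,[⟨[(48,false)],2,false,[2,2,0,3,0,3,3,0,2,2,2,0,2,1]⟩],[⟨[(42,false),(48,false)],3,false,[0,2,0,3,0,3,3,0,3,0,2,2,0,3,0,3,3,0,3,1,2,2,2]⟩]⟩,
  .loop ⟨1,[3,1,3,4,3,1,3,3,4,3,0,3,0,2,0,2,2,0,2,0,3,3],[0,1,0,1,0,1],3,4,[⟨[(48,false),(42,false),(48,false),(42,true),(48,false)],2,false,[0,3,0,3,3,0,3,0,2,2,0,2,2,0,3,3,0,3,0,2,1]⟩],[⟨[(48,true),(42,false),(48,true),(48,true),(42,false),(48,false)],3,false,[0,2,0,2,2,0,3,0,3,3,1,2,2,2]⟩]⟩,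
  .loop ⟨1,[4,3,4,0,3,0,3,3,0,2,2,0,2,0,3,3,0,2,0,3,3,0,2,1,3],[0,1,0,1,0,1],3,4,[⟨[(42,true),(48,false),(42,false),(48,false)],1,false,[0,2,2,0,3,3,0,2,0,2,2,0,2,2,0,2,2,2,1]⟩],[⟨[],3,false,[0,3,0,3,3,0,2,2,0,2,0,3,3,0,2,0,3,3,0,2,1,3]⟩]⟩,
  .loop ⟨1,[2,4,3,4,3,4,3,4,3,0,3,3,0,2,0,2,2,0,2,0,3,0,2,2,0,3,0,3,1],[0,1,0,1,0,1],3,4,[⟨[(48,true),(42,true),(42,true),(42,true),(48,false)],1,false,[2,2,0,3,0,3,0,3,3,0,3,0,2,0,2,0,2,0,3,0,3,0,2,1]⟩],[⟨[(48,false),(42,false),(42,false),(48,false),(42,false),(42,false)],3,false,[2,0,3,0,3,0,2,0,2,0,2,2,2,0,3,0,2,2,0,3,1,2]⟩]⟩,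
  .loop ⟨1,[3,3,4,3,4,0,2,0,3,3,0,2,0,2,2,2,0,3,0,3,1,2],[0,1,0,1,0,1],3,4,[⟨[(42,true),(42,true),(42,true),(48,false)],2,false,[3,3,0,2,2,0,2,0,2,2,2,0,2,0,3,0,3,0,3]⟩],[⟨[(48,false),(48,false),(42,false),(48,true)],3,false,[2,0,2,0,3,0,3,0,3,0,2,0,2,0,3,0,2,2,2,1,3,3]⟩]⟩,
  .loop ⟨1,[2,1,3,4,3,3,4,0,3,0,2,2,0,2,2,0,3,0,3,0,2,0,3,3,0,3,3,0,2,0,2],[0,1,0,1,0,1],3,4,[⟨[(42,false),(42,false),(48,false)],2,false,[2,2,2,0,2,0,3,0,3,0,2,0,2,2,0,3,0,3,3,0,3,3,1]⟩],[⟨[(42,true),(48,true),(42,true),(42,true)],3,false,[3,0,2,0,2,0,2,0,3,3,0,3,3,0,3,0,3,0,2,1]⟩]⟩,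
  .loop ⟨1,[3,1,2,4,2,2,4,3,4,2,2,0,2,2,0,2,2,0,2,0,3,3,0,3,3,1,3],[0,1,0,1,0,1],3,4,[⟨[(42,false),(48,true),(42,true),(48,false),(42,false),(42,false)],3,false,[0,2,0,2,2,0,2,0,3,0,3,0,2,1,3,3]⟩],[⟨[(48,true),(42,true),(48,false),(48,false),(48,false),(42,true)],4,false,[2,0,3,0,2,2,2,0,2,2,0,2,0,2,0,3,0,3,0,3,0,2,0,3]⟩]⟩,
  .loop ⟨1,[4,2,4,1,3,3,4,3,3,0,2,0,2,2,0,2,0,3,3,0,3,3,0,3,3,0,2,2,1,3],[0,1,0,1,0,1],3,4,[⟨[(48,true),(48,true),(42,false),(48,true),(42,false),(42,false)],3,false,[0,3,3,0,2,2,0,3,0,3,3,0,3,0,2,0,2,0,3,3,0,3]⟩],[⟨[(48,false),(42,true),(48,true),(42,true),(48,false)],2,false,[0,3,3,0,2,2,0,3,3,0,3,0,3,0,2,0,2,2,2,0,2,0]⟩]⟩,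
  .loop ⟨1,[1,3,3,3,4,3,4,2,0,2,0,3,0,2,2,0,2,0,2,2,2,0,2],[0,1,0,1,0,1],3,4,[⟨[(48,true),(42,false),(42,false),(48,false),(42,false)],4,false,[2,2,0,2,2,0,3,0,3,0,3,3,0,2,1]⟩],[⟨[(42,true),(42,true),(48,true),(42,true),(42,true)],3,false,[0,3,3,0,2,2,0,2,0,2,0,3,0,2,2,0,3,3,0,3,3,1,2,2,2]⟩]⟩,
  .loop ⟨1,[3,4,1,3,4,3,4,3,0,3,0,3,3,0,2,2,0,3,0,3,3,0,3,0,3,3,1],[0,1,0,1,0,1],3,4,[⟨[(48,true),(42,true),(48,true),(42,false),(48,false),(48,false)],3,false,[2,0,2,0,2,0,3,3,0,3,0,3,3,0,2,1,2,2]⟩],[⟨[(48,false),(42,false),(48,false),(42,true),(48,true)],4,false,[3,0,3,3,0,2,0,2,2,0,3,0,3,3,0,2,2,2]⟩]⟩,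
  .loop ⟨1,[1,2,4,1,2,4,2,0,2,0,2,0,2,2,0,2,2,0,2,0,3,3,0,2,0,3,3,0,2],[0,1,0,1,0,1],3,4,[⟨[(42,true),(48,false),(42,true),(48,true),(48,true),(42,false),(42,false)],4,false,[0,3,0,3,3,0,2,0,2,0,3,0,2,2,0,2,0,3]⟩],[⟨[(48,false),(48,false),(42,true)],3,false,[3,3,0,3,0,3,0,2,2,2,0,2,2,2,1]⟩]⟩,
  .loop ⟨1,[1,3,4,2,2,4,0,2,0,3,0,3,0,2,2,2,0,2,2,0,2,2,0,3,0,2],[0,1,0,1,0,1],3,4,[⟨[(42,false),(48,false),(42,false),(42,false),(48,false)],2,false,[2,2,0,3,3,0,3,0,3,0,3,3,1]⟩],[⟨[(48,true),(48,true),(42,false),(48,true),(42,false)],3,false,[3,0,3,0,3,3,0,3,3,0,3,3,0,2,0,3,3,0]⟩]⟩,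
  .loop ⟨1,[2,4,3,4,3,4,0,3,0,3,0,2,2,0,2,2,0,2,2,0,2,2,0,3,0,3,0],[0,1,0,1,0,1],3,4,[⟨[(48,false),(48,false),(42,true),(42,true),(48,true),(42,true)],3,false,[0,2,2,0,2,0,2,2,0,3,3,0,3,0,3,0,3,3,0,2,2,0]⟩],[⟨[(48,false),(42,false),(42,false),(48,false),(42,false),(48,false)],4,false,[0,3,0,2,2,0,2,0,3,0,3,3,0,3,0,2,2,0,3,0,3,3,0,2]⟩]⟩,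
  .loop ⟨1,[3,0,2,2,0,2,0,3,3,0,3,0,2,2,0,3,0,2,2,0,2,0,3],[0,1,0,1,0,1],3,4,[⟨[(42,true),(48,true),(42,false),(48,false)],2,false,[2,0,2,2,0,3,0,3,3,0,2,2,0,2,2,0,2,2,0]⟩],[⟨[],12,false,[2,2,0,2,2,0,2,0,2,0,3,0,2,2,0,3]⟩]⟩,
  .loop ⟨1,[4,3,1,3,4,0,3,0,3,3,0,3,0,2,0,2,0,2,2,0,2,2,0,2,0,2,2],[0,1,0,1,0,1],3,4,[⟨[(42,false),(48,true),(42,false),(48,true),(42,false)],4,false,[0,2,0,2,2,0,2,0,2,0,2,2,0,3,3,0,3,0,3,3,0,3,3,1]⟩],[⟨[(42,true),(48,true),(42,false),(48,false),(42,false)],3,false,[3,0,3,3,0,2,0,3,3,0,3,0,2,2,0,3,0]⟩]⟩,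
  .loop ⟨1,[2,4,3,4,3,0,3,3,0,2,0,2,2,2,0,3,3,0,3,0,3,0],[0,1,0,1,0,1],3,4,[⟨[(42,true),(48,false),(42,true),(48,false)],1,false,[3,3,0,2,2,0,2,0,2,0,2,2,2,0,2,2]⟩],[⟨[(48,false),(42,false),(48,false),(42,false)],3,false,[0,2,2,0,2,2,0,2,2,2,0,3,0,3,0,2,0]⟩]⟩,
  .loop ⟨1,[4,1,3,4,3,4,2,2,2,0,2,0,3,0,3,0,2,0,2,2,0,3,3,0,3,0,3,3,0,3],[0,1,0,1,0,1],3,4,[⟨[(42,false),(48,true),(42,true),(48,true),(42,false)],3,false,[0,3,0,3,0,2,0,2,0,2,2,0,2,2,0,2,0,2,0,3]⟩],[⟨[(42,false),(48,false),(48,false),(42,false)],4,false,[0,2,2,0,3,0,2,2,0,2,2,2,0,2,0,2,2,0,3,3,1]⟩]⟩,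
  .loop ⟨1,[3,4,2,4,2,4,2,4,0,2,2,2,0,2,0,2,0,3,0,3,0,2,2,2,1],[0,1,0,1,0,1],3,4,[⟨[(42,false),(48,false),(42,false),(42,false),(48,false)],2,false,[0,2,0,2,0,2,2,2,0,2,2,0,3,0,2,2,0,2]⟩],[⟨[(48,false),(42,true),(42,true),(48,true),(42,false)],3,false,[2,0,3,0,3,0,2,0,2,2,0,3,0,3,0,2,0,2,0,2,0,2,2,0,3]⟩]⟩,
  .loop ⟨1,[3,4,1,3,1,3,3,4,0,2,2,0,2,2,0,2,2,0,3,3,0,2,2,0,3,3,1,3,3],[0,1,0,1,0,1],3,4,[⟨[(48,false),(42,false),(42,false),(48,false)],4,false,[0,2,2,0,2,0,3,3,0,3,0,3,0,2,0,3,3,0,2,2,0,2,2,1,2]⟩],[⟨[(48,true),(42,false),(48,true),(42,true),(48,false),(42,true)],3,false,[2,2,0,2,0,3,3,0,3,0,3,0,3,3,0,2,2,0,3,3]⟩]⟩,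
  .loop ⟨5,[3,0,3,0,2,2,0,2,2,0,3,3,0,3,3,0,3,3,1,2],[1,1,3],3,3,[⟨[],53,false,[0,3,0,2,2,0,3,0,3,3,0,3,3,0,3,0,3,1]⟩,⟨[],4,true,[0,3,0,2,2,2,0,2,0,2,0,2,2,0,3,3,0,3,3,1,2]⟩,⟨[(48,true),(48,true),(42,false),(48,true),(42,false)],4,false,[0,2,2,0,2,2,2,0,2,2,2,0,2,0,3,0,3,0,2,0,2,0,2]⟩],[]⟩,
  .loop ⟨1,[3,3,1,3,4,3,4,2,0,3,0,3,0,3,0,2,2,2,0,2,0,3,0,3,0,2,0,2,1],[0,1,0,1,0,1],3,4,[⟨[(48,false),(42,false),(42,false),(42,false),(48,false)],2,false,[0,3,3,0,3,3,0,2,0,2,2,0,3,0,2,2,0,3,0,3,3,1,2,2]⟩],[⟨[(42,false),(48,false),(42,false),(42,false)],3,false,[3,3,0,3,0,3,0,2,2,2,0,2,0,3,0,3,0,3,0,2,1]⟩]⟩,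
  .loop ⟨1,[4,3,4,3,3,3,4,3,0,2,2,0,2,2,0,2,2,0,3,0,3,3,0,2,2,0,2,2],[0,1,0,1,0,1],3,4,[⟨[(42,true),(48,false),(42,false),(48,true),(42,true),(48,true)],3,false,[2,2,2,0,2,2,0,3,0,3,3,0,2,2,0,3,3,0,3,1,3]⟩],[⟨[(42,true),(48,false),(42,true),(48,true),(48,true),(42,false),(42,false)],4,false,[0,3,3,0,2,0,2,2,0,2,0,3,0,2,2,0,2,2,1,3,3]⟩]⟩,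
  .loop ⟨2,[0,2,0,2,0,3,3,0,2,0,3,3,0,2,0,2,2,0,3,3],[3,1,1],3,3,[⟨[],1,true,[0,2,0,2,0,3,3,0,2,0,3,3,0,2,0,2,2,0,3,3]⟩,⟨[],35,false,[0,2,2,0,3,0,3,3,0,3,3,0,2,1,2,2]⟩,⟨[(48,false),(48,false)],44,false,[0,3,0,3,3,0,2,2,2,0,3,0,2,2,0,3,0,3,3,0,3,3]⟩],[]⟩,
  .loop ⟨1,[3,3,3,4,3,3,4,3,4,3,3,0,3,0,2,0,2,0,2,2,0,2,2,0,2,0,2,2,0,2,0],[0,1,0,1,0,1],3,4,[⟨[(42,false),(48,true),(42,true),(42,true),(48,true),(42,true)],3,false,[0,3,0,2,0,2,0,2,0,3,3,0,2,0,3,3,0,2,0]⟩],[⟨[(42,false),(48,true),(42,true),(48,true),(48,true),(42,false)],4,false,[0,2,0,3,0,2,2,0,2,0,2,2,0,2,0,3,0,3,0,2,0]⟩]⟩,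
  .loop ⟨1,[4,1,3,3,1,3,4,3,4,3,3,0,3,3,0,2,0,2,2,0,2,2,0,2,0,3,3,0,3,3],[0,1,0,1,0,1],3,4,[⟨[(42,false),(48,false),(42,true),(48,true),(42,false)],3,false,[3,0,2,2,0,2,2,0,2,0,2,2,2,0,3,0,3,1,3]⟩],[⟨[(42,true),(48,false),(42,false),(42,false),(48,false),(42,true)],4,false,[0,2,0,2,0,3,3,0,2,0,3,3,0,2,0,2,0,2,0,3,0,3]⟩]⟩,
  .loop ⟨1,[4,1,3,3,4,3,0,3,3,0,2,2,0,2,2,0,2,2,0,3,0,2,2],[0,1,0,1,0,1],3,4,[⟨[(48,false),(42,true),(48,false)],1,false,[2,2,2,0,2,0,2,2,0,2,2,0,3,0,3,3,0,2,1,3]⟩],[⟨[(42,false),(48,true),(42,true),(48,true),(42,false)],3,false,[2,0,3,3,0,3,0,2,0,2,0,2,2,0,3,3,0,2,2]⟩]⟩,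
  .loop ⟨1,[2,1,3,3,3,4,2,0,3,0,2,2,0,2,0,3,3,0,3,0,2,2,0,3,1],[0,1,0,1,0,1],3,4,[⟨[(48,false),(42,false),(48,false),(42,true),(48,true),(42,false)],3,false,[3,0,2,2,0,3,0,3,3,0,2,0,2,2,0,3,3,1,3]⟩],[⟨[(42,true),(42,true),(48,true),(42,false),(48,false)],1,false,[3,0,3,3,0,2,0,3,3,0,2,2,2,0,3,0,2,2,0]⟩]⟩,
  .loop ⟨1,[4,2,2,4,0,2,0,3,3,0,3,0,2,0,2,0,3,3,0,3,0,3,0,2],[0,1,0,1,0,1],3,4,[⟨[(48,false),(48,false),(42,true),(48,false)],1,false,[0,2,0,3,3,0,2,0,2,2,0,2,0,2,2,0,3,0,3,3,0]⟩],[⟨[(42,false),(48,true),(42,false),(48,false)],3,false,[2,2,0,2,0,2,2,0,3,0,3,0,2,0,2,0,3,3]⟩]⟩,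
  .loop ⟨1,[1,2,1,2,2,4,2,0,3,3,0,3,0,3,0,2,0,3,3,0],[0,1,0,1,0,1],3,4,[⟨[(48,false),(42,false),(48,false),(48,false),(48,false)],3,false,[3,3,0,2,2,2,0,2,0,2,2,0,3,0,3,3]⟩],[⟨[(42,false),(48,true),(42,false)],44,false,[0,2,0,3,3,0,2,2,0,2,0,2,0,3,0,2,2,2,1]⟩]⟩,
  .loop ⟨1,[2,4,2,1,2,2,4,2,0,2,0,2,2,0,3,3,0,3,0,2,2,0,2,2,0,3,3,1,2,2],[0,1,0,1,0,1],3,4,[⟨[(42,true),(48,true),(42,false),(48,false)],1,false,[2,2,0,2,0,2,2,0,3,0,3,0,2,0,3,3,1,2]⟩],[⟨[(48,false),(48,false),(42,false),(42,false),(48,true),(42,true)],3,false,[2,2,0,2,2,2,0,3,3,0,2,0,2,2,2,1,3]⟩]⟩,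
  .loop ⟨1,[3,1,3,4,3,1,3,3,4,2,0,3,0,2,2,0,2,2,0,3,0,3,0,2,0,3,3,0,2,2,1,3],[0,1,0,1,0,1],3,4,[⟨[(42,true),(48,false),(42,false),(48,false)],1,false,[0,3,0,3,0,3,3,0,3,3,0,3,0,3,0,2,0,2,0,3]⟩],[⟨[(48,true),(42,false),(48,true),(42,false)],3,false,[0,2,2,2,0,3,0,3,0,2,0,2,0,2,2,0,3,3,0,2,2,1,2]⟩]⟩,
  .loop ⟨1,[3,1,2,2,4,2,4,0,3,3,0,3,0,3,0,2,0,2,0,2,0,3,0,2,2,0,2,0,2],[0,1,0,1,0,1],3,4,[⟨[(42,false),(42,false),(48,true),(42,false),(48,false)],2,false,[2,2,0,3,3,0,2,0,3,3,0,2,0,2,2,0,3,0,3,3,0,2,1,2]⟩],[⟨[(48,true),(42,false),(42,false)],3,false,[0,2,0,2,2,0,3,3,0,3,0,2,2,0,2,0,3,3,0,2,1,3]⟩]⟩,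
  .loop ⟨1,[4,1,2,2,4,3,4,2,0,3,3,0,3,3,0,3,3,0,2,2,0,2,0,2,0,2,2,2,1],[0,1,0,1,0,1],3,4,[⟨[(48,false),(42,false),(48,true),(48,true),(42,true),(48,false)],3,false,[0,2,2,0,2,2,0,2,2,0,2,2,0,2,0,2,2,1,2]⟩],[⟨[(48,true),(42,false),(48,true),(42,true),(48,true),(48,true),(42,false)],4,false,[3,3,0,2,0,2,2,0,2,0,3,3,0,3,0,3,0,2,2,2,1]⟩]⟩,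
  .loop ⟨1,[3,4,3,3,4,0,3,0,3,0,2,0,3,3,0,2,2,0,2,2,0,2,2,2],[0,1,0,1,0,1],3,4,[⟨[(42,false),(42,false),(48,false),(42,false),(48,false)],2,false,[3,3,0,2,0,3,3,0,2,0,2,2,0,3,0,3,0,3,0,2,1,2]⟩],[⟨[(42,true),(48,true),(42,false),(42,false)],3,false,[0,2,0,2,0,2,0,3,0,3,0,3,0,2,0,2,1,2,2]⟩]⟩,
  .loop ⟨1,[4,3,1,3,4,3,4,0,2,0,2,2,0,2,0,2,0,2,2,0,3,3,0,3,3,0,3,1],[0,1,0,1,0,1],3,4,[⟨[(48,false),(42,false),(42,false),(48,false),(42,false)],3,false,[2,2,0,3,3,0,2,2,0,3,3,0,3,0,3,3,0,2,2,2,1]⟩],[⟨[(42,true),(42,true),(48,false),(42,false),(42,false)],4,false,[0,2,0,2,2,0,2,0,3,3,0,3,3,0,3,0,2,2,2,1,3]⟩]⟩,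
  .loop ⟨1,[3,4,1,3,1,3,3,4,0,3,0,3,0,3,3,0,3,0,3,0,2,2,1],[0,1,0,1,0,1],3,4,[⟨[(48,true),(42,false),(48,false),(42,false),(48,false)],2,false,[3,3,0,2,0,2,2,0,3,3,0,3,3,0,2,0,2,2,0,3,0,3,3,1]⟩],[⟨[(48,true),(42,false),(48,true),(42,true),(48,false),(42,true)],3,false,[2,2,0,3,0,3,0,3,3,0,2,0,2,2,0,2,0,3]⟩]⟩,
  .loop ⟨1,[1,3,3,4,2,4,2,4,2,4,0,2,2,0,2,0,3,3,0,3,3,0,3,0,2,0,2,0,2,2,0,2,1],[0,1,0,1,0,1],3,4,[⟨[(42,true),(42,true),(48,true),(42,false),(48,false)],2,false,[0,2,2,0,2,2,0,2,2,0,3,0,3,0,3,0,2,0,2,1,2,2]⟩],[⟨[(48,true),(42,true),(42,true),(48,false),(42,true)],3,false,[0,3,0,3,0,3,0,3,3,0,3,3,0,3,0,2,2,2]⟩]⟩,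
  .loop ⟨2,[4,2,1,3,4,3,4,0,2,2,2,0,3,3,0,2,0,2,2,0,2,0,2,2,0,3,0,3,3,1],[3,4,3],1,2,[⟨[],95,false,[0,3,0,3,3,0,2,0,2,0,2,2,0,2,2,2,1,2]⟩],[⟨[(102,false)],5,false,[2,0,2,0,3,3,0,2,0,2,2,0,2,2,2,0,3,3,0,3,0]⟩]⟩,
  .loop ⟨4,[3,3,4,0,2,2,0,3,0,2,2,0,3,0,3,3,0,3,3,0,3,1,3],[2,3],2,2,[⟨[],112,false,[0,2,0,3,3,0,2,0,2,2,0,2,2,0,3,0,3,3]⟩,⟨[(99,false)],68,true,[3,0,3,0,3,3,0,2,2,0,2,0,3,0,2,2,2,0,3,3]⟩],[]⟩,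
  .loop ⟨2,[2,0,2,0,3,3,0,2,0,2,2,2,0,2,2,0,3,1,3],[0,1,0,1,0,1],1,2,[],[⟨[],1,true,[2,0,2,0,3,3,0,2,0,2,2,2,0,2,2,0,3,1,3]⟩,⟨[(48,true),(42,false),(42,false),(42,false)],3,false,[2,0,2,0,2,2,0,2,0,2,2,2,0,3,0,3,0,3]⟩]⟩]

/-- reasons -/
def why3 : List Why := [
  .loop ⟨1,[3,4,3,4,3,4,1,3,4,3,0,2,0,2,0,3,0,3,3,0,3,0,2,2,2,0,2,1],[0,1,0,1,0,1],3,4,[⟨[(42,true),(48,true),(42,true),(48,false)],2,false,[0,2,0,3,3,0,2,0,2,2,0,3,3,0,2,0,2,2,0,2,1,2]⟩],[⟨[(42,false),(42,false),(48,false),(42,false),(42,false)],3,false,[0,3,3,0,2,2,2,0,3,0,2,2,0,3,0,2,2,0]⟩]⟩,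
  .loop ⟨1,[2,4,1,2,4,3,3,0,2,2,0,2,0,2,2,0,3,3,0,3,0,3,3,0,3,0],[0,1,0,1,0,1],3,4,[⟨[(42,false),(48,false)],1,false,[2,2,0,2,0,3,3,0,3,0,2,0,2,2]⟩],[⟨[(42,true),(48,true),(42,false),(48,true),(42,false),(42,false)],3,false,[2,2,2,0,3,0,2,2,0,3,0,2,2,2,1,3]⟩]⟩,
  .loop ⟨2,[1,2,1,2,2,4,2,2,2,0,2,0,2,2,0,3,3,0,3,0,3,0,2,2,2],[3,4,3],3,3,[⟨[(102,false)],119,false,[2,2,2,0,3,0,3,3,0,3,0,3,0]⟩,⟨[(118,false)],117,false,[2,2,0,2,0,3,0,2,2,0,3,0,2,2,1,2]⟩,⟨[],5,true,[0,2,0,2,2,0,3,3,0,3,3,0,2,2,0,2,0,2,0,2,2]⟩],[]⟩,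
  .loop ⟨1,[1,2,1,3,4,1,3,3,4,0,3,0,2,2,0,2,2,0,2,0,2,0,3,3,0,2,0],[0,1,0,1,0,1],3,4,[⟨[(48,true),(42,false),(42,false),(48,false)],1,false,[2,0,2,2,2,0,2,0,2,0,3,0,3,3,0,2,1]⟩],[⟨[(42,true),(42,true),(42,true),(48,true),(42,false)],3,false,[2,0,3,0,3,0,2,0,2,0,2,2,0,3,0,3,0,3,1,3]⟩]⟩,
  .loop ⟨1,[1,2,1,3,3,4,3,4,2,0,2,2,0,2,0,3,3,0,3,0,2,2,0,2,0,3],[0,1,0,1,0,1],3,4,[⟨[(42,false),(42,false),(48,false),(42,false),(48,false)],2,false,[0,3,0,2,2,2,0,2,0,3,0,3,3,0,2,2,0,2]⟩],[⟨[(42,true),(48,true),(42,true),(48,true),(42,false),(42,false)],3,false,[3,3,0,2,2,0,3,0,3,3,0,2,2,0,2,0,2,2,0,3,3]⟩]⟩,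
  .loop ⟨2,[3,3,4,2,2,2,0,3,0,3,0,3,3,0,3,0,2,2,2,1,3,3],[3,2],2,2,[⟨[(122,true),(102,false)],123,false,[2,2,0,2,0,2,0,3,0,3,0,2,0,3,3,0,2,2,0,2,0]⟩,⟨[(118,false),(118,false)],59,true,[2,2,2,0,2,0,2,0,2,2,2,0,3,0,2,2]⟩],[]⟩,
  .loop ⟨5,[1,3,1,2,1,2,2,4,2,2,0,2,2,0,2,2,0,3,3,0,3,0,3,0,2,2,2,0,2,0],[2,3],2,2,[⟨[(99,true)],68,true,[0,2,0,3,3,0,3,3,0,3,0,2,0,2,0,2,2,0,2,2,2,0]⟩,⟨[(118,false),(118,false)],101,false,[3,0,3,0,2,0,2,0,2,2,0,3,0,3,0,3,3,0,2,0]⟩],[]⟩,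
  .loop ⟨1,[2,4,3,3,4,0,2,2,0,2,0,2,0,3,0,3,3,0,3,0,2,2,0,2,0,3,3,0,2,0],[0,1,0,1,0,1],3,4,[⟨[(48,false),(42,false),(42,false),(42,false),(48,false)],2,false,[3,0,2,0,2,0,3,0,2,2,2,0,2,0,2,2,0]⟩],[⟨[(42,true),(48,false),(42,true),(48,false),(48,false),(42,false)],3,false,[3,3,0,2,2,0,2,0,2,0,2,2,0,2,2,0,2,0,2,2,2]⟩]⟩,
  .loop ⟨1,[1,3,3,3,4,0,3,0,3,0,3,3,0,2,2,0,2,0,2,2,0,2,0,3,3,1,2],[3,1,1],1,2,[⟨[(42,false),(48,false)],2,false,[2,0,2,0,2,0,2,2,0,3,3,0,3,0,3,3,0,2,2,2,0]⟩],[⟨[(48,true),(42,true),(48,false)],44,false,[0,2,2,0,2,2,0,2,0,2,0,2,2,2,0,2,0,3,3,1]⟩]⟩,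
  .loop ⟨1,[2,1,3,4,1,3,3,4,3,0,3,0,2,2,2,0,2,0,2,1,3,3],[0,1,0,1,0,1],3,4,[⟨[(42,false),(48,true),(42,false),(48,false)],2,false,[0,3,3,0,2,2,0,2,0,3,0,3,0,2,0]⟩],[⟨[(42,true),(48,false),(48,false),(42,false),(48,true),(42,true)],3,false,[2,2,0,2,2,0,2,0,2,2,2,0,3,1,3]⟩]⟩,
  .loop ⟨1,[2,4,3,1,3,3,4,0,3,0,2,2,0,2,2,0,2,0,3,3,1,2,2],[0,1,0,1,0,1],3,4,[⟨[(42,true),(42,true),(48,false)],2,false,[2,0,2,2,0,2,0,2,0,2,2,2,1,2,2,2]⟩],[⟨[(42,true),(48,true),(42,true),(48,false),(42,false),(42,false)],3,false,[2,0,2,0,2,2,0,3,3,0,3,0,3,3,0,3,0,2,2,0,2,2,2,1]⟩]⟩,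
  .loop ⟨1,[2,2,4,1,3,1,3,3,4,0,2,2,0,3,0,3,0,2,0,2,0,2,2,2,0,2,0,2,2,0,2,0,2,1,2],[0,1,0,1,0,1],3,4,[⟨[(42,false),(42,false),(48,false),(42,false),(48,false)],2,false,[3,3,0,3,0,3,3,0,3,0,3,1,2,2,2]⟩],[⟨[(48,true),(42,true),(48,false),(48,false),(42,false)],3,false,[0,3,0,2,2,2,0,3,0,2,2,0,2,2,0,3,3,0,3,3]⟩]⟩,
  .loop ⟨4,[4,2,2,0,2,0,3,3,0,3,0,3,0,2,0,2,1,3,3],[3,1,1],3,3,[⟨[(118,true)],117,false,[0,2,2,2,0,2,0,3,0,3,0,2,2,0,2,2,0,2,2,0,3,3,1]⟩,⟨[],5,true,[3,3,0,2,0,3,3,0,2,0,2,2,2,1,2,2,2]⟩,⟨[(125,false),(122,false),(102,false)],59,false,[2,0,2,2,0,3,3,0,3,0,2,2,0,2,1,3,3]⟩],[]⟩,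
  .loop ⟨4,[3,3,3,4,2,4,3,0,2,0,2,0,3,0,2,2,0,2,0,3,0,3,3,0,3,1],[2,1,2],1,2,[⟨[(118,true),(132,false),(118,true),(118,true),(132,false),(118,true)],6,false,[2,2,0,2,2,0,3,3,0,2,2,0,2,0,2,2,0,2,2,2,0]⟩],[⟨[(118,false),(132,false),(118,false),(118,false)],6,false,[0,2,0,2,2,2,0,2,0,3,0,3,0,3,3,0,3,0,2,2,0,3]⟩]⟩,
  .loop ⟨4,[4,2,1,3,4,3,4,3,4,0,2,2,0,2,0,2,0,2,2,0,2,2,0,2,2,0,3,0,3,0],[0,1,0,1,0,1],3,4,[⟨[(118,true),(132,false),(118,true)],88,true,[3,0,3,3,0,3,0,3,0,3,3,0,3,3,0,3]⟩],[⟨[(118,true),(132,false),(118,true)],6,false,[0,2,0,2,2,2,0,2,0,2,0,3,0,3,3]⟩]⟩,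
  .loop ⟨4,[4,2,1,2,1,2,2,4,2,2,0,3,3,0,3,0,3,0,2,0,2,2,2,0,2,0,2,0,2],[0,1,0,1,0,1],3,4,[⟨[(118,false)],117,false,[0,2,2,0,3,0,2,2,2,0,3,3,0,3,0,3,0,2,1,2]⟩],[⟨[(132,false)],6,false,[3,3,0,2,2,0,3,0,3,3,0,3,0,3,3,0,2,2,0,2,1,3]⟩]⟩,
  .loop ⟨1,[2,2,4,3,1,3,3,4,0,3,0,2,0,2,0,3,0,2,2,0,2,0,3,0,2,2,0,2,1],[0,1,0,1,0,1],3,4,[⟨[(42,false),(42,false),(42,false),(48,false)],2,false,[0,3,0,3,0,2,0,2,2,0,2,0,2,0,3,3,0,2,1,2,2]⟩],[⟨[(42,false),(48,false),(48,false),(42,true)],3,false,[0,3,3,0,3,3,0,2,0,2,0,2,0,3,0,3,3]⟩]⟩,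
  .loop ⟨4,[3,4,2,1,3,3,4,2,0,3,3,0,2,2,0,2,2,0,2,2,0,3,0,3,0,3,3,1,3],[0,1,0,1,0,1],3,4,[⟨[(132,false)],117,false,[2,0,2,2,0,3,3,0,2,0,2,2,0,3,3,0,3,0,3,3,1]⟩],[⟨[(132,true),(118,false),(118,false),(132,false)],6,false,[0,3,0,2,0,2,0,2,2,0,2,0,3,3,0,3,0,2,0,2,0,3]⟩]⟩,
  .loop ⟨1,[2,4,3,1,3,4,2,2,2,0,2,2,2,0,3,0,2,2,0,2,0,2],[0,1,0,1,0,1],3,4,[⟨[(48,false)],2,false,[2,0,3,0,3,0,2,2,0,2,2,0,3,0,3,3,0,2,0,2,1]⟩],[⟨[(42,true),(48,false),(42,true),(48,false),(42,false),(48,false),(42,true)],3,false,[2,2,0,3,0,2,2,0,2,2,0,3,3,0,3,0,2,2,0,2,2]⟩]⟩,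
  .loop ⟨4,[1,3,1,3,3,3,4,0,2,0,2,2,2,0,3,3,0,3,0,3,0,2,0,3,3,0,2,2,1],[0,1,0,1,0,1],5,6,[⟨[],3,true,[0,3,3,0,3,0,2,2,0,2,0,3,0,3,0,3,3,0,2,1,2]⟩,⟨[(48,false),(42,false),(48,false),(42,true),(48,false)],2,false,[3,0,2,2,0,3,0,3,3,0,2,2,0,2,2,0,3,0,3]⟩],[]⟩,
  .loop ⟨4,[2,4,0,2,0,3,3,0,3,3,0,2,0,2,2,0,2,0,3,0,2,2,2,0],[4,4,2],3,3,[⟨[],45,true,[2,0,2,0,3,3,0,3,3,0,3,0,3,0,3,3,0,2,2,0,2,0,3,3,1]⟩,⟨[(42,false),(42,false),(42,false),(48,false),(42,true)],3,false,[0,2,2,2,0,2,0,2,2,0,3,0,3,0,2,0]⟩,⟨[],50,false,[2,0,3,3,0,2,0,3,3,0,3,3,0,3,3,0,3,3,0]⟩],[]⟩,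
  .loop ⟨1,[4,1,3,4,3,4,1,3,4,2,0,3,0,3,3,0,2,0,3,3,0,3,3,0,3,3,0,2,2,2],[0,1,0,1,0,1],3,4,[⟨[(42,false),(48,false)],2,false,[2,0,2,2,2,0,3,0,2,2,0,3,0,3,3,0,2,2,2,0,2,2]⟩],[⟨[(48,true),(48,true),(42,true),(42,true),(48,false),(48,false)],3,false,[0,3,0,2,0,2,2,0,2,0,2,2,0,2,2,0,2,2,0,3,1]⟩]⟩,
  .loop ⟨4,[1,2,2,4,1,2,4,0,2,2,0,2,0,2,0,3,3,0,2,0,2,2,0,2,2,1,2,2],[0,1,0,1,0,1],3,4,[⟨[(140,true),(118,false),(118,false)],6,false,[0,2,0,2,0,2,0,3,0,3,0,3,3,0,3,3,0,2,2,2,0,2,1]⟩],[⟨[(118,true),(140,false),(132,false),(140,false),(118,false)],6,false,[0,3,0,2,2,0,3,3,0,3,0,3,0,2,0,3,3,0,2,0,2,0]⟩]⟩,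
  .loop ⟨4,[4,2,2,4,2,0,2,0,2,2,0,2,0,3,0,3,0,3,3,0,2,1],[0,1,0,1,0,1],3,4,[⟨[(140,false),(132,false),(118,false),(132,true)],6,false,[0,3,3,0,3,0,3,3,0,3,3,0,2,0,2,2,0,3,0,3,3]⟩],[⟨[(140,false),(140,false),(132,false),(132,false)],6,false,[2,2,2,0,2,0,3,0,3,0,2,0,2,0,2,2]⟩]⟩,
  .loop ⟨4,[4,3,3,3,4,3,4,2,0,3,3,0,2,0,3,3,0,2,0,2,0,2,2],[0,1,0,1,0,1],3,4,[⟨[(118,false),(132,true),(118,true)],6,false,[2,2,2,0,3,3,0,3,0,3,3,0,2,2,0,3,3,1,3,3]⟩],[⟨[(140,false),(118,false),(118,false)],6,false,[0,3,0,2,0,3,3,0,2,0,2,2,0,3,0,3,0,3,0,2,0,3]⟩]⟩,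
  .loop ⟨1,[4,1,3,3,1,3,3,4,0,2,2,0,3,3,0,2,0,2,2,0,2,0,2,2,0,3,3,0,3,1,3],[0,1,0,1,0,1],3,4,[⟨[],2,false,[2,2,0,2,0,3,3,0,3,0,2,0,2,0,2,2,0,3,0,3,3,1,3]⟩],[⟨[(48,false),(48,false),(42,true),(48,false),(42,false),(48,false)],3,false,[3,0,3,0,3,3,0,2,2,0,2,0,2,0,3,3,0,3,3]⟩]⟩,
  .loop ⟨4,[2,4,3,4,3,4,3,4,2,0,3,3,0,3,0,2,0,2,0,2,0,2,2,2,0,3,0,2],[0,1,0,1,0,1],3,4,[⟨[(132,true),(140,true),(132,false),(132,false)],6,false,[3,3,0,2,2,0,2,0,3,3,0,3,0,2,2,2,1,3,3]⟩],[⟨[(140,false),(118,true),(140,true),(132,true)],6,false,[2,0,3,0,2,2,0,2,2,0,3,0,2,2,0,3,0,3,1,3]⟩]⟩,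
  .loop ⟨4,[2,4,3,4,1,3,3,4,3,0,2,2,0,3,0,2,2,0,3,0,3,3,0,2,2,0,2,0,3,3,0],[0,1,0,1,0,1],3,4,[⟨[(140,true),(118,true),(140,true),(132,true),(118,true)],6,false,[2,0,2,0,3,3,0,3,0,3,0,2,0,2,2,0,3,0,3]⟩],[⟨[(140,true),(132,true)],6,false,[3,3,0,2,0,2,2,0,3,0,3,3,0,3,0,3,3,0,2,1,3]⟩]⟩,
  .loop ⟨1,[0,3,3,0,2,2,0,2,0,3,3,0,3,0,2,2,2,0,3,3,1],[0,1,0,1,0,1],3,4,[⟨[(42,true),(42,true),(48,false)],44,false,[2,2,2,0,3,3,0,3,3,0,2,0,2,2,0,2,1,2]⟩],[⟨[],14,false,[0,3,3,0,3,0,2,2,0,3,0,2,2,0,3,0,3,0,3,0]⟩]⟩,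
  .loop ⟨4,[3,1,3,3,3,4,3,4,3,0,2,0,2,2,2,0,3,3,0,3,0,3,0,2,0,2,0,3,1,3],[0,1,0,1,0,1],3,4,[⟨[(132,true),(132,true),(118,true),(140,false)],6,false,[0,3,0,3,3,0,2,0,2,2,0,3,0,3,0,2,0,3,3,0,2,2,1]⟩],[⟨[(118,false),(132,false),(118,true)],6,false,[3,3,0,3,0,3,0,3,3,0,3,3,0,2,2,2,0]⟩]⟩,
  .loop ⟨4,[1,3,1,3,4,3,4,2,2,0,2,2,0,2,2,2,0,3,0,2,2,2,1,3],[0,1,0,1,0,1],3,4,[⟨[(132,true),(132,true)],88,true,[2,2,0,3,3,0,3,3,0,3,3,0,3,3,0,2,2,0,2]⟩],[⟨[(140,true),(118,true),(118,true)],88,true,[3,3,0,2,2,0,3,0,3,3,0,3,3,0,2,0,2,2,0,3,0,2]⟩]⟩,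
  .loop ⟨7,[3,0,3,3,0,2,2,0,3,3,0,3,0,3,0,2,0,2,0,2,2,2],[4,4,2],3,3,[⟨[],6,true,[3,0,3,3,0,2,2,0,3,3,0,3,0,3,0,2,0,2,0,2,2,2]⟩,⟨[(132,false),(118,true),(118,true),(132,false)],6,false,[0,3,3,0,3,3,0,2,0,2,2,0,2,0,2,2,0,3,3,1]⟩,⟨[],133,false,[0,2,0,2,0,3,3,0,3,3,0,2,2,0,2,2,0,2]⟩],[]⟩,
  .loop ⟨4,[3,3,4,3,3,4,2,4,0,3,0,2,0,2,2,0,2,2,0,2,0,2,0,3,0,3,3,1,3],[0,1,0,1,0,1],3,4,[⟨[(140,false),(118,true)],117,false,[0,3,0,3,3,0,2,2,0,2,0,3,3,0,2,0,2,1,2]⟩],[⟨[(140,false),(132,true),(118,false)],6,false,[3,0,3,0,2,2,0,2,2,0,2,2,0,2,2,2,0]⟩]⟩,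
  .loop ⟨4,[1,3,1,3,4,3,4,0,3,0,3,0,2,2,0,2,2,0,2,2,0,2,2,0,2],[0,1,0,1,0,1],1,2,[],[⟨[(140,true),(118,true),(118,true)],88,true,[2,2,0,2,0,3,0,3,0,2,0,3,3,0,2,0,2,0]⟩,⟨[(99,false),(126,false)],150,false,[2,2,0,2,0,2,2,0,3,3,0,3,0,3,0,2,2]⟩]⟩,
  .loop ⟨4,[4,1,3,3,4,3,4,2,2,2,0,2,2,0,2,0,2,0,3,0,3,0,2,0,2,0,3,0],[0,1,0,1,0,1],3,4,[⟨[(140,true),(118,false),(118,false)],153,false,[0,2,0,2,0,3,0,3,3,0,2,2,0,2,0,3,0,3,3,0,3,1]⟩],[⟨[(132,false)],153,false,[2,0,2,0,2,2,2,0,3,0,3,0,3,3,0,2]⟩]⟩,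
  .loop ⟨5,[2,1,3,1,3,4,3,4,2,0,2,0,3,0,2,2,2,0,3,3,0,3,0,2,2],[4,3,3],2,3,[⟨[(99,true),(126,false),(99,false),(99,false)],150,false,[2,0,3,3,0,3,0,2,0,2,2,0,2,2,0,3]⟩,⟨[(99,true),(126,true),(99,true),(126,true)],134,false,[2,0,3,3,0,3,3,0,2,0,2,2,0,3,3,0,2,2,0,2,0,3,3,0]⟩],[]⟩,
  .loop ⟨4,[2,1,2,2,4,0,2,0,3,0,3,0,2,0,3,3,0,3,0,2,0,2,0,3,0,2,2,2],[1,2,2],2,3,[⟨[(118,true),(140,true),(140,true)],88,true,[2,0,2,2,0,3,0,3,1,2]⟩,⟨[(126,false),(99,false),(126,false),(99,false)],153,true,[2,0,3,3,0,3,3,0,2,2,0,2,0,3,3,0,2,2,2,1,3]⟩],[]⟩,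
  .loop ⟨4,[1,3,1,3,3,3,4,0,2,0,2,0,3,0,3,0,2,0,2,2,0,2,0,3,3,1],[0,1,0,1,0,1],5,6,[⟨[(132,false),(140,false),(118,false)],156,false,[2,2,0,2,2,2,0,2,0,3,3,0,3,3,0,3,3,0,2,2,2,1]⟩,⟨[(140,true),(118,false),(118,false)],57,true,[2,2,0,2,2,0,2,0,3,0,3,0,3,0,2,0,2,1,3]⟩],[]⟩,
  .loop ⟨4,[3,4,3,3,3,4,0,2,0,2,0,3,3,0,3,3,0,3,3,0,3,3,0],[0,1,0,1,0,1],3,4,[⟨[(132,true),(132,true),(140,true),(132,true)],6,false,[0,2,2,0,2,0,3,0,2,2,2,0,2,1,3,3]⟩],[⟨[(140,false),(132,true),(118,false)],156,false,[0,3,3,0,2,0,3,3,0,3,3,0,2,0,2,2,0]⟩]⟩,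
  .loop ⟨2,[2,1,2,4,1,2,2,4,0,3,3,0,2,0,2,0,3,0,2,2,0,2,2,2,0,2,1,2,2],[0,1,0,1,0,1],5,6,[⟨[(122,true),(102,false)],108,true,[0,3,0,3,0,3,3,0,2,0,2,2,0,2,0,3,0,3,0,3,0]⟩,⟨[(140,true),(132,true),(118,false)],153,false,[0,2,2,0,3,0,2,2,0,3,3,0,3,0,3,0,2,0,2,0,3,3,1]⟩],[]⟩]

/-- reasons -/
def why4 : List Why := [
  .loop ⟨4,[2,4,1,2,4,3,0,2,0,3,3,0,2,2,0,2,2,0,2,0,2,0,3],[0,1,0,1,0,1],3,4,[⟨[(140,false),(118,false),(118,false),(132,false)],6,false,[0,2,0,2,2,0,3,0,2,2,0,3,0,3,0,3,0,2,0,3,3,1,2]⟩],[⟨[(118,true),(140,false),(118,true)],156,true,[0,2,2,0,2,2,0,2,0,2,2,0,2,2]⟩]⟩,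
  .loop ⟨5,[4,3,1,3,3,3,4,0,2,0,2,0,3,0,2,2,0,2,0,3,0,3,3,1,3],[0,1,0,1,0,1],5,6,[⟨[(126,false),(99,false),(99,false)],153,true,[3,0,2,2,2,0,2,2,0,3,3,0,2,2,0,2,0,3,3,0,2,1,3]⟩,⟨[(118,true),(140,false),(140,false)],6,false,[3,3,0,3,3,0,3,3,0,2,0,2,2,0,2,0,2,2,0,3,3,0,2]⟩],[]⟩,
  .loop ⟨5,[2,2,4,2,4,3,4,3,0,3,0,3,0,2,2,0,3,0,3,3,0,3,3,0,2,1,3],[0,1,0,1,0,1],3,4,[⟨[(99,true),(99,true),(126,false),(99,true)],134,false,[3,0,2,2,2,0,3,3,0,3,0,3,0,2,0,2,0,2,0,3]⟩],[⟨[(99,true),(126,false),(99,false),(99,false)],153,true,[3,3,0,3,3,0,2,2,0,2,0,3,3,0,3,3,1,2]⟩]⟩,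
  .loop ⟨2,[3,1,2,2,4,2,4,2,0,3,3,0,3,0,2,2,0,3,0,3,3,0,2,0,2,2,1,2],[3,4,3],1,2,[⟨[(122,true),(125,true),(102,false),(122,true)],159,true,[0,3,0,3,0,2,2,0,2,0,3,0,2,2,0,2,2,0,2,1]⟩],[⟨[(125,false),(122,false)],159,true,[2,0,3,3,0,3,3,0,3,3,0,3,0,2,2]⟩]⟩,
  .loop ⟨4,[3,4,3,4,3,3,4,0,2,0,2,0,2,2,0,3,0,2,2,2,0,2,0,3,0,3,0,3,3,1,3],[0,1,0,1,0,1],3,4,[⟨[(140,false),(132,false)],117,false,[3,3,0,2,2,0,3,3,0,2,2,0,2,0,2,0,3,3,0,2,1,3]⟩],[⟨[(132,false),(140,false),(132,false),(132,false)],6,false,[3,0,2,2,0,2,2,0,3,0,3,0,2,0,3,3,0,3,3,1]⟩]⟩,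
  .loop ⟨4,[4,2,2,4,2,2,4,2,4,0,2,0,2,0,3,0,2,2,2,0,3,0,2,2,0,3,1,2,2],[0,1,0,1,0,1],5,6,[⟨[(132,true),(118,false),(132,true),(118,false)],156,false,[2,0,2,2,0,3,3,0,2,2,0,2,0,3,3,0,3,0,2,2,2,0,2,0]⟩,⟨[(140,false),(132,true),(140,true)],6,false,[0,2,2,2,0,3,0,2,2,0,3,0,3,3,0,3,0,2,2,0]⟩],[]⟩,
  .loop ⟨4,[3,1,2,1,2,2,4,3,0,3,0,2,0,3,3,0,3,0,3,3,1,2,2,2],[0,1,0,1,0,1],6,6,[⟨[(140,false),(140,false),(140,false)],153,false,[2,0,2,0,3,3,0,2,0,3,3,0,3,0,2,0,2,2,0]⟩,⟨[],60,false,[0,3,3,0,2,2,0,2,0,3,0,3,0,3,3,0,3,1]⟩,⟨[(99,true),(99,true)],153,true,[0,2,0,2,2,2,0,3,0,2,2,2,0,2,2,0,3]⟩],[]⟩,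
  .loop ⟨1,[2,1,2,4,2,4,0,2,0,2,2,0,3,0,2,2,0,3,3,0,3,0,3,1],[4,3,3],2,3,[⟨[(42,false),(48,true),(42,true),(48,false),(42,true)],3,false,[3,0,3,0,2,2,0,3,0,2,2,2,0,2,0,2,0]⟩,⟨[(166,false),(140,false)],108,false,[0,2,2,0,2,2,2,0,2,0,3,3,0,2,0,2,2,0,2,0,2,2,0,3]⟩],[]⟩,
  .loop ⟨1,[4,1,3,3,1,3,3,4,2,0,2,0,3,0,2,2,0,2,0,3,0,3,0,2,2,2,0,2,2],[1,2,2],1,2,[⟨[(42,false),(42,false),(48,false),(42,true),(48,true),(42,false),(42,false)],167,true,[0,3,3,0,3,3,0,3,0,3,3,0,2,2,0,2,1,3]⟩],[⟨[(48,false),(48,false),(42,true),(48,false),(48,false),(42,false)],3,false,[0,2,0,2,2,0,3,0,3,0,3,0,3,3,0,2,2,1,3,3]⟩]⟩,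
  .loop ⟨4,[4,1,3,1,3,4,3,4,3,3,0,2,0,2,2,0,2,0,2,0,3,0,2,2,2,0,3,0,3,3,1],[0,1,0,1,0,1],5,6,[⟨[(132,false),(166,false),(140,true)],156,true,[0,2,0,2,0,3,0,3,0,2,2,0,2,0,2,0,3,0,3,0,2,0]⟩,⟨[(140,false),(118,false)],117,false,[2,0,3,3,0,3,3,0,2,2,0,2,0,3,3,0,2,0,2,2,1,3]⟩],[]⟩,
  .loop ⟨2,[1,2,1,3,1,3,3,4,0,2,0,2,0,2,2,2,0,3,3,0,3,0,3,0,2,0,2,0,3,0],[0,1,0,1,0,1],1,2,[],[⟨[(125,true),(125,true),(102,false)],59,false,[0,3,0,2,0,2,2,0,2,0,2,2,0,2,2,2,0,2,1,2,2,2]⟩,⟨[(140,false),(166,true),(118,true)],169,true,[0,2,2,0,2,0,2,0,3,0,3,0,2,0,2,2,0,2,0,2,2,1,3]⟩]⟩,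
  .loop ⟨2,[1,2,1,3,3,3,4,3,0,3,0,2,2,2,0,2,2,0,2,0,2,0,3,0,2,2,2,0],[2,2,1],2,3,[⟨[(122,false)],59,false,[2,0,2,2,0,3,3,0,3,0,3,3,0,2,0,2,2,0,2,0,2,1]⟩,⟨[(166,true),(118,false)],59,true,[0,2,0,3,3,0,3,0,2,0,2,0,2,0,3,0,2,2,0]⟩],[]⟩,
  .loop ⟨2,[3,1,3,3,4,0,2,2,2,0,3,0,3,3,0,2,2,0,3,3,0,3,1,2,2,2],[3,1,1],1,2,[⟨[(125,false),(102,false)],5,false,[2,0,2,2,2,0,3,0,3,3,0,2,0,2,2,0,3,3,0,2,0,2,2,0,2,0]⟩],[⟨[(125,true),(125,true),(122,false)],171,false,[2,2,0,3,0,3,3,0,3,0,2,0,2,0,3,0,3,3,0,3,0,2,0]⟩]⟩,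
  .loop ⟨1,[3,1,3,4,1,3,3,4,2,2,0,2,0,3,3,0,3,0,3,0,3,3,0,3,0,2,0,2,2],[0,1,0,1,0,1],5,6,[⟨[(48,true),(48,true)],44,false,[3,0,2,2,2,0,3,0,2,2,0,2,2,0,3,0,3,0,3,0]⟩,⟨[(122,false),(125,false)],171,false,[0,2,0,2,2,0,3,3,0,3,3,0,3,3,0,3,3,0,2,2,0,3]⟩],[]⟩,
  .loop ⟨1,[4,1,3,1,3,4,3,3,4,3,0,3,0,2,0,2,2,2,0,2,0,3,0,3,0,3,3,0,3,0,2],[0,1,0,1,0,1],5,6,[⟨[(42,true),(48,false),(42,true),(42,true),(42,true),(48,true),(42,false)],167,true,[3,3,0,2,0,2,2,0,3,0,3,0,3,0,2,0,2,2,0,2,0]⟩,⟨[(125,true),(122,true),(125,false),(102,false)],159,true,[0,2,2,2,0,2,0,3,3,0,3,3,0,3,0,3,3]⟩],[]⟩,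
  .loop ⟨1,[3,3,4,3,1,3,3,3,4,3,0,3,0,2,0,2,2,2,0,3,0,3,0,2,0,2],[0,1,0,1,0,1],3,4,[⟨[(42,false),(42,false),(48,false),(42,false)],4,false,[0,2,0,3,3,0,2,2,2,0,2,0,2,2,0,2,0,3,0,3]⟩],[⟨[(48,true),(42,true),(48,false),(42,false)],167,true,[3,3,0,3,0,2,0,2,0,2,2,2,0,3,0,3,3,0,3]⟩]⟩,
  .loop ⟨4,[2,1,2,1,3,3,3,4,0,2,0,3,3,0,2,0,2,2,0,2,2,2,0,3,3,0,3,1],[0,1,0,1,0,1],1,2,[],[⟨[(132,false),(118,true),(132,false)],156,true,[2,2,0,2,0,3,0,3,3,0,2,2,0,2,2,0,3,1,2]⟩,⟨[(166,true),(118,true),(140,true),(118,false)],169,true,[3,3,0,2,2,0,3,0,3,3,0,2,2,0,3,0,3,3,0,2,0,2,2]⟩]⟩,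
  .loop ⟨4,[4,2,1,3,4,3,3,4,3,0,2,2,2,0,3,0,3,3,0,3,3,0,2,0],[0,1,0,1,0,1],3,4,[⟨[(118,true),(166,false),(118,false),(118,false)],176,false,[0,2,0,3,3,0,2,2,0,2,2,0,3,3,0,3,0,3,0,3,3]⟩],[⟨[(140,false),(140,false),(140,false),(118,true)],176,false,[2,0,2,0,3,0,3,0,2,2,0,2,0,2,2,2,0,3,1]⟩]⟩,
  .loop ⟨2,[4,3,4,3,4,0,2,0,3,3,0,2,0,2,0,2,2,0,3,3,0,3,3,0,2,2,0,3],[0,1,0,1,0,1],6,6,[⟨[(125,false),(102,false),(125,true),(125,true)],175,true,[0,2,0,3,0,3,0,3,0,2,2,0,2,0,3,0,2,2,0,3,0]⟩,⟨[(99,true),(126,false),(99,true)],150,false,[2,2,0,3,3,0,3,3,0,2,2,0,2,0,3,3,1,3]⟩,⟨[(126,true),(99,true),(126,true)],175,false,[0,3,3,0,2,2,0,3,0,3,3,0,3,3,0,3,0,3,0,3]⟩],[]⟩,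
  .loop ⟨3,[3,4,0,2,0,2,0,3,3,0,3,0,3,0,2,0,3,3,0,2,2,0,2,1],[2,3],2,2,[⟨[],120,false,[2,0,2,2,0,2,0,2,0,3,0,3,0,3,0,2,2,0,2,1,3]⟩,⟨[(166,false)],57,true,[2,0,2,2,0,2,0,3,3,0,3,0,2,2,0,3,0,2,2,2]⟩],[]⟩,
  .loop ⟨4,[2,1,3,4,3,4,2,2,0,2,2,0,2,0,2,2,0,3,3,0,3,0,2,0,2,0,2,1],[1,1,3],1,2,[⟨[(140,false),(132,false),(140,false)],6,false,[2,0,3,0,3,0,3,0,2,2,0,2,2,0,2,2,0,2,0,2,0,3,1]⟩],[⟨[(118,true),(140,false),(140,false)],176,false,[0,3,0,2,0,2,0,2,0,3,0,2,2,2,0,3,3]⟩]⟩,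
  .loop ⟨1,[2,4,2,4,0,3,0,3,0,3,0,2,2,0,2,0,2,0,2],[3,4,3],1,2,[⟨[(42,true),(48,false),(48,false),(48,false)],167,true,[0,2,2,0,3,0,2,2,0,3,0,3,3,0,3,3,0,3,3,1,2]⟩],[⟨[(42,false),(48,true),(48,true),(42,false),(48,false),(42,false)],167,true,[0,3,0,2,0,2,0,2,2,0,3,0,3,0,2,0,2,0,2,2,1,2]⟩]⟩,
  .loop ⟨4,[4,1,2,1,3,3,4,1,3,4,2,0,3,3,0,2,0,2,2,0,2,0,2,2,2,0,3,3,0,3,1,3],[3,3,4],1,2,[⟨[(118,false),(132,true),(118,false)],153,false,[3,3,0,2,0,3,3,0,3,0,2,2,0,3,0,2,2,2,1,2,2,2]⟩],[⟨[(140,true),(140,true)],169,true,[0,3,0,3,0,2,0,3,3,0,3,3,0,3,3,0,2,2,1,3]⟩]⟩,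
  .loop ⟨2,[1,3,4,1,3,3,4,0,3,0,3,0,3,3,0,3,0,3,0,2,2,2],[4,2,4],1,2,[⟨[(102,false),(122,true),(102,false)],175,true,[0,3,3,0,3,0,3,3,0,3,3,0,3,0,3,0,3,3,0,2]⟩],[⟨[(125,true),(102,false),(122,false)],175,true,[3,0,3,3,0,3,0,3,0,2,0,2,2,0,2,2,2,0,2,1,2]⟩]⟩,
  .loop ⟨5,[1,3,3,4,3,4,3,4,0,2,0,3,0,2,2,2,0,3,3,0,3,0,3,1],[0,1,0,1,0,1],6,6,[⟨[(99,false),(126,false),(99,true)],159,false,[3,3,0,3,0,3,0,2,0,2,0,2,2,0,2,2,2,0,2,0]⟩,⟨[(178,true),(122,false)],175,true,[3,0,3,3,0,3,3,0,3,0,2,0,2,0,2,2]⟩,⟨[(126,true),(126,true),(99,false),(99,false)],150,false,[0,2,0,3,0,2,2,2,0,2,0,2,2,2,0,3,0,3,0]⟩],[]⟩,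
  .loop ⟨3,[4,1,3,4,3,4,2,0,2,0,3,3,0,2,0,3,3,0,3,3,0,2,2,1,2],[1,4],2,2,[⟨[(179,true),(179,true)],130,false,[3,3,0,2,2,0,3,0,3,3,0,3,0,3,3,1]⟩,⟨[(166,true),(118,false)],57,true,[3,0,3,0,3,3,0,2,2,0,3,0,2,2,1,2]⟩],[]⟩,
  .loop ⟨4,[3,4,2,4,2,4,2,4,0,2,0,3,3,0,2,2,0,2,0,3,3,0,3,0,2,2,2,0,3,3,1],[0,1,0,1,0,1],3,4,[⟨[(140,true),(132,false),(132,false)],6,false,[3,0,3,0,2,2,0,2,0,3,3,0,3,3,0,2,2,0,2,0,2]⟩],[⟨[(132,true),(166,false),(140,false)],156,true,[2,0,2,0,3,0,3,3,0,2,0,2,2,0,3,3,0,2,2,0,3,3,0]⟩]⟩,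
  .loop ⟨4,[3,3,4,3,4,1,3,3,4,0,2,0,2,2,2,0,3,3,0,3,0,2,0,2,0,3,1],[0,1,0,1,0,1],3,4,[⟨[(132,true)],176,false,[0,2,2,0,3,0,3,3,0,3,3,0,3,3,1,2]⟩],[⟨[(132,false),(118,true),(132,false)],169,true,[0,2,0,2,2,2,0,2,0,2,0,2,2,0,2,0,3,0,3]⟩]⟩,
  .loop ⟨4,[3,1,2,2,4,1,2,4,2,2,2,0,3,0,2,2,0,2,2,0,2,0,3,3,0,2,0],[4,2,4],1,2,[⟨[(140,false),(140,false),(166,false),(118,false)],176,false,[0,3,0,2,2,0,3,3,0,3,3,0,3,0,3,0,3,3,1,3,3]⟩],[⟨[(166,false),(132,true),(118,true)],176,false,[3,0,3,0,3,3,0,2,2,0,2,0,3,0,2,2,0,3,0,3]⟩]⟩,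
  .loop ⟨7,[4,3,1,2,1,3,3,3,4,2,0,2,2,0,2,0,2,0,2,2,2,0,2,0,2,0,3,0,2,2,0],[0,1,0,1,0,1],1,2,[],[⟨[],162,false,[0,3,0,3,0,2,0,2,0,2,2,0,2,0,3,0,3,0,2,0]⟩,⟨[(118,false),(166,false),(132,false),(118,false)],153,false,[2,0,3,3,0,2,0,3,3,1,3,3]⟩]⟩,
  .loop ⟨4,[2,1,2,1,3,3,3,4,0,2,2,2,0,2,0,3,3,0,3,3,0,2,0,2,2,0],[0,1,0,1,0,1],3,4,[⟨[(166,true),(118,false)],6,false,[0,2,2,0,2,2,0,2,2,0,3,0,3,1,2]⟩],[⟨[(118,false)],88,true,[0,3,3,0,3,0,2,2,0,3,0,2,2,2,0,2,0,3,3,0,2]⟩]⟩,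
  .loop ⟨5,[3,3,4,2,2,4,2,4,0,2,2,2,0,3,3,0,3,0,3,0,2,2,2,0,3,3,0,2,1,3],[0,1,0,1,0,1],5,6,[⟨[(99,true),(126,false),(99,false),(99,false)],150,false,[0,2,2,2,0,2,0,3,3,0,3,3,0,2,2,1,2,2,2]⟩,⟨[(184,false),(126,true),(126,true)],189,true,[2,2,0,2,0,2,2,2,0,2,2,2,0,2,2,2,0,3,0]⟩],[]⟩,
  .loop ⟨2,[3,3,4,3,3,4,2,4,2,0,2,0,2,0,2,2,0,3,3,0,3,0,3,3,0,3,0,2],[0,1,0,1,0,1],5,6,[⟨[(178,false),(102,false),(122,false)],59,false,[3,0,2,2,0,2,0,2,2,2,0,2,0,3,0,3,0,2,0]⟩,⟨[(118,false),(166,false)],176,false,[2,0,3,3,0,2,2,0,2,0,3,3,0,3,3,1,3]⟩],[]⟩,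
  .loop ⟨2,[4,1,3,4,3,4,0,2,2,0,3,0,2,2,0,3,0,3,3,1,3],[4,4,2],1,2,[⟨[(178,false),(102,false)],175,true,[2,0,3,0,2,2,0,3,3,0,3,0,2,2,1,2,2]⟩],[⟨[(125,false),(122,false),(125,true),(122,true)],192,true,[2,0,3,3,0,3,0,2,0,2,2,0,3,3,0,3,3,0,3]⟩]⟩,
  .loop ⟨2,[1,3,4,1,3,4,3,0,3,0,3,3,0,3,0,2,2,1,3,3],[0,1,0,1,0,1],3,4,[⟨[(102,false),(125,false),(122,false)],5,false,[0,3,3,0,2,0,2,2,0,2,0,2,0,2,2,1,3,3]⟩],[⟨[(178,true),(125,false),(102,false)],171,false,[0,2,0,3,0,3,0,3,0,2,2,0,3,0,2,2,1,3]⟩]⟩,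
  .loop ⟨5,[2,4,2,4,3,3,4,1,3,4,0,3,3,0,2,2,0,2,2,0,3,3,0,3,0,2,2,0,2,0,2,1],[0,1,0,1,0,1],5,6,[⟨[(126,true),(99,true)],183,false,[0,3,0,2,2,0,2,0,2,2,0,3,3,0,2,1,2,2,2]⟩,⟨[(99,false),(126,true),(99,false)],189,true,[2,0,2,2,0,3,3,0,3,0,2,0,2,2,0,3,3,0,3,0,3,3,0,3,0]⟩],[]⟩,
  .loop ⟨4,[3,4,3,4,3,4,3,4,2,2,0,2,0,3,0,3,0,3,3,0,3,0,2,2,0,3,0,2,2,0,3,0,3,0],[0,1,0,1,0,1],5,6,[⟨[(118,false),(166,false)],59,true,[2,2,0,2,2,0,3,0,3,3,0,2,2,0,3,0,3,3,0,3,1]⟩,⟨[(125,true),(122,true),(102,false),(125,true)],194,true,[2,0,2,2,0,3,3,0,3,0,3,0,2,0,2,0,2,2,2,1,2,2]⟩],[]⟩,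
  .loop ⟨4,[4,2,2,4,2,2,4,2,4,0,3,0,2,0,3,3,0,3,0,2,0,2,0,3,0,3,0,3,1,2],[3,3,4],1,2,[⟨[(166,true),(132,false),(118,true)],196,true,[0,2,0,2,0,2,2,0,2,0,3,0,3,0,3,0,3,3,1,2]⟩],[⟨[(118,false),(132,true),(132,true)],6,false,[3,0,2,0,2,2,0,3,3,0,3,0,2,0,2,0,2,0,3,0,3,1,2]⟩]⟩,
  .loop ⟨2,[1,3,3,3,4,0,2,2,2,0,3,3,0,3,3,0,2,0,2,2,0,3,3,0,2],[0,1,0,1,0,1],3,4,[⟨[(125,false),(122,true),(102,false),(125,true)],175,true,[2,2,0,2,0,3,0,3,0,3,3,0,2,2,0,2,0,2,1,2,2,2]⟩],[⟨[(122,false),(125,true)],172,true,[3,0,3,0,3,3,0,2,2,0,3,3,0,3,0,2,2,0,3,0,2]⟩]⟩,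
  .loop ⟨3,[4,2,1,2,4,1,2,2,4,2,0,3,3,0,2,2,2,0,2,2,0,2,0,2,2,1,2,2],[0,1,0,1,0,1],6,6,[⟨[(179,true),(185,true)],2,true,[3,0,2,2,0,3,3,0,3,0,2,2,0,2,2,0,3,3,1,3]⟩,⟨[(48,true),(42,false),(48,true),(42,true),(48,true)],3,false,[2,0,2,2,0,2,0,3,3,0,2,0,3,3,0,2,0,2,2,0,3,0]⟩,⟨[(166,false)],57,true,[3,0,3,3,0,2,0,2,0,2,2,0,3,3,0,3,3,0,2,1]⟩],[]⟩]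

/-- reasons -/
def why5 : List Why := [
  .loop ⟨5,[3,1,3,3,3,4,3,4,2,0,2,0,3,0,3,0,2,0,3,3,0,2,2,2,0,3,1,2],[0,1,0,1,0,1],3,4,[⟨[(184,false),(126,false),(126,false),(99,false)],189,true,[3,0,2,0,2,2,0,2,0,3,0,3,0,2,0,2,2,0,3,3,0,3,0,3]⟩],[⟨[(99,true),(184,true)],183,false,[0,3,0,3,3,0,3,0,2,2,2,0,2,0,3,3,0,2]⟩]⟩,
  .loop ⟨3,[1,2,4,2,2,4,3,4,0,3,3,0,2,2,0,2,0,2,0,3,3,0,3,0,3,1,2],[0,1,0,1,0,1],5,6,[⟨[(179,true),(199,false),(185,true),(179,false)],157,false,[2,0,2,2,2,0,3,0,3,3,0,3,3,0,2,0,2,0,2,0,3]⟩,⟨[(166,true),(118,true),(166,true)],196,true,[0,2,0,2,0,2,2,0,3,0,3,3,0,3]⟩],[]⟩,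
  .loop ⟨2,[1,2,2,4,3,4,3,4,3,4,2,2,0,2,0,2,2,0,2,0,3,3,0,3,0,3,0,2,2,2,0],[0,1,0,1,0,1],3,4,[⟨[(125,true),(178,true),(122,false),(122,false)],194,true,[3,0,3,3,0,2,2,0,3,3,0,3,0,2,2,2,0,2]⟩],[⟨[(125,false),(102,false),(125,false),(125,false)],194,true,[0,3,0,3,0,2,0,2,0,2,0,3,0,2,2,0,2,0,3,3,1]⟩]⟩,
  .loop ⟨2,[3,4,3,4,3,4,0,3,0,3,3,0,3,3,0,2,2,0,2,0,3,3,1,2,2,2],[0,1,0,1,0,1],3,4,[⟨[(178,true),(178,true)],194,true,[0,2,2,0,3,3,0,2,0,2,2,2,0,3,0]⟩],[⟨[(178,true),(122,false),(125,true)],175,true,[0,2,0,2,0,3,3,0,3,3,0,3,0,2,0,2,0,3,0,3,3,1,3]⟩]⟩,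
  .loop ⟨2,[3,1,2,1,2,2,4,0,2,0,2,0,3,0,2,2,0,2,2,0,3,1],[4,4,2],1,2,[⟨[(122,false),(125,false),(125,false)],5,false,[0,3,0,3,0,2,2,0,2,0,2,0,3,0,3,3]⟩],[⟨[(125,true),(102,false),(122,false)],172,true,[2,2,0,2,0,2,2,0,3,0,3,0,3,0,2,0,2,2]⟩]⟩,
  .loop ⟨5,[2,4,2,1,3,3,3,4,2,2,0,2,0,3,0,2,2,2,0,2,1,3,3],[0,1,0,1,0,1],3,4,[⟨[(184,true),(99,false),(99,false),(126,false)],189,true,[0,3,0,2,0,3,3,0,3,3,0,2,0,2,2,0,2,0,3,3,0,2,0]⟩],[⟨[(184,true),(126,false)],153,true,[2,0,2,2,0,2,0,3,3,0,2,0,3,3,0,2,0,2,2,0,3,3,0,2,1]⟩]⟩,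
  .loop ⟨3,[3,4,1,3,4,3,4,3,3,0,2,2,2,0,3,0,3,0,3,3,0,3,0,3],[2,3],2,2,[⟨[(179,true),(185,true),(179,true)],66,false,[2,0,2,0,3,3,0,3,0,3,3,0,2,2,0,2,2,0,2]⟩,⟨[(118,false),(118,false)],57,true,[0,3,0,2,2,0,2,2,0,3,0,3,0,2,0,3,3,0,2,2,2,1]⟩],[]⟩,
  .loop ⟨5,[4,1,2,2,4,1,2,4,2,0,2,0,3,3,0,2,2,2,0,2,2,1],[0,1,0,1,0,1],3,4,[⟨[(99,false),(126,false),(99,true)],203,true,[0,2,2,0,2,0,2,0,3,0,3,0,3,3,0,2,2,1,3,3]⟩],[⟨[(126,true),(126,true),(184,true)],189,true,[2,2,0,3,3,0,2,0,2,2,0,3,0,3,3,0,2,2,0,3,3,0,2,2]⟩]⟩,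
  .loop ⟨2,[2,4,3,3,4,3,4,2,2,0,3,0,3,0,2,0,2,0,2,2,2,0,2,2,2,0],[0,1,0,1,0,1],3,4,[⟨[(178,false),(125,true),(122,false),(178,false)],194,true,[3,0,2,0,2,0,3,0,2,2,0,3,0,2,2,2,0,3,1]⟩],[⟨[(122,false),(125,true),(125,true),(178,false)],175,true,[3,0,3,3,0,3,3,0,2,0,2,2,0,3,0,2,2,0,3,0,3,3]⟩]⟩,
  .loop ⟨2,[1,3,1,3,3,4,2,0,2,0,2,2,2,0,2,0,2,2,0,3,3,0,2,2,0,2,2],[0,1,0,1,0,1],3,4,[⟨[(178,false)],172,true,[0,3,0,3,0,3,3,0,2,2,0,2,2,0,3]⟩],[⟨[(102,false),(122,false)],59,false,[2,0,2,2,0,3,3,0,2,2,0,2,0,2,0,3,3,0,3,3,1]⟩]⟩,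
  .loop ⟨2,[4,3,3,4,3,3,4,3,4,2,2,2,0,2,0,2,0,3,0,3,0,3,3,0,3,3,0,2,0,2],[3,3,4],1,2,[⟨[(102,false),(125,false),(122,false),(122,false)],194,true,[2,0,3,3,0,3,0,3,0,2,0,3,3,0,3,0,3,3,0,3,3,1]⟩],[⟨[(125,false),(125,false)],175,true,[2,2,2,0,3,0,3,0,2,0,2,2,0,2,0,2,0,2,2,1]⟩]⟩,
  .loop ⟨2,[4,1,3,4,3,3,4,0,3,3,0,2,2,2,0,2,2,0,2,0,2,0,2,2,0,2,2,1,3],[0,1,0,1,0,1],3,4,[⟨[(178,true),(102,false),(125,true)],172,true,[3,0,3,0,3,0,2,0,2,2,0,2,2,2,0,2,0,2,2,1]⟩],[⟨[(102,false),(125,false),(178,false)],175,true,[2,0,2,0,3,0,3,0,3,0,3,3,0,2,2,0,3,0]⟩]⟩,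
  .loop ⟨2,[2,1,2,1,2,2,4,0,2,0,2,0,3,0,2,2,0,2,2,0,3,0,3,3,0,3,1,3],[0,1,0,1,0,1],3,4,[⟨[(178,false),(102,false)],172,true,[0,2,2,0,3,0,2,2,0,2,0,3,0,3,0,3,3,0,2,0,2,0]⟩],[⟨[(102,false),(125,false),(122,false)],59,false,[0,3,0,3,0,2,0,2,0,3,0,3,3,0,2,0,2,0,3,0]⟩]⟩,
  .loop ⟨5,[4,3,3,3,4,0,3,0,3,3,0,3,3,0,3,3,0,3,0,3,0,2,1,2],[0,1,0,1,0,1],3,4,[⟨[(99,false),(184,true),(126,true)],189,true,[2,2,2,0,2,0,3,0,3,0,3,0,2,0,2,2,0,2,1]⟩],[⟨[(184,true),(184,true),(99,false),(99,false)],150,false,[2,0,2,0,3,0,3,0,3,0,3,3,0,2,2,0,2,0,3,0,3,3,0]⟩]⟩,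
  .loop ⟨4,[2,4,1,2,2,4,2,0,3,3,0,3,0,2,0,2,0,3,0,2,2,0,2,2,0,3,0,3],[3,3,4],1,2,[⟨[(166,false),(140,true),(118,false)],169,true,[2,2,0,2,0,2,2,0,3,3,0,3,3,0,3,0,2,2,0,3,3]⟩],[⟨[(140,true),(132,false)],156,true,[0,2,0,3,3,0,3,3,0,3,3,0,2,0,2,2,0,3,3,0,2,1]⟩]⟩,
  .loop ⟨4,[3,3,4,2,4,3,3,4,3,0,2,2,2,0,2,2,0,2,0,2,0,3,0,3,0,3,3,0],[4,2,4],1,2,[⟨[(132,true),(166,false),(140,true),(118,false)],196,true,[2,0,2,2,2,0,2,0,3,3,0,2,0,2,2,0,3,3,0,3,0]⟩],[⟨[(140,false)],196,true,[3,0,3,0,2,0,2,2,0,3,3,0,3,0,3,0,3,3,1]⟩]⟩,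
  .loop ⟨3,[3,3,4,2,4,3,3,4,2,2,0,2,0,2,2,0,2,0,3,0,3,0,2,0,2,0,2,2,2,1],[1,3,1],1,2,[⟨[(185,false),(206,false),(179,true)],201,true,[0,3,0,2,0,3,3,0,2,2,2,0,3,0,2]⟩],[⟨[(199,false),(185,true),(206,true)],201,true,[3,0,3,3,0,2,2,0,2,0,2,0,3,3,0,3,3,0,2,0]⟩]⟩,
  .loop ⟨5,[3,3,4,1,3,4,3,3,4,0,2,0,2,0,3,0,3,3,0,2,2,0,2,0,3,0,2,2,1],[0,1,0,1,0,1],3,4,[⟨[(184,true),(184,true),(99,true),(99,true)],203,true,[3,0,2,0,2,0,3,0,3,3,0,3,3,0,2,2,2]⟩],[⟨[(99,true),(126,false),(184,false)],150,false,[3,0,3,0,3,3,0,3,3,0,3,0,3,0,2,0,2,2,1]⟩]⟩,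
  .loop ⟨4,[4,2,4,3,1,3,4,2,0,3,3,0,2,2,0,3,3,0,3,0,2,2,0,2,0,3,3,0,3],[0,1,0,1,0,1],3,4,[⟨[(166,true),(132,false),(118,false)],196,true,[0,2,0,2,2,0,3,0,3,3,0,2,0,3,3,0,2,1]⟩],[⟨[(140,false),(118,false),(140,false),(118,true)],169,true,[0,2,2,2,0,3,0,3,0,2,2,2,0,2,1,3]⟩]⟩,
  .loop ⟨4,[1,2,2,4,0,2,0,2,2,0,2,0,2,0,3,0,3,0,3,3,0,2,2,2,0],[4,3,3],0,1,[],[⟨[(118,true)],57,true,[2,2,0,2,2,0,2,0,2,0,3,0,3,3,0,3,0,2,0,2,0,3]⟩,⟨[(185,false),(199,true),(185,true)],120,false,[3,0,2,2,0,2,0,2,0,2,2,0,2,2,0,3,0]⟩]⟩,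
  .loop ⟨5,[4,3,4,3,4,3,4,0,2,2,2,0,2,0,2,2,0,2,0,3,0,2,2,0,2,2,0,3],[0,1,0,1,0,1],3,4,[⟨[(184,false),(99,true),(126,false),(99,true)],189,true,[3,0,3,0,3,0,2,0,2,0,2,2,0,3,0,3,3,1,3,3]⟩],[⟨[(99,false),(99,false),(126,false),(99,false)],203,true,[2,2,0,2,2,0,3,0,3,3,0,2,2]⟩]⟩,
  .loop ⟨3,[3,4,3,4,3,4,1,3,4,0,2,0,2,0,2,2,2,0,2,0,2,0,3,0,3,0,3,1],[1,4],2,2,[⟨[(185,false),(206,true),(199,true),(185,true)],157,false,[2,0,2,0,2,2,0,2,2,0,3,3,0,3,1,2]⟩,⟨[(166,false)],57,true,[2,0,3,0,3,0,3,0,2,0,2,0,2,2,0,2,2,2,0,2,0,2,1,2]⟩],[]⟩,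
  .loop ⟨2,[4,2,4,1,2,2,4,3,4,0,2,0,3,0,3,0,3,3,0,2,2,2,0,3,0,3,3,0],[0,1,0,1,0,1],3,4,[⟨[(122,true),(178,true),(122,false)],194,true,[2,0,2,2,0,2,0,3,0,3,3,0,3,0,3,3,0,2,1,2]⟩],[⟨[(102,false),(125,false)],175,true,[2,2,0,2,0,2,2,0,3,3,0,2,2,0,2,0,2,2,2,0,2,0,3]⟩]⟩,
  .loop ⟨4,[3,1,2,1,3,3,3,4,2,0,2,2,2,0,2,0,2,2,0,3,3,0,3,0,2,2,0,2,0],[0,1,0,1,0,1],3,4,[⟨[(166,false)],50,false,[3,0,2,2,2,0,2,2,2,0,2,0,2,0,2,2,1,2]⟩],[⟨[(132,true)],117,false,[3,0,3,3,0,2,2,0,3,0,3,3,0,2,0,3,3,0,2,0,3]⟩]⟩,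
  .loop ⟨5,[3,3,1,3,4,3,4,0,2,2,0,2,0,2,2,0,3,0,3,0,2,0,2,1],[0,1,0,1,0,1],3,4,[⟨[(184,false),(184,false)],210,true,[3,0,2,0,2,0,2,0,3,3,0,3,0,3,3,0,3,0,2,2,0,3]⟩],[⟨[(99,false),(126,false),(99,true)],189,true,[2,0,2,0,2,2,0,2,2,0,3,0,2,2,2,0,2,2,0,2,0]⟩]⟩,
  .loop ⟨4,[1,2,1,2,2,4,2,0,2,2,0,2,0,2,2,0,3,3,0,3],[0,1,0,1,0,1],3,4,[⟨[(132,true),(166,true),(140,false)],169,true,[0,2,0,2,2,0,2,0,3,0,3,0,3,3,0,2,2,1,3,3]⟩],[⟨[(118,true),(132,true),(166,true)],169,true,[3,0,3,3,0,3,0,3,0,2,0,3,3,1,2,2]⟩]⟩,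
  .loop ⟨2,[3,1,2,4,2,2,4,3,4,2,2,0,2,2,0,2,2,2,0,3,0,3,0,2,0,2,2],[4,3,3],1,2,[⟨[(178,true),(122,false),(125,true),(102,false)],194,true,[0,2,0,2,2,0,3,3,0,2,0,2,2,0,2,2,0,3,3,0,2]⟩],[⟨[(125,true),(178,false),(125,false),(125,false),(102,false)],175,true,[0,2,0,2,2,0,2,2,0,3,3,0,3,0,2,2,0,2,2,0,3,3,0]⟩]⟩,
  .loop ⟨4,[3,3,4,3,4,2,2,4,3,0,2,0,3,3,0,2,2,0,2,0,3,0,2,2,0,3,1,2],[0,1,0,1,0,1],3,4,[⟨[(132,false),(132,false),(118,false)],6,false,[2,0,2,0,3,0,3,3,0,2,2,0,3,0,3,3,0,3,0]⟩],[⟨[(132,true),(166,false),(140,false),(118,true)],196,true,[3,3,0,3,0,3,3,0,2,0,2,2,0,2,0,3,0,3,0,3]⟩]⟩,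
  .loop ⟨3,[4,2,4,3,4,3,3,3,4,0,2,0,2,2,0,2,0,3,0,3,0,3,0,2,0,2,0,2,2,1,3,3],[3,3,4],1,2,[⟨[(221,true),(185,false),(185,false),(179,true)],120,false,[0,3,0,2,0,2,0,3,0,2,2,0,2,2,1,3,3]⟩],[⟨[(185,true),(221,true),(185,true),(199,true)],201,true,[3,0,2,0,2,2,0,2,0,3,3,0,3,0,2,0,2,1]⟩]⟩,
  .loop ⟨5,[2,2,4,2,4,3,3,4,2,0,2,0,3,3,0,3,0,3,0,2,1,2],[0,1,0,1,0,1],3,4,[⟨[(126,false),(99,true),(126,true),(99,false)],189,true,[0,2,0,3,0,3,0,3,0,2,0,2,2,0,3,1,3]⟩],[⟨[(99,true),(184,true)],203,true,[0,2,0,3,0,2,2,0,3,0,2,2,0,2,2,0,3,3,0,3,0,3,1]⟩]⟩,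
  .loop ⟨5,[3,4,3,3,4,0,3,0,2,2,2,0,2,2,2,0,2,0,3,3,0],[1,1,3],1,2,[⟨[(99,true),(99,true),(126,true)],203,true,[3,0,3,0,2,2,0,2,0,2,2,0,2,0,3,3,0,2,2,2,1,3]⟩],[⟨[(99,true),(99,true),(126,true)],189,true,[2,2,0,2,2,0,3,0,3,0,3,0,2,0,2,1,2]⟩]⟩,
  .loop ⟨4,[1,2,2,4,3,4,2,0,3,0,3,0,3,3,0,2,2,2,0,3,1,2,2,2],[0,1,0,1,0,1],3,4,[⟨[(166,true),(132,false),(118,false),(140,false)],6,false,[3,3,0,2,2,0,2,0,3,0,3,0,2,2,1]⟩],[⟨[(132,true),(140,true)],153,false,[3,0,2,0,2,0,3,0,2,2,0,3,0,2,2,2,0,2,1]⟩]⟩,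
  .loop ⟨3,[1,3,4,3,4,2,2,0,2,0,2,0,2,2,0,3,3,0,2,2,0,2,0,3,0,3,0,3],[0,1,0,1,0,1],3,4,[⟨[(179,true),(206,false),(185,true)],201,true,[0,2,2,0,2,0,2,2,0,2,2,2,0,2,0,3,0,3,3,1,2,2]⟩],[⟨[(179,false),(221,true),(179,false),(185,false)],120,false,[3,3,0,3,0,2,0,2,0,2,2,0,2,2,2,0,3]⟩]⟩,
  .loop ⟨2,[1,2,1,3,3,4,1,3,4,2,0,3,0,3,3,0,2,0,2,2,0,2,0,2,2,0,3,1,3],[0,1,0,1,0,1],5,6,[⟨[(178,false),(102,false),(122,true)],175,true,[0,2,0,2,0,3,0,3,0,2,0,3,3,0,3,3,0,2,2,2,0,2,0,2]⟩,⟨[(184,false),(99,false)],193,false,[0,2,0,3,3,0,3,0,3,0,3,3,0,2,2,0,2,2,2,1]⟩],[]⟩,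
  .loop ⟨2,[2,2,4,1,2,4,0,2,0,3,3,0,2,0,3,3,0,3,0,2,0,2,0,3,0,3,0,3,0],[0,1,0,1,0,1],3,4,[⟨[(125,true),(122,true)],172,true,[0,2,2,2,0,2,0,3,3,0,2,0,2,2,0,2,2,0,3,3,1]⟩],[⟨[(122,false),(122,false),(125,false),(122,false)],175,true,[0,3,0,3,3,0,2,0,2,2,0,2,2,1,2,2]⟩]⟩,
  .loop ⟨3,[4,2,2,4,2,2,4,2,4,0,3,0,3,3,0,2,2,0,2,0,3,3,0,3,0,2,2,0,3,1,2,2],[0,1,0,1,0,1],3,4,[⟨[(199,false),(221,true),(221,true),(179,false)],201,true,[0,3,3,0,2,0,3,3,0,3,3,0,2,0,2,2]⟩],[⟨[(221,false),(179,false),(206,true),(199,false)],201,true,[0,2,0,2,0,2,0,3,3,0,3,0,3,0,2,0,2,2,2,0,2,1]⟩]⟩,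
  .loop ⟨2,[2,4,2,4,3,3,4,1,3,4,0,3,0,3,0,2,0,2,0,3,0,2,2,0,3,0,3,3,1,3],[0,1,0,1,0,1],5,6,[⟨[(125,false),(125,false),(178,false)],175,true,[0,2,2,2,0,3,0,2,2,0,2,0,2,2,0,3,3,0,3,1,2,2]⟩,⟨[(99,true),(184,false)],193,false,[0,3,0,2,2,2,0,3,0,3,3,0,2,0,2,2,0,2,1,3,3]⟩],[]⟩,
  .loop ⟨3,[4,3,3,4,3,4,2,2,2,0,2,0,3,0,3,3,0,2,2,0,2,0,3,0,3,1,3],[0,1,0,1,0,1],3,4,[⟨[(179,true),(179,true),(221,false)],201,true,[3,0,3,3,0,3,0,2,0,2,2,0,3,3,0,2,0,2,2,1]⟩],[⟨[(221,true),(199,false),(221,true)],120,false,[2,2,0,2,2,0,3,0,3,3,0,3,3,0,2,2,0,2,0,2,1]⟩]⟩,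
  .loop ⟨5,[3,4,3,4,3,4,1,3,4,3,3,0,3,0,3,0,3,3,0,2,2,0,2,0,3,0,3,0,3,0],[0,1,0,1,0,1],5,6,[⟨[(126,true),(99,false),(126,true)],74,true,[2,2,0,2,2,0,3,0,3,0,3,3,0,3,3,0,2]⟩,⟨[(118,true)],196,true,[3,0,2,0,2,0,2,2,0,2,0,2,0,2]⟩],[]⟩,
  .loop ⟨2,[4,3,4,1,3,3,4,0,2,2,0,2,0,2,2,2,0,3,0,3,0,2,2,2,0,3,3,1],[0,1,0,1,0,1],3,4,[⟨[(125,false),(125,false),(122,false),(125,true),(102,false)],233,true,[2,2,0,2,2,0,2,2,0,3,3,0,2,2,0,2,0,2,0,2,2,1,3]⟩],[⟨[(122,false),(125,false),(178,true),(122,true),(102,false)],175,true,[0,2,0,2,0,3,0,3,3,0,3,0,2,0,2,0,3,0,2,2,1,2,2]⟩]⟩]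

/-- reasons -/
def why6 : List Why := [
  .loop ⟨5,[2,4,2,4,3,3,4,0,3,3,0,2,2,0,2,0,3,3,0,3,0,2,2,0],[0,1,0,1,0,1],5,6,[⟨[(184,false),(184,false)],150,false,[2,0,3,0,2,2,0,2,2,0,3,0,3,3,0,2,2,0,2,0,3]⟩,⟨[(126,true),(184,false),(99,false),(126,true)],208,true,[0,3,0,2,2,0,3,0,2,2,2,0,2,0,3,0,3,3,1,2]⟩],[]⟩,
  .loop ⟨5,[1,3,1,3,1,3,3,4,3,3,0,3,3,0,3,3,0,3,0,2,2,0,2,2,0,2,1],[0,1,0,1,0,1],3,4,[⟨[(184,true),(126,false),(184,false),(99,false)],239,true,[2,0,3,0,2,2,0,2,2,0,3,0,3,3,0,2,2,0,2,1,3]⟩],[⟨[(126,true),(99,false),(126,true)],193,false,[3,0,2,0,2,2,0,3,0,3,3,0,2,2,0,2,0,2,2,0,3]⟩]⟩,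
  .loop ⟨5,[3,1,2,4,2,2,4,3,4,0,3,3,0,2,0,2,0,2,0,3,0,2,2,0,2,2,2,0,2,0,3,1],[0,1,0,1,0,1],5,6,[⟨[(184,true),(126,true),(99,false)],193,false,[0,3,0,3,0,3,0,2,2,2,0,3,3,0,3,0,2,2,0,3,0,3,0]⟩,⟨[],187,true,[2,0,2,0,2,0,3,0,3,0,2,2,0,2,0,3,1,2]⟩],[]⟩,
  .loop ⟨5,[2,2,4,3,1,3,4,3,4,3,0,2,2,0,3,3,0,3,0,2,2,0,2,2,0,2,1,2],[0,1,0,1,0,1],3,4,[⟨[(99,true),(99,true),(126,false)],208,true,[2,0,3,0,3,3,0,3,0,2,2,0,2,2,0,2,2,0,2,1,2]⟩],[⟨[(126,true),(184,true),(99,false),(99,false)],189,true,[2,2,0,3,3,0,2,0,2,2,0,3,0,3,3,0,2,2,0,3,3,0,2,2,2]⟩]⟩,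
  .loop ⟨5,[4,3,4,2,4,0,3,0,3,0,2,0,2,0,2,2,2,0,2,2,2,0,2],[0,1,0,1,0,1],3,4,[⟨[(99,true),(99,true)],189,true,[2,0,2,2,0,3,3,0,2,2,0,2,0,2,0,2,2,2]⟩],[⟨[(99,true),(126,true),(99,false)],74,true,[0,2,2,0,2,0,3,0,3,3,0,3,0,2,2,0,2,0,3]⟩]⟩,
  .loop ⟨2,[3,4,3,3,3,4,2,4,2,2,2,0,3,0,2,2,0,3,0,3,3,0,2,0,2,2,0,3],[0,1,0,1,0,1],3,4,[⟨[(102,false),(178,true),(178,true)],233,true,[2,2,2,0,3,0,3,0,3,3,0,2,2,0,2,0,3,0,3,1,2]⟩],[⟨[(102,false),(178,false),(102,false),(122,true)],175,true,[2,0,3,3,0,2,2,0,2,2,0,3,0,3,0,2,0,2,0]⟩]⟩,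
  .loop ⟨2,[3,3,4,2,2,4,2,4,2,0,2,0,2,2,2,0,3,3,0,3,3,0,3,0,3,0,2,2],[0,1,0,1,0,1],3,4,[⟨[(102,false),(125,false),(102,false),(125,true)],233,true,[0,2,0,2,2,0,2,2,2,0,3,3,0,2,0,3,3,0,3,1,2]⟩],[⟨[(125,false),(178,false),(122,false),(102,false)],233,true,[0,2,2,2,0,2,2,2,0,2,0,3,3,0,2,0,2,2,0,3,3,0]⟩]⟩,
  .loop ⟨2,[4,1,3,4,1,3,4,2,2,2,0,2,0,3,3,0,3,3,0,2,0,3,3,0,3,1],[0,1,0,1,0,1],5,6,[⟨[(125,true),(102,false),(125,false),(102,false)],175,true,[0,2,2,0,2,0,3,0,2,2,2,0,2,2,2,0]⟩,⟨[(99,false),(184,true)],182,false,[2,2,0,3,3,0,3,0,3,3,0,2,2,0,2,2,0,3,0]⟩],[]⟩,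
  .loop ⟨2,[4,3,4,3,3,4,3,3,0,2,2,0,2,0,2,0,3,0,3,3,0,2,2],[0,1,0,1,0,1],3,4,[⟨[(178,true),(102,false),(178,false),(125,false)],233,true,[0,2,0,3,0,3,0,3,0,2,0,2,0,2,2,0,3,3,0,2,0,2]⟩],[⟨[(125,true),(178,false),(122,false)],233,true,[0,3,3,0,2,2,0,3,0,3,3,0,2,0,2,2,0,3,0]⟩]⟩,
  .loop ⟨5,[3,4,3,3,4,3,4,3,3,0,2,2,0,2,0,2,2,2,0,3,1],[3,3,4],1,2,[⟨[(126,false),(184,false),(99,false)],239,true,[0,3,0,2,0,3,3,0,3,3,0,3,3,0,2,0,2,2]⟩],[⟨[(99,false),(184,true),(99,false)],189,true,[2,2,0,2,0,2,0,3,0,3,3,0,2,0,2,0,3,1,3]⟩]⟩,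
  .loop ⟨2,[4,1,3,4,0,2,2,0,3,3,0,2,2,0,2,0,3],[0,1,0,1,0,1],3,4,[⟨[(122,false),(178,false),(122,false)],233,true,[0,2,2,0,3,3,0,3,0,2,2,0,2,0,2,0,3,1,3,3]⟩],[⟨[(125,false),(178,false),(122,false)],5,false,[0,2,0,3,3,0,3,0,3,0,2,0,3,3,0,2,0,2,2,1,3]⟩]⟩,
  .loop ⟨5,[4,3,4,2,4,3,3,3,4,0,3,0,2,2,0,2,0,2,0,2,2,0,3,3,0,2,0,2,2],[0,1,0,1,0,1],3,4,[⟨[(184,false),(184,false),(184,false),(126,true)],189,true,[3,0,3,3,0,3,0,2,0,2,0,2,2,0,3,3]⟩],[⟨[(184,false),(184,false),(126,false)],189,true,[2,0,3,0,2,2,0,2,2,0,2,2,0,2,2,1]⟩]⟩,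
  .loop ⟨2,[3,1,3,4,3,4,0,3,3,0,2,2,0,2,2,0,2,0,3,1,2],[0,1,0,1,0,1],3,4,[⟨[(125,true),(178,true),(122,false)],233,true,[0,2,0,2,0,2,2,0,3,3,0,2,2,0,3,3,0,3,3,1,3]⟩],[⟨[(122,true),(102,false),(125,true)],233,true,[2,2,0,3,0,3,0,2,2,2,0,3,0,3,0,2,0,2,0,3]⟩]⟩,
  .loop ⟨5,[3,4,1,3,3,3,4,3,4,0,3,3,0,2,2,0,3,3,0,3,0,3,0,2,0,2,2,2,1,2,2,2],[0,1,0,1,0,1],5,6,[⟨[(99,true),(184,true)],175,false,[2,0,3,0,2,2,0,2,0,3,0,3,3,0,2,0,2,0,3]⟩,⟨[(125,true),(125,true),(178,false),(122,false)],233,true,[2,0,2,0,3,0,3,0,2,2,0,2,2,0,2,2,0,3,1]⟩],[]⟩,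
  .loop ⟨4,[2,4,2,1,3,3,3,4,2,2,0,2,0,2,2,0,2,2,0,2,2,0,3,3,1,3,3],[0,1,0,1,0,1],3,4,[⟨[(118,true)],223,false,[3,0,2,2,2,0,2,2,0,2,0,3,0,2,2,0,3,0,3,0]⟩],[⟨[(132,false),(140,false),(118,true)],88,true,[0,3,0,3,3,0,3,3,0,2,0,2,0,2,0,3,0,2,2,0,3,1,3,3]⟩]⟩,
  .loop ⟨4,[3,3,4,3,0,2,0,2,0,3,0,2,2,0,2,0,3,0,2,2,2,1,2,2],[0,1,0,1,0,1],3,4,[⟨[(118,false),(166,false),(132,false)],6,false,[0,2,0,2,0,3,3,0,3,0,2,0,2,2,0,2,0,3]⟩],[⟨[(166,false),(132,false),(118,true)],153,false,[0,3,3,0,3,0,2,0,2,0,2,2,0,2,2,0,3,0,3,0,2,0,2]⟩]⟩,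
  .loop ⟨2,[2,1,2,4,2,4,3,0,2,2,0,2,2,2,0,2,0,3,3,0,2,0,2],[4,2,4],1,2,[⟨[(178,true),(178,true),(125,true),(102,false)],233,true,[2,0,3,3,0,3,3,0,2,0,3,3,0,2,0,2,2,0,3,0,3]⟩],[⟨[(102,false),(125,false)],233,true,[0,3,3,0,3,3,0,3,0,3,3,0,2,2,0,3,3,0,3,1,3,3]⟩]⟩,
  .loop ⟨4,[4,1,2,1,2,1,2,2,4,0,2,2,0,2,0,3,3,0,3,0,3,0,3,3,0,2,2,2,1],[0,1,0,1,0,1],3,4,[⟨[(166,true),(140,false),(132,true)],196,true,[2,0,2,2,2,0,3,3,0,3,3,1,3,3]⟩],[⟨[(140,false),(132,false),(140,false)],196,true,[3,3,0,3,3,0,3,0,2,0,2,0,2,2,0,2,0,3,0]⟩]⟩,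
  .loop ⟨2,[3,1,3,4,3,4,3,3,0,2,2,0,2,2,0,2,2,0,3,3,0,2,1,3],[4,3,3],1,2,[⟨[(122,true),(102,false),(125,true)],233,true,[0,3,0,3,0,3,0,2,2,0,2,1]⟩],[⟨[(102,false),(125,true),(122,false),(122,false)],175,true,[0,2,0,2,2,0,2,2,0,3,3,0,3,3]⟩]⟩,
  .loop ⟨4,[3,4,3,1,3,3,3,4,2,2,0,2,0,3,0,3,0,2,0,3,3,0,2,2,0],[0,1,0,1,0,1],5,6,[⟨[(140,true),(140,true),(132,false)],153,false,[3,3,0,3,3,0,2,2,0,2,2,2,0]⟩,⟨[(99,true),(184,false),(184,false)],189,true,[2,2,0,3,3,0,3,3,0,2,2,0,2,0,2,0,2]⟩],[]⟩,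
  .loop ⟨2,[1,2,4,1,2,4,2,0,2,2,0,3,0,2,2,0,2,2,0,2,2,1,3],[0,1,0,1,0,1],3,4,[⟨[(125,true),(122,true)],172,true,[0,2,0,2,0,2,2,0,3,0,2,2,0,2,2,0,3,1,2]⟩],[⟨[(125,true),(178,true),(102,false)],5,false,[0,3,0,3,3,0,3,3,0,2,0,2,2,0,3,3,0,2,2,0,2,1,2]⟩]⟩,
  .loop ⟨5,[2,2,4,2,1,3,3,4,0,3,3,0,2,2,2,0,2,0,2,0,2,2,0,2,1],[1,2,2],1,2,[⟨[(126,true),(99,false),(126,false),(99,false)],208,true,[2,2,0,2,0,2,0,3,0,3,3,0,2,2,0,2,0,2,1]⟩],[⟨[(99,false),(126,true),(99,true)],150,false,[3,3,0,2,2,0,3,3,0,3,3,0,3,3,0,2,0,2,1,2]⟩]⟩,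
  .loop ⟨3,[3,4,3,4,3,4,1,3,4,2,2,2,0,2,0,3,3,0,2,0,2,2,0,3,3,0,3,0,2,0,2,2],[0,1,0,1,0,1],3,4,[⟨[(206,true),(179,false),(199,false)],201,true,[2,2,0,2,0,3,3,0,3,0,2,2,0,3,0,2,2,0,3,1,3]⟩],[⟨[(221,false),(206,true),(199,true),(179,true)],201,true,[0,2,2,2,0,2,2,0,2,0,3,0,3,0,2,0,2,0,2,2,2]⟩]⟩,
  .loop ⟨5,[4,2,4,3,3,4,1,3,4,0,2,0,2,0,3,0,3,0,3,0,3,3,0,3,3,0,3,1],[0,1,0,1,0,1],3,4,[⟨[(184,false),(184,false),(184,false),(126,false)],189,true,[0,3,3,0,3,0,3,3,0,2,2,2,0,3,0,3,3,0,2,0,2,2,0,2,0]⟩],[⟨[(184,false),(99,true),(184,false)],208,true,[0,3,0,2,0,3,3,0,2,2,0,2,2,0,2,0,2,0,3]⟩]⟩,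
  .loop ⟨5,[3,3,4,2,2,0,2,2,0,2,0,3,3,0,2,0,2,2,0,3,0,2,2,2],[0,1,0,1,0,1],5,6,[⟨[(184,true),(99,true)],74,true,[0,2,0,2,0,3,3,0,3,0,2,0,2,0,2,2,0,2,2,2,0,2,0,2]⟩,⟨[(140,false),(166,false)],169,true,[0,2,0,3,0,2,2,0,3,0,3,0,3,0,3,3,1,3]⟩],[]⟩,
  .loop ⟨2,[4,3,3,4,2,4,3,3,4,3,0,2,2,0,2,0,3,3,0,2,0,3,3,0,3,0,2,2,0,2,2,0],[0,1,0,1,0,1],3,4,[⟨[(102,false),(125,false)],5,false,[0,2,2,0,3,0,3,3,0,2,2,0,2,0,3,3,1,2,2,2]⟩],[⟨[(125,true),(122,false),(122,false),(102,false)],233,true,[3,0,2,2,0,2,0,2,2,0,3,0,3,3,0,3,0,3,3,0]⟩]⟩,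
  .loop ⟨5,[1,2,4,3,3,4,1,3,4,0,2,0,2,2,0,3,0,3,3,0,2,0,2,0,3,1,3,3],[2,2,1],2,3,[⟨[(99,false),(99,false),(184,false)],150,false,[0,2,2,2,0,3,0,3,3,0,3,0,2,2,2,0,2,2,0]⟩,⟨[(99,false),(184,false),(184,false)],239,true,[2,2,0,2,2,0,3,0,2,2,2,0,2,2,2,0,3,3]⟩],[]⟩,
  .loop ⟨4,[4,3,1,3,3,4,0,3,0,3,3,0,2,2,0,3,3,0,2,2,0,2,2],[0,1,0,1,0,1],3,4,[⟨[(118,false),(140,true),(132,false)],196,true,[0,3,0,2,0,2,2,0,3,0,2,2,0,2,2,0,3,0,3,0,3,0,2]⟩],[⟨[(118,true),(132,false),(118,true),(132,false)],196,true,[2,0,2,0,2,0,3,0,3,0,2,0,2,2,0,2,0,2,2]⟩]⟩,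
  .loop ⟨5,[4,2,2,4,2,2,4,2,4,0,3,3,0,2,0,2,0,2,2,0,3,0,3,3,0,3,0,2,1],[0,1,0,1,0,1],3,4,[⟨[(126,false),(184,false),(126,true)],239,true,[2,2,2,0,3,3,0,2,0,2,2,0,3,3,0,3,3,0]⟩],[⟨[(184,false),(99,true),(126,false),(126,false)],266,true,[3,0,3,0,2,0,2,0,2,0,3,0,3,0,2,0,2,0,3,1]⟩]⟩,
  .loop ⟨3,[3,4,3,4,3,4,3,4,3,0,2,0,3,3,0,2,0,2,2,0,3,3,0,3,3,1,2,2,2],[0,1,0,1,0,1],3,4,[⟨[(206,false),(185,false),(179,true)],201,true,[0,3,0,3,0,2,0,3,3,0,2,2,0,2,0,3,1]⟩],[⟨[(206,true),(221,false),(206,false),(179,true)],120,false,[2,2,2,0,2,0,2,0,3,0,3,0,2,0,2,0,2,1,3,3]⟩]⟩,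
  .loop ⟨4,[3,3,3,4,3,3,4,3,4,0,3,0,3,0,3,0,2,0,3,3,0,2,0,2,2,0,2,2,0,2,1],[0,1,0,1,0,1],5,6,[⟨[(166,true),(140,true),(118,false)],59,true,[0,2,0,3,3,0,2,2,2,0,3,0,3,0,3,0,2,1,2]⟩,⟨[(122,false),(125,false),(122,false),(102,false)],233,true,[2,0,2,0,2,2,0,2,2,0,2,0,2,0,3,0,3,1,2,2,2]⟩],[]⟩,
  .loop ⟨5,[4,2,1,2,1,2,2,4,2,0,2,0,2,2,2,0,3,0,3,0,2,0,2,0,2,0],[0,1,0,1,0,1],3,4,[⟨[(99,true),(184,true),(126,true)],239,true,[2,0,2,2,2,0,2,2,0,3,0,2,2,0,3,0,3,0,3,1]⟩],[⟨[(184,false),(99,true),(184,false)],239,true,[0,2,2,0,2,0,3,0,2,2,0,2,0,3,3,0,2,0,3,3]⟩]⟩,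
  .loop ⟨5,[4,2,1,3,1,3,3,3,4,2,0,3,3,0,2,0,2,2,0,3,3,0,3,0,2,0,2,0,3,0,2,2,0],[2,4,4],1,2,[⟨[(126,true),(184,true)],210,true,[0,2,0,2,0,3,0,3,0,3,3,0,2,2,2,0,2,0,2,2]⟩],[⟨[(126,true),(184,true)],193,false,[3,3,0,2,2,0,2,2,0,3,0,3,3,0,2,0,3,3,0,2,1,3]⟩]⟩,
  .loop ⟨6,[3,1,2,1,3,1,3,3,4,2,0,3,0,2,2,0,2,0,3,3,0,3,0,2,0],[4,3,3],1,2,[⟨[],260,false,[0,3,3,0,2,2,2,0,2,0,3,0,3,0,2,0,3,3,1,3,3]⟩],[⟨[],260,true,[2,0,2,2,2,0,2,2,0,2,0,2,0,3,3,0,3,1,2,2]⟩]⟩,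
  .loop ⟨2,[2,4,3,3,4,3,4,2,0,2,2,0,3,0,3,0,2,0,2,2,2,0,2,2,0,2,0,3,0],[0,1,0,1,0,1],3,4,[⟨[(122,true),(125,true),(102,false)],233,true,[0,3,0,2,0,2,0,3,0,3,0,3,0,2,1,2]⟩],[⟨[(102,false),(125,false),(178,true)],175,true,[2,0,2,0,3,0,2,2,0,3,3,0,3,0,2,2,0,2,0,3]⟩]⟩,
  .loop ⟨2,[1,2,4,3,4,3,3,3,4,0,2,0,2,0,3,0,2,2,0,2,0,2,2,0,3,3,0,2,1,2],[0,1,0,1,0,1],3,4,[⟨[(178,true),(122,false),(178,true)],233,true,[0,2,0,3,0,3,0,2,2,0,2,0,3,0,3,0,2,0,3,3,0,3]⟩],[⟨[(178,true),(125,true),(125,true),(122,false)],175,true,[0,3,0,3,0,3,3,0,3,3,0,3,0,3,0,2,0,2,0,2,1]⟩]⟩,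
  .loop ⟨4,[2,2,4,3,0,3,0,3,0,2,0,2,2,0,2,0,2,2,1],[0,1,0,1,0,1],3,4,[⟨[(132,false),(118,true)],196,true,[3,0,2,0,2,0,3,0,3,0,3,3,0,2,2,0,3,1,2]⟩],[⟨[(118,true),(132,false),(132,false),(118,false)],88,true,[2,0,2,2,0,2,2,0,3,0,3,3,0,2,2,2,1,2]⟩]⟩,
  .loop ⟨4,[4,1,2,1,3,3,4,1,3,4,0,2,2,0,2,0,3,0,2,2,0,3,3,0,3,0,3,0,2,2,2,1],[0,1,0,1,0,1],3,4,[⟨[(140,true),(166,false),(132,false)],169,true,[2,0,2,0,3,3,0,2,0,2,2,0,2,0]⟩],[⟨[(118,false),(132,true),(118,false)],153,false,[0,2,2,0,2,2,2,0,3,3,0,3,0,2,2,0]⟩]⟩,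
  .loop ⟨4,[1,2,2,4,2,4,3,0,3,0,2,2,2,0,2,0,2,2,2,1,2],[0,1,0,1,0,1],3,4,[⟨[(166,false),(118,true)],117,false,[3,0,2,0,2,0,3,0,2,2,2,0,3,3,0,3,0,3,1,2,2,2]⟩],[⟨[(166,true),(140,false),(140,false),(132,true)],6,false,[2,0,2,2,2,0,2,0,2,0,3,0,3,0,3,0,2,1,2,2]⟩]⟩,
  .loop ⟨3,[2,4,2,4,2,4,3,0,2,2,2,0,2,2,0,2,0,2,0,3,0,2,2,1],[0,1,0,1,0,1],3,4,[⟨[(221,true),(179,true),(179,true),(179,true)],201,true,[0,3,0,2,2,0,2,0,3,3,0,3,3,0,2,0,3,3,1,2]⟩],[⟨[(199,true),(185,true)],201,true,[2,0,3,0,2,2,0,3,3,0,3,0,3,0,3,3,0,3,3,0]⟩]⟩]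

/-- reasons -/
def why7 : List Why := [
  .loop ⟨6,[3,1,3,1,3,3,3,4,0,3,0,2,0,2,2,0,3,0,3,0,2,2,2,0,2,0,3,1,3],[4,2,4],0,1,[],[⟨[],182,true,[2,2,0,2,2,0,2,0,2,0,2,2,0,3,3,0,3,0,2,2,0,3,0,2,2]⟩,⟨[(184,true)],154,true,[0,2,2,0,2,0,3,0,3,0,2,2,0,2,0,2,0,3,0,3,0,2,0,3]⟩]⟩,
  .loop ⟨4,[1,3,3,4,3,1,3,3,4,2,2,0,2,2,2,0,3,3,0,3,0,3,0,3,3,0,2,2,0,3,0],[0,1,0,1,0,1],3,4,[⟨[(140,false),(132,false),(132,false)],196,true,[0,2,0,2,2,0,2,0,2,2,0,3,0,3,0,3,0,2,0,2,0,3,3]⟩],[⟨[(166,false),(132,false),(140,false)],88,true,[0,3,3,0,2,2,0,2,2,0,2,0,2,0,2,2,0,2,2,2,0,3,3]⟩]⟩,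
  .loop ⟨4,[2,4,3,4,3,3,3,4,2,2,2,0,2,0,2,0,3,0,3,0,3,0,2,2,0,2,0,2,2,1],[0,1,0,1,0,1],3,4,[⟨[(132,true),(118,false)],196,true,[2,0,3,0,3,0,3,0,2,0,3,3,0,3,0,2,1,2,2]⟩],[⟨[(118,true),(118,true),(140,true)],196,true,[0,2,0,3,0,3,0,2,2,0,2,0,3,0,3,0,2]⟩]⟩,
  .loop ⟨2,[2,2,1,3,3,4,1,3,4,0,2,2,2,0,3,0,3,3,0,2,0,2,0,2,2,0,3,3,0,3,1],[0,1,0,1,0,1],5,6,[⟨[(125,true),(178,true),(122,false),(122,false)],175,true,[3,3,0,2,0,2,0,3,0,3,0,3,0,3]⟩,⟨[(99,true),(184,true)],193,false,[0,2,0,2,0,2,0,2,2,0,2,0,2,2,0,3,3,0,3,0,2,0,2]⟩],[]⟩,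
  .loop ⟨4,[2,2,4,3,1,3,4,3,4,0,2,0,3,0,3,3,0,2,2,0,3,3,0,3,0,3,0,3,3,0],[0,1,0,1,0,1],3,4,[⟨[(140,true),(118,true),(140,true)],196,true,[3,3,0,2,0,3,3,0,2,0,2,0,2,2,0,3,3,0,2,1]⟩],[⟨[(140,false),(166,true),(118,false)],6,false,[2,0,2,2,2,0,3,3,0,3,0,2,0,2,0,3,0,3,1]⟩]⟩,
  .loop ⟨5,[4,3,1,3,3,3,4,3,0,2,0,2,2,0,3,0,3,0,3,0,2,0,3,3,0,2,2,2,0],[2,4,4],1,2,[⟨[(126,false),(99,true),(126,false)],274,true,[3,3,0,2,2,0,2,0,2,0,3,0,3,3,0,2,1,2,2,2]⟩],[⟨[(126,false),(99,false)],150,false,[0,3,0,3,3,0,2,0,2,2,0,2,0,3,3,0,3,0,2,2,0,2,2,1,2]⟩]⟩,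
  .loop ⟨2,[2,2,4,2,4,3,4,0,2,0,2,2,0,2,2,0,2,2,0,2,2,0,2,0,2,2,0],[0,1,0,1,0,1],3,4,[⟨[(122,true),(125,false),(122,false),(125,false)],233,true,[0,2,2,0,2,0,3,0,2,2,0,2,2,0,3,0,3,0,2,0,3,3,0]⟩],[⟨[(125,true),(125,true),(122,false)],5,false,[0,2,0,3,0,3,0,2,2,0,2,0,2,0,2,2,0,2,2,1,2,2]⟩]⟩,
  .loop ⟨3,[1,2,1,3,3,4,1,3,4,0,2,2,0,3,0,3,3,0,3,3,0,3,0,3,0,2,0,3],[0,1,0,1,0,1],3,4,[⟨[(185,false),(179,true),(206,false),(179,false)],201,true,[2,2,0,3,3,0,2,2,0,2,0,3,3,0,2,0,2,2]⟩],[⟨[(221,true),(185,false),(179,false),(179,false)],201,true,[0,3,0,3,3,0,2,2,0,2,0,3,3,0,3,3,0,2,0,2]⟩]⟩,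
  .loop ⟨5,[4,3,3,4,3,4,3,4,2,2,0,2,0,3,0,3,0,2,2,0,2,2,0,2,2,0,3],[2,2,1],1,2,[⟨[(99,false),(126,true),(99,true)],274,true,[0,3,0,2,2,2,0,3,0,3,0,3,3,0,2,2,0,3,3,0,3,0,3]⟩],[⟨[(184,true),(99,true),(126,false),(184,false)],239,true,[3,0,3,0,2,2,2,0,3,3,0,3,0,2,0,2,0,3,3,0]⟩]⟩,
  .loop ⟨2,[4,3,1,2,1,3,1,3,3,4,3,3,0,2,0,3,3,0,3,3,0,2,2,0,2,0,3,3,1],[0,1,0,1,0,1],3,4,[⟨[(122,false),(102,false),(178,true)],233,true,[0,2,0,2,0,2,0,2,2,0,2,2,0,3,0,3,3,1]⟩],[⟨[(178,false),(102,false)],59,false,[0,2,2,2,0,2,2,2,0,3,0,3,0,3,3,0,3]⟩]⟩,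
  .loop ⟨4,[3,3,1,2,2,4,2,4,3,0,2,0,3,3,0,3,0,3,3,0,2,2,0,2,0,3,0,2,2,2,0,3],[0,1,0,1,0,1],3,4,[⟨[(118,true),(140,false),(166,true)],196,true,[2,0,2,2,2,0,2,2,2,0,2,2,2,1,3,3]⟩],[⟨[(166,true),(118,false),(140,false)],88,true,[3,0,3,3,0,3,3,0,2,2,0,2,0,2,0,2,2,2,0,2,2,0]⟩]⟩,
  .loop ⟨4,[2,4,2,4,3,3,4,2,2,0,2,0,3,3,0,2,0,3,3,1,2],[0,1,0,1,0,1],3,4,[⟨[(118,true),(118,true),(166,true),(118,false)],6,false,[0,3,3,0,2,2,0,2,2,0,2,0,3,3,1,2,2,2]⟩],[⟨[(118,true),(132,true),(118,false)],153,false,[2,0,2,2,2,0,3,0,3,0,2,2,2,0,2,0,3,0,3,1,2]⟩]⟩,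
  .loop ⟨3,[4,2,2,4,2,1,3,3,3,4,3,0,3,0,2,0,2,0,2,2,2,0,3,3,0,2,2,0,2],[0,1,0,1,0,1],3,4,[⟨[(221,true),(185,false),(179,true)],201,true,[0,3,3,0,3,0,3,0,2,0,2,2,0,2,2,0,3,1,3]⟩],[⟨[(185,false),(185,false),(179,true)],120,false,[0,3,0,3,0,2,2,0,2,2,0,2,2,0,3,3,0,2,1]⟩]⟩,
  .loop ⟨7,[4,1,3,1,3,1,3,3,4,3,0,3,0,2,0,2,2,0,2,0,3,3,0,3,1],[2,1,2],2,3,[⟨[(151,false)],162,false,[2,0,3,3,0,2,0,2,2,0,2,0,3,0,3,0,2,0,3,3,1,3]⟩,⟨[(132,true),(132,true),(166,true)],196,true,[0,2,2,0,2,2,0,3,0,3,0,2,0,2,2,2,0,3,1,2]⟩],[]⟩,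
  .loop ⟨4,[3,3,4,1,3,4,3,4,0,3,0,2,0,3,3,0,2,0,2,2,0,3,0,3,3,0,2,2,0,3,3,1,2],[0,1,0,1,0,1],3,4,[⟨[(140,false),(140,false),(166,true)],196,true,[0,2,0,3,3,0,3,3,0,3,0,3,0,3,3,0,2,2,2,0,3,0,2,2,0]⟩],[⟨[(166,false),(118,false),(140,true)],6,false,[0,2,2,2,0,3,0,2,2,0,3,0,2,2,2,0,2,2,2]⟩]⟩,
  .loop ⟨5,[2,4,3,4,1,3,3,4,0,2,0,2,2,2,0,2,0,3,0,3,3,0,3,0,2,2,0,3,0],[0,1,0,1,0,1],3,4,[⟨[(99,false),(99,false)],274,true,[3,0,2,2,0,3,0,3,3,0,3,3,0,2,2,0,3,3,0,2,2,1]⟩],[⟨[(99,true),(184,false)],189,true,[0,2,0,2,0,2,0,3,0,3,3,1,3,3]⟩]⟩,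
  .loop ⟨4,[4,3,3,1,3,4,3,4,0,2,2,2,0,3,1,2,2,2],[0,1,0,1,0,1],3,4,[⟨[(118,false),(118,false)],196,true,[0,2,0,2,2,2,0,3,3,0,2,0,2,2,0,2,0,2,1,3]⟩],[⟨[(118,false),(140,false),(132,true)],6,false,[0,2,0,3,3,0,2,2,0,2,2,0,2,2,0,3]⟩]⟩,
  .loop ⟨3,[1,2,1,3,3,3,4,0,2,2,0,2,0,3,0,2,2,0,2,2,2,1],[0,1,0,1,0,1],5,6,[⟨[(221,false),(185,false),(179,true)],120,false,[2,2,0,2,0,2,0,2,2,2,0,2,2,0,2,1,2,2,2]⟩,⟨[(140,false),(118,true)],228,false,[2,0,3,3,0,3,3,0,3,0,2,2,2,1]⟩],[]⟩,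
  .loop ⟨4,[4,2,4,1,3,3,4,2,2,0,2,2,0,3,0,2,2,0,2,2,0,2,2,0,3,0,3,0,3],[0,1,0,1,0,1],3,4,[⟨[(166,true),(118,false),(166,true)],196,true,[2,0,2,2,2,0,2,2,0,2,0,3,0,2,2,0,3,0,3,1]⟩],[⟨[(132,false)],228,false,[3,0,3,0,3,3,0,2,2,0,2,0,3,0,3,0,3,0,2,2,0]⟩]⟩,
  .loop ⟨3,[2,1,3,3,3,4,2,2,0,2,2,0,3,0,2,2,0,3,0,3,3,0,2,0,2,2,0,2,2,0],[0,1,0,1,0,1],3,4,[⟨[(179,true),(221,false),(199,false),(179,false)],297,true,[3,3,0,3,0,2,2,0,2,2,0,3,3,0,2,2,0,2,0,2,1,3]⟩],[⟨[(199,false),(206,false),(185,true)],297,true,[2,2,2,0,2,2,2,0,2,2,2,0,2,0,3]⟩]⟩,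
  .loop ⟨2,[4,2,4,3,1,3,4,2,0,3,0,3,0,3,3,0,2,0,2,2,0,2,0,2,2,1],[4,4,2],1,2,[⟨[(178,false)],233,true,[3,3,0,2,0,2,2,0,3,0,3,3,0,2,2,0,3,3,0,3,0,2,2,2]⟩],[⟨[(178,false),(125,false),(122,true)],175,true,[0,2,0,3,0,3,0,2,2,2,0,2,2,0,2,0,3,3]⟩]⟩,
  .loop ⟨5,[3,4,3,3,3,4,0,2,0,2,0,3,3,0,2,0,3,3,0,3,3,0,2,0,2,2,2,1,3],[0,1,0,1,0,1],5,6,[⟨[(126,false),(184,false),(126,false),(126,false)],150,false,[2,0,2,0,3,0,3,0,2,2,2,0,2,0,3,3,0,2,0,3]⟩,⟨[(126,false),(184,false),(126,true)],189,true,[2,0,2,2,0,3,0,3,0,2,0,3,3,0,3,0,2,2,1,2,2]⟩],[]⟩,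
  .loop ⟨4,[4,2,2,4,3,4,0,2,0,2,0,2,2,0,2,2,0,2,2,0,3,0,3,0,2],[0,1,0,1,0,1],3,4,[⟨[(166,true),(132,false)],196,true,[2,2,0,2,0,3,3,0,3,3,0,2,2,0,2,2,0,3,3]⟩],[⟨[(118,false),(166,true)],88,true,[0,2,2,0,3,3,0,3,0,2,2,0,2,2,0,2,0,2,0]⟩]⟩,
  .loop ⟨3,[4,1,3,1,3,4,3,3,4,0,2,0,2,0,3,3,0,3,0,2,2,0,2,2,0,2,0,3,3,0,2,1],[0,1,0,1,0,1],3,4,[⟨[(221,false),(199,false),(179,false)],297,true,[2,0,2,0,3,0,3,0,2,2,2,0,2,0]⟩],[⟨[(206,false),(199,false),(206,true)],120,false,[3,0,2,0,2,0,3,3,0,3,0,3,0,3,3,0,2,2,1]⟩]⟩,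
  .loop ⟨4,[3,4,3,4,1,3,4,2,2,0,2,0,2,2,0,2,0,3,3,0,3,0,2,0,2,2,0],[0,1,0,1,0,1],5,6,[⟨[(118,false),(140,false)],153,false,[0,2,0,2,0,3,3,0,3,3,0,3,0,2,2,0,3,0,2,2,0,2,1]⟩,⟨[(99,false),(126,true)],274,true,[0,2,0,2,0,3,3,0,3,0,3,3,0,3,0,2,2,0,3,0,3,3,0,2]⟩],[]⟩,
  .loop ⟨3,[1,3,3,4,2,4,2,4,2,4,0,3,0,3,0,2,0,3,3,0,3,3,0,2,0,2,2,0,2,0,3,1,2],[1,1,3],1,2,[⟨[(221,false),(179,false),(199,false),(179,false)],297,true,[0,2,2,0,2,0,3,3,0,3,0,2,0,2,0,3,0,3,3,0,3,0]⟩],[⟨[(221,true),(179,true),(206,false),(179,false)],120,false,[2,0,2,0,2,0,2,2,0,2,0,3,0,3,3,0,2,0,2,2,1,2,2]⟩]⟩,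
  .loop ⟨5,[4,3,3,4,3,4,2,2,0,2,2,2,0,3,0,3,0,2,2,2,0,3],[0,1,0,1,0,1],5,6,[⟨[(126,false),(99,true),(126,true),(99,true)],150,false,[2,0,3,3,0,2,0,2,2,0,3,3,0,2,2,0,2,2,0,2,2,0]⟩,⟨[(184,false),(184,false)],193,false,[2,0,2,0,2,2,0,3,0,3,0,2,0,2]⟩],[]⟩,
  .loop ⟨4,[4,2,1,2,1,2,2,4,2,0,3,3,0,2,2,0,2,0,3,0,3,0,2,0,2,2,2,0,2],[0,1,0,1,0,1],3,4,[⟨[(166,true)],117,false,[2,0,2,2,0,2,0,2,1,2,2,2]⟩],[⟨[(132,false)],6,false,[2,0,3,3,0,2,2,0,3,3,0,3,0,3,3,0,2]⟩]⟩,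
  .loop ⟨3,[3,4,2,4,3,3,4,0,3,0,3,3,0,2,0,2,2,2,0],[0,1,0,1,0,1],3,4,[⟨[(179,false),(221,false),(179,false),(206,false)],297,true,[0,3,0,3,3,0,2,0,2,2,0,2,0,2,0,2,2,2,0,2,2,0,2,0]⟩],[⟨[(179,false),(185,false),(179,false)],120,false,[0,3,0,2,0,2,0,2,0,3,3,0,3,0,3,0,2,0,2,0,3]⟩]⟩,
  .loop ⟨3,[2,4,1,3,3,4,3,4,0,2,2,0,3,0,3,0,3,3,0,2,2,0,2,2,0,3,1,2],[1,2,2],1,2,[⟨[(199,false),(185,false),(206,true)],297,true,[0,3,0,3,0,3,0,2,0,2,2,2,0,2,0,3,0,3,0,3,3,0,2,2]⟩],[⟨[(199,false),(206,true),(179,true)],120,false,[3,0,3,0,2,2,0,2,0,2,2,2,0,3,0,3,3,1]⟩]⟩,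
  .loop ⟨5,[1,2,4,3,3,0,2,2,2,0,2,2,0,2,0,2,0,2,2,0,2,2,0,2],[0,1,0,1,0,1],3,4,[⟨[(126,false),(184,true),(184,true),(99,true)],239,true,[3,3,0,2,0,2,0,3,0,2,2,0,3,3,0,3,3,0,2,2,1,3]⟩],[⟨[(126,false),(99,true),(184,true)],154,true,[2,2,2,0,3,0,3,0,3,3,0,2,2,0,2,2,1,3,3]⟩]⟩,
  .loop ⟨2,[4,2,1,3,3,4,1,3,4,3,0,3,0,2,0,3,3,0,2,2,2,0,2,2,1],[0,1,0,1,0,1],3,4,[⟨[(178,true),(102,false)],5,false,[0,2,0,3,3,0,3,0,3,3,0,2,2,0,2,0,3,3,0,3,3,0,3,3]⟩],[⟨[(125,true),(122,false),(178,false),(102,false)],233,true,[3,3,0,3,0,3,0,3,3,0,2,2,0,3,0,3,3,0,3,3,0,2]⟩]⟩,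
  .loop ⟨6,[3,4,2,4,2,4,2,4,0,3,0,2,2,0,2,2,0,3,0,3,0,2,0,3,3,0,3,1,3],[0,1,0,1,0,1],1,2,[],[⟨[],203,false,[2,0,2,0,2,2,2,0,2,2,0,2,0,3,0,3,0,2,1]⟩,⟨[(99,true),(126,false),(184,false)],274,true,[0,2,0,2,0,2,2,0,3,0,3,0,2,0,3,3,0,2,2,0,2,1]⟩]⟩,
  .loop ⟨2,[3,3,4,3,4,1,3,3,3,4,3,0,2,0,2,2,0,2,0,3,0,3,0,3,3,0,2,0,3],[0,1,0,1,0,1],3,4,[⟨[(178,true),(125,true)],5,false,[0,2,0,3,0,2,2,2,0,3,0,2,2,0,3,0,3,3,0,2,2,0]⟩],[⟨[(125,false),(178,true)],233,true,[0,2,0,3,3,0,2,0,2,2,0,3,3,0,3,0,2,2,2,0,2]⟩]⟩,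
  .loop ⟨4,[2,2,1,3,3,4,3,4,3,0,2,2,0,3,0,3,3,0,2,0,2,2,0,2,0,3,3,0,2,2],[0,1,0,1,0,1],3,4,[⟨[(166,false),(140,false),(166,false)],308,true,[3,3,0,3,0,2,0,2,0,3,0,3,0,3,3]⟩],[⟨[(118,false),(132,true),(166,true),(118,false)],308,true,[2,0,3,0,2,2,2,0,2,0,3,0,3,0,3,3,0,3,0]⟩]⟩,
  .loop ⟨3,[4,3,4,2,2,4,0,3,3,0,2,2,0,2,0,3,3,0,3,0,3,3,0,3,0],[0,1,0,1,0,1],3,4,[⟨[(199,true),(206,true),(221,false),(179,false)],297,true,[0,2,2,0,2,2,0,2,0,3,0,2,2,0,2,2,0,3,1,2,2]⟩],[⟨[(206,true),(206,true),(199,true)],120,false,[2,0,3,3,0,2,0,2,2,0,2,0,3,0,2,2,0,3,1,2,2,2]⟩]⟩,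
  .loop ⟨5,[4,1,2,4,1,2,2,4,3,0,3,0,2,2,0,2,2,0,2,0,3,0,3,0,3,3,0,3,1,2],[0,1,0,1,0,1],5,6,[⟨[(184,false),(184,false),(126,true),(99,false),(99,false)],150,false,[2,0,2,0,3,0,3,3,0,2,2,2,0,2,2,0,2,0,3,0]⟩,⟨[(184,false),(99,true),(126,false),(126,false)],239,true,[0,2,0,3,0,2,2,0,2,2,0,2,2,0,2,2,0,3,1,3,3]⟩],[]⟩,
  .loop ⟨4,[1,3,4,3,1,3,4,3,3,4,2,0,2,0,3,0,2,2,0,3,3,0,3,0,3,0,2,1,2,2,2],[0,1,0,1,0,1],3,4,[⟨[(132,false),(166,true)],308,true,[2,0,3,0,3,0,2,2,0,2,2,0,2,2,0,2,0,2,1,2]⟩],[⟨[(132,true),(140,true),(166,true)],6,false,[3,0,2,2,0,2,2,0,2,0,2,0,2,2,0,2,2,2]⟩]⟩,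
  .loop ⟨3,[1,3,4,3,3,4,0,2,2,2,0,3,3,0,3,3,0,2,1,3],[0,1,0,1,0,1],3,4,[⟨[(206,true),(221,false),(221,false)],297,true,[2,0,3,0,2,2,0,2,2,0,3,0,3,3,0,2,2,0,3,1,3]⟩],[⟨[(221,true),(179,false),(185,false)],120,false,[0,2,0,3,0,2,2,0,3,0,3,3,0,2,2,2]⟩]⟩,
  .loop ⟨6,[3,1,3,4,1,3,3,4,0,3,0,2,2,0,3,0,2,2,0,3,0,3,3,0,2,0,3,3],[3,3,4],0,1,[],[⟨[],316,false,[0,2,0,3,3,0,3,0,3,3,0,2,2,2,0,2,2,0,3,0,2]⟩,⟨[(126,false),(99,true),(184,true),(126,true)],150,false,[3,0,3,3,0,3,0,2,2,2,0,2,0,2,0,2,2,2,0,2]⟩]⟩]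

/-- reasons -/
def why8 : List Why := [
  .loop ⟨5,[4,2,4,3,3,4,2,2,2,0,3,0,3,3,0,3,0,2,0,2,0,2,2,0,2,1,2],[0,1,0,1,0,1],3,4,[⟨[(126,true),(99,false),(126,false),(99,false)],274,true,[3,0,2,2,0,3,0,3,3,0,2,2,0,3,3,0,3,3,0,2,1]⟩],[⟨[(126,false),(99,true),(184,true)],150,false,[3,3,0,3,0,2,0,2,2,0,2,0,2,0]⟩]⟩,
  .loop ⟨4,[1,2,1,3,3,4,3,4,0,3,0,2,0,2,0,3,3,0,3,0,3,0,2,0,2,0,2,2,2],[0,1,0,1,0,1],3,4,[⟨[(166,true),(140,false),(132,false)],6,false,[2,0,2,0,2,2,2,0,2,2,0,2,0,3,3,0,2,0,2,2,0,3]⟩],[⟨[(118,true),(118,true),(132,true)],318,true,[2,2,0,2,0,2,2,0,2,0,3,0,2,2,2,0,3,3,0,2,0]⟩]⟩,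
  .loop ⟨4,[2,1,2,1,3,3,3,4,3,0,3,0,2,2,0,2,0,3,0,3,0,3,3,1,3,3],[4,4,2],1,2,[⟨[(132,false),(132,false),(118,false)],304,true,[3,0,2,2,0,3,0,2,2,0,2,0,3,0,3,0,2,0,2]⟩],[⟨[(132,false),(118,true),(132,false)],156,true,[2,2,0,2,0,3,0,3,3,0,3,3,0,3,3,1]⟩]⟩,
  .loop ⟨3,[3,3,3,4,2,2,4,2,4,2,2,0,2,2,2,0,2,0,2,0,2,2,0,2],[0,1,0,1,0,1],3,4,[⟨[(179,true),(221,true),(185,true),(179,false)],297,true,[2,0,3,3,0,3,0,2,2,0,2,2,0,3,3,0,3,0,2,2,1,2]⟩],[⟨[(185,false),(206,false)],297,true,[0,3,3,0,3,0,2,0,2,0,3,0,3,0,2,0,2,2]⟩]⟩,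
  .loop ⟨3,[3,1,2,1,3,1,3,3,4,0,3,0,3,0,2,2,0,2,0,3,3,0,3,3,0,3,0,2,2,0,3,0],[0,1,0,1,0,1],3,4,[⟨[(185,false),(221,true)],297,true,[0,3,3,0,3,3,0,3,3,0,3,0,2,2,0,3,0,2,2,1,2]⟩],[⟨[(185,true),(179,false),(199,false)],120,false,[0,3,3,0,3,3,0,3,0,3,3,0,2,2,0,3,0,2,2,1]⟩]⟩,
  .loop ⟨4,[4,2,2,4,2,1,3,3,3,4,0,2,2,0,2,2,0,2,0,2,2,0,3,3,0,2,2,0,3,3,0],[4,3,3],1,2,[⟨[(140,false),(118,false),(166,false)],318,true,[2,2,0,2,0,2,2,2,0,3,0,3,0,2,2,2,0,2,0,3,0]⟩],[⟨[(166,false),(140,true),(118,true)],6,false,[0,2,2,0,2,2,0,2,2,0,3,0,3,3,0,3,0]⟩]⟩,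
  .loop ⟨5,[3,3,4,3,4,3,4,3,4,0,3,0,3,0,3,3,0,2,0,3,3,0,2,0,2,0,2,2,1,2],[4,2,4],2,3,[⟨[(126,false),(99,true),(126,false),(99,false)],274,true,[2,2,0,2,0,2,2,2,0,3,0,2,2,0,2,2,1]⟩,⟨[],294,false,[2,0,3,0,2,2,0,2,0,3,0,2,2,0,3,0,3,3,0,2,1,3]⟩],[]⟩,
  .loop ⟨5,[4,1,3,1,3,3,4,2,0,3,3,0,2,0,2,2,2,0,2,2,0,3,0,2,2,2,1],[4,2,4],2,3,[⟨[(126,true),(184,false),(99,true)],183,false,[2,2,0,2,0,3,3,0,3,0,2,0,2,0,2,0,2,2]⟩,⟨[],193,false,[3,0,2,2,0,3,3,0,3,3,0,2,0,3,3,0,2,1]⟩],[]⟩,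
  .loop ⟨4,[4,3,4,3,4,3,4,3,3,0,2,2,2,0,3,0,3,0,2,0,2,2,0,2,1],[0,1,0,1,0,1],3,4,[⟨[(140,true),(132,true),(166,false),(118,false)],318,true,[0,3,0,2,2,2,0,2,2,0,2,2,0,3,0,3,3,0,3,3,1,3,3]⟩],[⟨[(140,true),(118,false),(132,false)],304,true,[2,0,2,0,2,0,3,0,3,3,0,3,3,0,3,3,0,2,2,2,0]⟩]⟩,
  .loop ⟨3,[4,3,1,3,3,4,0,3,0,3,0,2,0,2,0,2,2,0,2,0,3,0,3,0,3,3],[0,1,0,1,0,1],3,4,[⟨[(206,false),(199,false),(199,false),(179,true)],297,true,[2,0,2,2,0,2,0,3,3,0,2,0,2,2,0,3,0,3,1,3,3]⟩],[⟨[(179,false),(221,true),(185,true)],297,true,[2,0,3,3,0,3,0,3,0,2,0,2,2,0,3,3,0,2,0]⟩]⟩,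
  .loop ⟨4,[3,4,2,4,3,3,3,4,0,2,0,3,0,3,3,0,2,0,3,3,0,2,0,2,2,1,2,2],[0,1,0,1,0,1],3,4,[⟨[(140,true),(118,false)],304,true,[0,3,0,3,0,2,2,2,0,3,0,3,0,3,0,2,2,1]⟩],[⟨[(140,true),(166,true),(118,false),(118,false)],318,true,[3,0,3,0,3,0,2,2,0,3]⟩]⟩,
  .loop ⟨6,[3,3,4,2,1,3,3,4,0,2,2,2,0,2,2,0,2,2,0,2,2,0,2,0,3,0,3,0],[0,1,0,1,0,1],5,6,[⟨[],318,false,[2,2,2,0,3,0,3,0,3,3,0,3,0,2,0,2,0,3,0,3]⟩,⟨[(132,true),(132,true),(140,true)],318,true,[0,2,0,3,3,0,2,2,0,2,2,0,3,3,0]⟩],[]⟩,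
  .loop ⟨5,[1,3,4,3,4,1,3,3,4,2,2,0,2,0,3,0,3,3,0,3,0,2,2,2,0,2,0,2,1],[1,2,2],2,3,[⟨[(184,true),(126,true),(99,false),(99,false)],150,false,[2,0,2,0,3,0,2,2,2,0,2,2,0,3,0,3,3,0,3,0]⟩,⟨[(184,true),(99,false),(184,true),(126,true)],189,true,[2,0,2,0,3,0,3,0,2,2,2,0,2,0,3,3,0,2,0,2,2,0]⟩],[]⟩,
  .loop ⟨6,[2,4,3,0,2,2,0,3,3,0,3,0,3,0,3,3,0,3,3,1,2],[3,1,1],3,3,[⟨[],201,false,[2,0,2,0,3,0,3,0,3,0,2,2,0,2,0,2,2,0,2,2,0]⟩,⟨[(179,false),(206,true),(199,true),(179,true)],120,false,[0,2,0,2,2,0,2,0,2,2,0,3,3,0,3,0,3,3,0,3,0,2,2,1,3]⟩,⟨[],228,false,[0,2,2,2,0,3,0,3,3,0,3,0,2,0,2,0,2,2,0,2,1,2,2]⟩],[]⟩,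
  .loop ⟨5,[4,3,3,3,4,2,4,2,2,2,0,3,3,0,2,0,2,2,2,0,3,0,3,3,1,2],[0,1,0,1,0,1],3,4,[⟨[(99,true),(99,true),(126,false)],239,true,[0,2,2,0,2,2,0,2,2,0,3,0,3,3,0,3,3,0,3,3,1,3]⟩],[⟨[(126,true),(184,true),(99,false),(99,false)],239,true,[3,3,0,2,2,0,2,0,3,0,2,2,0,3,0,3,3,0,3,0]⟩]⟩,
  .loop ⟨2,[4,3,1,3,4,1,3,3,4,3,0,2,2,2,0,3,0,3,0,3,3,0,3,1,2],[0,1,0,1,0,1],3,4,[⟨[(102,false),(125,false),(125,false),(122,false)],233,true,[3,0,2,2,2,0,2,0,2,0,3,0,3,3,0,3,3,0,2,1]⟩],[⟨[(102,false),(125,true),(178,false),(122,true),(102,false)],233,true,[0,3,0,3,0,3,3,0,2,0,2,2,0,3,3,0,3,3,0,3]⟩]⟩,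
  .loop ⟨5,[2,1,3,4,3,4,3,0,2,2,0,2,0,3,0,3,0,3,3,0,3,0],[0,1,0,1,0,1],3,4,[⟨[(126,false),(184,true),(126,false),(99,false)],274,true,[2,2,0,2,0,2,0,2,2,0,3,3,0,3,0,2,0,2,2,1,2]⟩],[⟨[(126,false),(99,false),(126,true),(99,false)],150,false,[0,2,2,0,3,0,3,3,0,3,0,3,0,2,0,2,2,2,1,2,2]⟩]⟩,
  .loop ⟨5,[4,3,1,3,4,3,3,4,0,3,0,2,0,2,2,0,2,0,3,3,0,3,0,3,0,2,0,2,2,2,0,3,3],[0,1,0,1,0,1],5,6,[⟨[(184,true),(126,true),(99,false)],183,false,[2,2,0,2,0,3,0,3,0,3,3,0,3,0,2,2,1,3]⟩,⟨[(126,true),(126,true)],189,true,[0,2,2,2,0,3,3,0,3,0,3,0,3,3,0,3,0,2,1,2,2]⟩],[]⟩,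
  .loop ⟨2,[2,1,3,3,4,1,3,4,0,2,2,0,2,2,2,0,2,0,3,0,3,0,2,2],[0,1,0,1,0,1],3,4,[⟨[(125,false),(125,false),(102,false)],172,true,[0,3,3,0,2,0,2,0,2,0,3,0,3,3,0,3,1,2]⟩],[⟨[(102,false),(178,true),(178,true),(125,false)],175,true,[0,3,0,3,0,3,0,2,0,3,3,0,3,0,3,3,0,2,2,0,3,1,3]⟩]⟩,
  .loop ⟨7,[1,3,3,4,3,1,3,3,4,2,2,2,0,2,2,0,2,0,2,2,2,0,2,0,2,0,3],[0,1,0,1,0,1],6,6,[⟨[],155,false,[0,2,2,0,2,2,0,3,0,2,2,2,0,2,2,0,2,0,2]⟩,⟨[(99,true),(126,false),(99,false)],153,true,[0,2,0,2,2,0,2,0,3,3,0,3,0,2,2,0,3,0,2,2,2,0,3,0]⟩,⟨[],6,false,[2,0,2,0,2,0,3,0,2,2,0,2,0,3,3,0,3,3,0,2,2,0,2,1]⟩],[]⟩,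
  .loop ⟨5,[3,4,3,3,4,2,0,2,2,2,0,2,2,0,2,0,2,0,3,0,3,0,3,3,0,2,1],[0,1,0,1,0,1],5,6,[⟨[(99,false),(126,true),(184,true),(99,true)],189,true,[2,2,0,2,2,0,3,3,0,2,2,0,2,0,3,3,0,2,0,2,2,1]⟩,⟨[(339,true),(339,true),(151,false),(339,false),(339,false),(339,false),(151,false)],220,false,[2,2,0,3,0,2,2,0,2,0,2,2,0,3,3,1,3,3]⟩],[]⟩,
  .loop ⟨3,[1,3,3,4,3,0,2,2,0,2,0,3,3,0,2,0,2,2,0,3,3,0,2,0,3,3],[0,1,0,1,0,1],3,4,[⟨[(206,true),(179,true),(221,false),(179,false)],297,true,[2,2,0,3,0,3,3,0,3,0,2,2,0,2,2,0,2,2,0,3,3,1]⟩],[⟨[(199,false),(179,true),(206,false)],120,false,[3,3,0,2,2,0,2,0,2,0,3,0,3,0,2,0,2,0,2,0,3,0,3]⟩]⟩,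
  .loop ⟨6,[3,4,3,4,3,3,4,0,2,2,0,2,2,2,0,3,3,0,3,0,3,0,3,3,0,3,3,1,2],[2,4,4],3,3,[⟨[],274,false,[0,2,0,2,2,0,3,3,0,3,0,3,0,2,2,2,0,3,3,0,2,1,3]⟩,⟨[(126,true),(99,false),(99,false)],150,false,[2,2,0,3,3,0,3,3,0,2,0,3,3,0,3,0,2,2]⟩,⟨[(99,false),(184,false),(184,false)],239,true,[0,2,0,2,0,2,0,3,0,2,2,0,2,0,3,3,0,3,3,0,3,1,2]⟩],[]⟩,
  .loop ⟨7,[1,2,4,3,3,4,0,2,0,3,3,0,2,2,0,2,0,2,0,3,0,2,2,0,2,0,3,0,2,2],[4,2,4],3,3,[⟨[(339,true),(151,false),(339,false),(151,false),(339,true),(339,true),(151,false)],220,false,[3,3,0,3,3,0,3,0,3,3,0,2,2,0,3,3,0,2,2]⟩,⟨[(333,false)],250,false,[2,0,3,3,0,3,0,3,0,3,3,0,3,3,0,2,2,2,0]⟩,⟨[(342,false),(342,false)],135,false,[2,2,0,3,0,2,2,0,2,0,3,3,0,3,0,2,0,2,1]⟩],[]⟩,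
  .loop ⟨6,[3,3,1,2,2,4,2,4,3,0,2,2,0,2,0,2,2,0,2,0,3,0,2,2,0,3,1,2],[1,1,3],3,3,[⟨[(333,true)],203,false,[0,2,0,3,0,3,0,2,0,3,3,0,3,0,2,0,2,0,3,1,2,2,2]⟩,⟨[(184,true),(184,true),(99,true),(99,true)],150,false,[2,2,0,2,0,2,2,2,0,3,0,3,3,0,2,0,2,2,0,3,0]⟩,⟨[(99,true),(99,true),(126,false)],274,true,[2,0,3,0,3,0,3,3,0,2,2,2,0,2,0,2,2,0,3]⟩],[]⟩,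
  .loop ⟨6,[4,1,3,1,3,1,3,3,4,3,3,0,3,3,0,3,3,0,3,0,3,0,2,0,2,2,2,0,2,0],[0,1,0,1,0,1],5,6,[⟨[(344,false),(333,false),(344,false),(333,true)],250,true,[3,0,3,3,0,3,0,3,0,2,0,2,2,2,0,2,2,2,0,3,1]⟩,⟨[(344,false),(333,true)],7,false,[3,0,2,0,2,0,3,0,2,2,0,3,0,2,2,2,0,2,0,3]⟩],[]⟩,
  .loop ⟨8,[4,2,2,4,3,3,4,2,0,3,0,2,2,0,3,0,2,2,2,0,3,0,3,0,2,0,2,1,2],[0,1,0,1,0,1],1,2,[],[⟨[],345,false,[2,0,2,2,0,2,0,3,0,3,0,2,0,2,2,0,2,1,3]⟩,⟨[(342,false),(342,false),(344,false),(333,false),(344,false)],252,true,[3,0,3,3,0,2,0,3,3,0,2,0,2,2,0,3,3,0,3,0,3]⟩]⟩,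
  .loop ⟨6,[4,1,2,4,2,2,2,0,2,0,2,0,2,2,2,0,3,0,2,2,2,1],[2,4,4],2,3,[⟨[(344,false),(342,false)],273,false,[0,2,0,3,0,3,3,0,2,0,2,0,3,0,2,2,1,2,2,2]⟩,⟨[(333,false)],7,false,[2,0,2,0,2,2,0,3,3,0,3,0,2,0,2,2,0,2,1]⟩],[]⟩,
  .loop ⟨8,[2,4,3,1,3,3,4,2,2,0,2,0,3,3,0,3,0,3,3,0,3,0,2,0,2,0,3,0],[1,3,1],0,1,[],[⟨[],346,false,[2,2,0,2,0,2,0,3,0,3,0,2,0,3,3,0,2,1,2]⟩,⟨[(344,false)],273,false,[2,2,0,2,0,2,2,2,0,2,0,2,0,2,2,0,2,2,2]⟩]⟩,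
  .loop ⟨8,[4,2,2,4,3,3,4,0,3,0,3,0,3,0,2,0,2,2,0,3,0,3,3,0,3,0,3,0,2,2],[4,4,2],0,1,[],[⟨[],345,false,[3,0,2,0,2,0,2,2,0,2,0,3,3,0,3,1,2,2]⟩,⟨[(344,false),(333,false)],260,false,[0,3,0,3,0,3,0,3,3,0,2,2,1,2,2]⟩]⟩,
  .loop ⟨8,[1,3,1,3,3,4,0,2,2,0,3,0,3,0,2,0,2,2,2,1,2],[0,1,0,1,0,1],6,6,[⟨[],7,true,[0,3,3,0,3,0,2,2,0,3,0,2,2,2,0,2]⟩,⟨[(342,true),(344,false),(342,true)],246,false,[0,2,0,3,0,3,0,3,0,2,0,2,0,2,0,3,0,3,1,2]⟩,⟨[(344,false)],7,false,[0,2,0,2,2,0,3,3,0,3,0,3,3,0,3,0,2,2,0,2,0,2,2,2,1]⟩],[]⟩,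
  .loop ⟨8,[2,4,3,3,4,1,3,4,0,2,0,3,0,3,0,3,0,3,3,0,3,0,2,2,0,2,0,3],[0,1,0,1,0,1],5,6,[⟨[(350,false),(350,false),(350,false),(350,false),(350,false),(350,false)],347,false,[0,3,3,0,2,2,0,2,2,0,3,0,3,3,0,2,2,0,2,2,1,2]⟩,⟨[(333,true)],7,false,[0,3,0,2,2,0,2,2,0,3,0,3,0,3,0,2,0]⟩],[]⟩,
  .loop ⟨8,[3,1,2,2,4,1,2,4,0,3,0,2,2,0,3,0,3,3,0,3,0,3,0,2,1,2],[0,1,0,1,0,1],1,2,[],[⟨[(350,false),(350,false),(350,false),(350,false),(350,false),(350,false)],346,false,[2,2,0,2,2,0,3,3,0,2,2,0,2,0,3,3,0,2,2]⟩,⟨[(344,false),(342,false),(344,false),(333,false)],246,false,[3,3,0,3,3,0,3,0,3,0,2,0,2,0,2,0,3,0,3,0,2,0]⟩]⟩,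
  .loop ⟨8,[2,4,3,4,3,4,3,4,2,2,2,0,2,2,0,2,2,0,2,0,2,0,2,2,0,2,2,2,1,3],[0,1,0,1,0,1],1,2,[],[⟨[(350,true),(350,true),(350,true),(350,true)],348,false,[3,3,0,2,2,0,2,0,2,2,0,3,0,3,3,0,3,0,3,3,1]⟩,⟨[(333,true),(344,false),(333,true)],257,false,[0,3,0,2,2,0,3,0,3,3,0,2,2,0,2,0,2,2,2,1]⟩]⟩,
  .loop ⟨8,[1,2,4,3,3,4,1,3,4,0,2,2,0,3,0,3,0,2,2,2,0,3,0,3,0,2,0,2,1],[0,1,0,1,0,1],1,2,[],[⟨[(350,true),(350,true),(350,true)],7,true,[0,2,2,0,2,0,2,2,2,0,3,0,2,2,0,3,0,3,0]⟩,⟨[(342,true),(333,false),(344,false)],252,true,[2,2,0,2,2,2,0,2,0,2,0,2,2,0,2,0,3,3,0,3,0]⟩]⟩,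
  .loop ⟨8,[4,3,1,2,1,3,3,3,4,2,0,2,0,2,2,2,0,2,2,0,3,0,2,2,1],[0,1,0,1,0,1],6,6,[⟨[(350,false),(350,false),(350,false),(350,false),(350,false)],346,false,[2,2,0,2,0,3,3,0,2,0,2,2,0,2,0,3,3,0,2,0,2,2]⟩,⟨[],216,false,[0,3,0,2,0,2,0,2,0,3,0,3,0,3,3,0,3,3,1,2,2,2]⟩,⟨[(333,false),(344,false),(333,false)],7,false,[0,2,2,2,0,3,3,0,3,0,2,2,0,2,2,1]⟩],[]⟩,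
  .loop ⟨5,[3,3,4,0,3,0,2,2,0,3,3,0,3,0,3,0,2,0,2,2,0,2],[4,2,4],3,3,[⟨[(184,true),(99,true),(126,false)],154,true,[3,0,2,2,2,0,3,3,0,3,0,2,2,0,3,1,2]⟩,⟨[(184,true),(99,true)],153,true,[2,0,3,0,3,0,3,0,2,2,0,2,0,2,0,3,0,3,0,3]⟩,⟨[(166,false),(118,true),(118,true)],88,true,[2,0,2,0,2,0,3,0,2,2,2,0,3,1,3]⟩],[]⟩,
  .loop ⟨5,[1,3,3,1,3,4,3,4,2,2,0,2,2,0,3,0,3,0,2,0,3,3,0,3,0,2,2,2,0,3],[0,1,0,1,0,1],6,6,[⟨[(184,true),(356,false),(126,true)],274,true,[2,0,2,0,2,2,0,3,0,2,2,2,0,2,0,2,2,0,3,3,1,2,2]⟩,⟨[(342,false),(333,true),(342,false)],277,false,[0,3,0,2,0,2,0,3,0,2,2,2,0,3,0,3,3,0,2]⟩,⟨[(356,false),(126,true),(184,true)],150,false,[3,0,2,0,2,0,2,2,0,3,0,3,0,2,0,3,3,0,2]⟩],[]⟩,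
  .loop ⟨5,[4,2,4,1,3,3,3,4,3,0,3,0,2,2,0,2,2,0,3,0,3,0,2,0,2,2,2,0],[0,1,0,1,0,1],6,6,[⟨[(126,false),(99,false)],239,true,[2,2,0,3,3,0,3,0,2,2,2,0,3,3,0,3,0,3,3,0,2,1]⟩,⟨[(333,false),(344,false),(333,false),(342,true),(344,false)],330,true,[3,0,3,0,3,0,2,2,0,3,0,3,3,0,3,0,2,2,1,3]⟩,⟨[(342,true),(333,true),(342,false)],277,false,[2,2,2,0,2,2,0,2,0,2,0,3,3,0,2,1,2]⟩],[]⟩,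
  .loop ⟨5,[4,1,3,4,3,4,1,3,4,2,2,0,2,0,2,0,2,2,0,3,3,0,3,3,1],[4,3,3],3,3,[⟨[(126,true),(357,true)],150,false,[0,2,0,3,0,3,0,2,0,2,2,2,0,2,2,0,2,0,3,0,3,0,2]⟩,⟨[(357,true),(356,true)],189,true,[3,0,3,0,2,0,2,0,2,2,2,0,3,0,3,3,0,2]⟩,⟨[(151,false),(343,false),(339,true),(343,true),(151,false)],231,false,[0,3,3,0,3,3,0,3,3,0,3,0,2,0,2,1,2,2,2]⟩],[]⟩]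

/-- reasons -/
def why9 : List Why := [
  .loop ⟨8,[4,1,3,1,3,3,3,4,3,0,2,0,2,2,0,3,3,0,3,0,2,2,2,0,2,0],[0,1,0,1,0,1],6,6,[⟨[(355,false),(350,false),(350,false),(350,false),(350,false),(350,false),(355,false)],347,false,[3,0,2,0,2,2,2,0,2,2,2,0,2,0,3,3,0,2,0,2,2,1,2]⟩,⟨[(344,false),(342,true),(333,false),(344,false)],257,false,[0,3,3,0,3,3,0,2,0,2,2,0,2,0,3,0,3,0,3,0,2,1]⟩,⟨[(344,false),(333,true)],7,false,[2,0,3,3,0,3,3,0,3,0,3,0,2,0,2,2,0,3,0,3,0,3,1]⟩],[]⟩,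
  .loop ⟨8,[3,1,3,3,4,2,0,2,0,2,0,3,0,3,3,0,3,3,0,2,0,2,2,1,3],[0,1,0,1,0,1],6,6,[⟨[(360,true),(355,true),(360,false),(360,false),(355,false)],347,false,[2,2,0,2,2,2,0,2,0,3,0,3,0,2,2,0]⟩,⟨[(344,false),(342,false),(344,false),(342,false),(333,false)],252,true,[3,0,3,0,3,0,2,2,0,2,0,3,0,3,0,2,0,2,0,3,0,3]⟩,⟨[(344,false),(333,false)],7,false,[3,0,3,0,2,0,3,3,0,2,0,2,2,0,3,0,3,0,3]⟩],[]⟩,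
  .loop ⟨8,[2,2,4,3,4,3,4,3,4,2,2,0,2,0,2,2,0,2,2,0,2,0,2,0,2,2,0,2,2,0],[3,2],2,2,[⟨[(355,false),(360,false),(350,true),(350,true)],347,false,[2,0,2,0,2,2,0,2,0,2,0,3,0,3,0,2,0,2,2,1]⟩,⟨[(344,false),(342,true)],7,false,[0,2,2,2,0,2,0,3,0,3,0,3,3,0,3,0,2,2,0,3,0,2,2,0,3,0,3]⟩],[]⟩,
  .loop ⟨8,[4,2,1,2,1,2,2,4,3,0,3,0,3,0,3,3,0,3,3,0,2,0,2,2,0,2,2,1,2,2],[0,1,0,1,0,1],6,6,[⟨[(355,false),(362,false),(350,false),(360,false)],347,false,[2,0,3,0,2,2,0,2,0,3,0,2,2,2,0,2,0,3,3,1,2,2]⟩,⟨[(333,false)],7,false,[0,3,0,2,0,2,0,3,0,2,2,0,2,2,2,0,2,0,3,0,3,1,2]⟩,⟨[(360,false),(350,false),(361,true)],351,true,[0,3,0,2,0,2,2,2,0,2,2,0,2,0,2,2,0,3,1,2,2]⟩],[]⟩,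
  .loop ⟨8,[2,4,3,4,3,4,0,3,0,2,2,2,0,2,0,3,3,0,3,0,2,2,0,3,1],[0,1,0,1,0,1],6,6,[⟨[(355,false),(363,false),(350,false)],347,false,[2,2,0,2,2,2,0,3,0,2,2,0,3,0,3,3,0,2,2]⟩,⟨[(342,false),(344,false),(333,false),(344,false),(333,true)],246,false,[3,0,2,2,0,2,0,3,3,0,3,0,2,0,2,0,3,0,2,2]⟩,⟨[(344,false)],7,false,[0,3,3,0,3,3,0,2,2,0,2,0,3,3,0,3,0,3,0,2,2]⟩],[]⟩,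
  .loop ⟨5,[2,4,2,1,3,3,4,0,3,0,3,0,3,0,3,3,0,2,2,0,2,0,3,3,1,2],[3,4,3],3,3,[⟨[(359,true),(184,false)],183,false,[3,0,2,2,0,2,0,3,0,2,2,0,2,2,0,3,3,0,3,1,2,2]⟩,⟨[],193,false,[3,3,0,3,3,0,3,0,3,0,2,0,2,2,0,3,0,2,2,0]⟩,⟨[],327,false,[3,3,0,3,3,0,2,2,0,2,0,2,0,3,0,2,2,2,0,3]⟩],[]⟩,
  .loop ⟨5,[4,3,4,1,3,3,3,4,3,3,0,3,3,0,3,0,3,0,3,3,0,3,3,0,3,3,0,2,2,1],[0,1,0,1,0,1],6,6,[⟨[(184,false),(99,true)],74,true,[0,2,0,3,0,3,0,3,0,3,3,0,2,2,0,2,0,3,3,0,2,0]⟩,⟨[(132,false),(118,false),(118,false)],318,true,[2,2,0,2,2,0,2,2,0,2,2,0,3,0,3,3,0]⟩,⟨[(344,false),(333,true),(344,false)],242,false,[2,0,3,3,0,3,0,3,0,3,3,0,3,3,0,3,3,0,2,2,0]⟩],[]⟩,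
  .loop ⟨8,[1,2,4,2,4,3,4,0,3,0,3,0,3,3,0,3,0,2,2,0,2,0,3,0,3,0,2,0,3],[1,1,3],3,3,[⟨[(362,false),(363,false),(355,true)],347,false,[2,0,2,0,3,3,0,3,0,3,0,2,0,3,3,0,2,2,0,2,2,0,2,2,0]⟩,⟨[(344,false),(342,false)],260,true,[0,3,0,2,0,2,0,2,0,3,3,0,3,0,2,2,0,3,0,2,2,0]⟩,⟨[(333,false)],7,false,[3,0,2,2,0,2,2,0,3,0,3,3,0,3,0,2,0,2,0,3,0,2]⟩],[]⟩,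
  .loop ⟨5,[1,2,4,3,4,3,3,3,4,2,2,2,0,3,0,3,0,2,0,2,0,2,0,3,0,2,2,0,2,1],[4,3,3],3,3,[⟨[(359,true),(358,true),(99,false)],189,true,[2,0,3,0,2,2,0,2,2,0,3,3,0,2,2,1,2]⟩,⟨[(339,false),(151,false),(339,true)],307,true,[3,3,0,3,3,0,3,3,0,3,0,3,0,2,0,2,0,3]⟩,⟨[(333,true),(344,false),(342,false),(342,false)],242,false,[0,2,2,0,2,2,0,2,2,0,3,0,3,0,3,0,2,0,2,0]⟩],[]⟩,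
  .loop ⟨8,[3,4,3,1,3,4,2,0,2,2,0,3,0,2,2,0,3,0,3,3,0,3,0,2,0,2,0,3,0],[4,1],2,2,[⟨[(362,true),(355,false),(360,false)],347,false,[0,3,3,0,3,0,2,2,2,0,2,0,3,3,1]⟩,⟨[(344,false),(342,true)],7,false,[2,0,2,2,0,2,0,3,3,0,2,0,2,2,0,2,2,0,2,0]⟩],[]⟩,
  .loop ⟨8,[3,3,1,2,2,4,2,4,3,0,3,0,2,0,3,3,0,2,0,3,3,0,3,0,3,3,1],[0,1,0,1,0,1],6,6,[⟨[(367,false),(355,false),(360,true)],347,false,[0,3,0,2,0,2,2,0,3,0,3,3,0,2,2,0,3,3,1,3,3]⟩,⟨[(344,false),(342,false),(333,true),(344,false)],246,false,[0,2,2,0,2,0,3,3,0,2,0,2,2,2,0,3,0,2,2,0]⟩,⟨[(344,false)],7,false,[2,0,2,0,2,0,2,2,2,0,2,0,2,0,3,0,2,2,2,0,3]⟩],[]⟩]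

/-- all reasons -/
def why : List Why := why0 ++ why1 ++ why2 ++ why3 ++ why4 ++ why5 ++ why6 ++ why7 ++ why8 ++ why9

theorem factsOK_join {W : ℕ → List ℕ} {F : List Edge} {why : List Why} {lo a b m n : ℕ}
    (h1 : factsOK W F why lo a = true) (h2 : factsOK W F why m b = true) (hm : lo + a = m) (hn : a + b = n) :
    factsOK W F why lo n = true := by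
  subst hm hn
  unfold factsOK at *
  rw [← List.range'_append_1, List.all_append, h1, h2]
  rfl

end CfsgLib.Sporadic.HNCoset
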