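import Cfsg.Agent.Lib.Sporadic.HNCoset.CoverData
import Cfsg.Agent.Lib.Sporadic.HNCoset.Facts

set_option autoImplicit false
set_option maxRecDepth 20000
set_option Elab.async false

/-! Every state is covered, every step is right (owner: helper25). -/

namespace CfsgLib.Sporadic.HNCoset

open CfsgLib.Sporadic

theorem cover_part0 : coverOK facts 0 (covers.getD 0 []) = true := by decide +kernel

theorem cover_part1 : coverOK facts 1 (covers.getD 1 []) = true := by decide +kernel

theorem cover_part2 : coverOK facts 2 (covers.getD 2 []) = true := by decide +kernel

theorem cover_part3 : coverOK facts 3 (covers.getD 3 []) = true := by decide +kernel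

theorem cover_part4 : coverOK facts 4 (covers.getD 4 []) = true := by decide +kernel

theorem cover_part5 : coverOK facts 5 (covers.getD 5 []) = true := by decide +kernel

theorem cover_part6 : coverOK facts 6 (covers.getD 6 []) = true := by decide +kernel

theorem cover_part7 : coverOK facts 7 (covers.getD 7 []) = true := by decide +kernel

theorem cover_part8 : coverOK facts 8 (covers.getD 8 []) = true := by decide +kernel

theorem cover_ok : forallLt 9 (fun i => coverOK facts i (covers.getD i [])) = true := by
  show (coverOK facts 8 (covers.getD 8 []) && (coverOK facts 7 (covers.getD 7 []) &&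
    (coverOK facts 6 (covers.getD 6 []) && (coverOK facts 5 (covers.getD 5 []) &&
    (coverOK facts 4 (covers.getD 4 []) && (coverOK facts 3 (covers.getD 3 []) &&
    (coverOK facts 2 (covers.getD 2 []) && (coverOK facts 1 (covers.getD 1 []) &&
    (coverOK facts 0 (covers.getD 0 []) && true))))))))) = true
  rw [cover_part8, cover_part7, cover_part6, cover_part5, cover_part4, cover_part3, cover_part2, cover_part1,
    cover_part0]
  rfl

theorem steps_part0 : forallLt 352 (fun c => stepOne 0 c) = true := by decide +kernel

theorem steps_part1 : forallLt 352 (fun c => stepOne 1 c) = true := by decide +kernel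

theorem steps_part2 : forallLt 352 (fun c => stepOne 2 c) = true := by decide +kernel

theorem steps_part3 : forallLt 352 (fun c => stepOne 3 c) = true := by decide +kernel

theorem steps_part4 : forallLt 352 (fun c => stepOne 4 c) = true := by decide +kernel

theorem steps_ok : forallLt 5 (fun x => forallLt 352 fun c => stepOne x c) = true := by
  show (forallLt 352 (stepOne 4) && (forallLt 352 (stepOne 3) && (forallLt 352 (stepOne 2) &&
    (forallLt 352 (stepOne 1) && (forallLt 352 (stepOne 0) && true))))) = true
  rw [steps_part4, steps_part3, steps_part2, steps_part1, steps_part0]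
  rfl

end CfsgLib.Sporadic.HNCoset
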