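import Cfsg.Agent.Lib.Sporadic.HNCoset.Facts

set_option autoImplicit false
set_option maxRecDepth 20000
set_option Elab.async false

/-! Justification of consecutive facts (owner: helper25). -/

namespace CfsgLib.Sporadic.HNCoset

theorem facts_part1_0 : factsOK W facts why 95 19 = true := by decide +kernel

theorem facts_part1_1 : factsOK W facts why 114 19 = true := by decide +kernel

theorem facts_part1_2 : factsOK W facts why 133 19 = true := by decide +kernel

theorem facts_part1_3 : factsOK W facts why 152 19 = true := by decide +kernel

theorem facts_part1_4 : factsOK W facts why 171 19 = true := by decide +kernel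

theorem facts_part1 : factsOK W facts why 95 95 = true :=
  (factsOK_join (a := 76) (b := 19) (m := 171) (n := 95) (factsOK_join (a := 57) (b := 19) (m := 152) (n := 76) (factsOK_join (a := 38) (b := 19) (m := 133) (n := 57) (factsOK_join (a := 19) (b := 19) (m := 114) (n := 38) facts_part1_0 facts_part1_1 rfl rfl) facts_part1_2 rfl rfl) facts_part1_3 rfl rfl) facts_part1_4 rfl rfl)

end CfsgLib.Sporadic.HNCoset
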