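import Cfsg.Agent.Lib.Sporadic.HNCoset.StabEight

set_option autoImplicit false
set_option maxRecDepth 20000
set_option Elab.async false

/-! The stabilisers are large enough (owner: helper25). -/

namespace CfsgLib.Sporadic.HNCoset

open CfsgLib.Sporadic

theorem stab_part0 : stabOK 1 = true := stabFast_sound (by decide +kernel)

theorem stab_part1 : stabOK 2 = true := stabFast_sound (by decide +kernel)

theorem stab_part2 : stabOK 3 = true := stabFast_sound (by decide +kernel)

theorem stab_part3 : stabOK 4 = true := stabFast_sound (by decide +kernel)

theorem stab_part4 : stabOK 5 = true := stabFast_sound (by decide +kernel)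

theorem stab_part5 : stabOK 6 = true := stabFast_sound (by decide +kernel)

theorem stab_part6 : stabOK 7 = true := stabFast_sound (by decide +kernel)

theorem stab_ok : forallLt 8 (fun i => stabOK (i + 1)) = true := by
  show (stabOK 8 && (stabOK 7 && (stabOK 6 && (stabOK 5 && (stabOK 4 && (stabOK 3 && (stabOK 2 && (stabOK 1 &&
    true)))))))) = true
  rw [stab_part7, stab_part6, stab_part5, stab_part4, stab_part3, stab_part2, stab_part1, stab_part0]
  rfl

theorem order_sum : ((List.range 9).map fun i => 177408000 / stabOrders.getD i 0).sum = 1539000 ∧
    ((List.range 9).all fun i => Nat.blt 0 (stabOrders.getD i 0)) = true := by decide +kernel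

end CfsgLib.Sporadic.HNCoset
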