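import Cfsg.Agent.Lib.Sporadic.HNCoset.FactsPart0
import Cfsg.Agent.Lib.Sporadic.HNCoset.FactsPart1
import Cfsg.Agent.Lib.Sporadic.HNCoset.FactsPart2
import Cfsg.Agent.Lib.Sporadic.HNCoset.FactsPart3
import Cfsg.Agent.Lib.Sporadic.HNCoset.CoverCheck
import Cfsg.Agent.Lib.Sporadic.HNCoset.StabCheck
import Cfsg.Agent.Lib.Sporadic.HNCoset.Close

/-!
# At most 1539000 cosets of the double cover (owner: helper25)
-/

set_option autoImplicit false
set_option maxRecDepth 20000

namespace CfsgLib.Sporadic.HNCoset

open Cfsg CfsgLib.Sporadic CfsgLib.Sporadic.HNGroup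

theorem facts_ok : factsOK W facts why 0 facts.length = true := by
  have hlen : facts.length = 371 := by decide +kernel
  rw [hlen, factsOK, List.all_eq_true]
  intro q hq
  rw [List.mem_range'_1] at hq
  have h : ∀ lo len, factsOK W facts why lo len = true → lo ≤ q → q < lo + len →
      (match facts[q]?, why[q]? with
        | some e, some y => factOK W facts q e y
        | _, _ => false) = true := fun lo len h h1 h2 =>
    List.all_eq_true.1 h q (List.mem_range'_1.2 ⟨h1, h2⟩)
  rcases Nat.lt_or_ge q 95 with h0 | h0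
  · exact h _ _ facts_part0 (Nat.zero_le _) h0
  rcases Nat.lt_or_ge q 190 with h1 | h1
  · exact h _ _ facts_part1 h0 h1
  rcases Nat.lt_or_ge q 285 with h2 | h2
  · exact h _ _ facts_part2 h1 h2
  · exact h _ _ facts_part3 h2 hq.2

theorem facts_small : facts.all (fun e => Nat.blt e.i 9 && Nat.blt e.k 9) = true := by decide +kernel

theorem W_zero : W 0 = [] := rfl

theorem holds_all : HoldsUpTo W facts facts.length := facts_hold W_zero facts_ok

theorem holds_get {q : ℕ} {e : Edge} (he : facts[q]? = some e) : Holds W e ∧ e.i < 9 ∧ e.k < 9 := by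
  obtain ⟨hlt, hget⟩ := List.getElem?_eq_some_iff.1 he
  refine ⟨holds_all q e hlt he, ?_⟩
  have := List.all_eq_true.1 facts_small e (hget ▸ List.getElem_mem hlt)
  simpa using this

theorem decomp' : ∀ {w : List ℕ}, isN w = true → ∀ {c : ℕ}, c < 352 → ∀ {b : List ℕ},
    (b.all fun k => Nat.blt k 4) = true → ∃ c' b', c' < 352 ∧ (b'.all fun k => Nat.blt k 4) = true ∧
      ev (w ++ (repW c ++ b)) = ev (repW c' ++ b') ∧ sWord w (4 * c + (expWord b - 1)) = 4 * c' + (expWord b' - 1) :=
  decomp steps_ok

theorem repW_zero : repW 0 = [] := by decide +kernel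

theorem expWord_cons (k : ℕ) (w : List ℕ) :
    ((expWord (k :: w) : ℕ) : ZMod 5) = (expOf k : ZMod 5) * (expWord w : ZMod 5) := by
  show (((expOf k * expWord w) % 5 : ℕ) : ZMod 5) = _
  rw [ZMod.natCast_mod, Nat.cast_mul]

theorem expWord_cast : ∀ (u v : List ℕ),
    ((expWord (u ++ v) : ℕ) : ZMod 5) = (expWord u : ZMod 5) * (expWord v : ZMod 5)
  | [], v => by simp [expWord]
  | k :: u, v => by rw [List.cons_append, expWord_cons, expWord_cons, expWord_cast u v, mul_assoc]

theorem mod_five_iff {a b : ℕ} : a % 5 = b % 5 ↔ (a : ZMod 5) = (b : ZMod 5) :=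
  (ZMod.natCast_eq_natCast_iff' a b 5).symm

theorem exists_rem : ∀ (p : List ℕ), (p.all fun k => Nat.blt k 4) = true →
    ∃ r : List ℕ, (r.all fun k => Nat.blt k 4) = true ∧ ev r = (ev p)⁻¹ ∧ (expWord r : ZMod 5) * (expWord p : ZMod 5) = 1
  | [], _ => ⟨[], rfl, by simp, by simp [expWord]⟩
  | k :: p, h => by
    simp only [List.all_cons, Bool.and_eq_true] at h
    obtain ⟨r, hr, hev, hexp⟩ := exists_rem p h.2
    have hk : k < 4 := by simpa using h.1
    have hk6 : k ^^^ 1 < 4 := by interval_cases k <;> decide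
    refine ⟨r ++ [k ^^^ 1], by rw [List.all_append, hr]; simpa using hk6, ?_, ?_⟩
    · rw [ev_append, hev, ev_cons, ev_nil, mul_one, ev_cons, mul_inv_rev, gl_small (by omega), gl_small (by omega),
        ← flp_eq, L_flp, map_inv]
    · rw [expWord_cast, expWord_cons, expWord_cons, show (expWord [] : ZMod 5) = 1 from by simp [expWord], mul_one]
      have hu : ((expOf (k ^^^ 1) : ℕ) : ZMod 5) * (expOf k : ZMod 5) = 1 := by
        interval_cases k <;> decide +kernel
      calc _ = ((expWord r : ZMod 5) * expWord p) * ((expOf (k ^^^ 1) : ℕ) * (expOf k : ZMod 5)) := by ring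
        _ = 1 := by rw [hexp, hu, one_mul]

theorem mul_mod_five_ne {j e : ℕ} (hj : j % 5 ≠ 0) (he : 1 ≤ e ∧ e ≤ 4) : j * e % 5 ≠ 0 := by
  obtain ⟨h1, h2⟩ := he
  interval_cases e <;> omega

theorem exists_exp (v : ℕ) (h0 : v ≠ 0) (h5 : v < 5) :
    ∃ b : List ℕ, (b.all fun k => Nat.blt k 4) = true ∧ expWord b = v := by
  interval_cases v
  · exact absurd rfl h0
  exacts [⟨[], rfl, rfl⟩, ⟨[0], rfl, rfl⟩, ⟨[1], rfl, rfl⟩, ⟨[0, 0], rfl, rfl⟩]

/-- Whether a state is in a set of resolved states. -/
def SeenOK (i seen : ℕ) : Prop := ∀ s, Nat.testBit seen s = true → StateRes W i s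

theorem coverStep_sound {i p seen : ℕ} (hseen : SeenOK i seen) (h : coverStep facts i p seen = true) :
    StateRes W i (Nat.land p 2047) := by
  unfold coverStep at h
  dsimp only at h
  split at h
  · simp at h
  next e he =>
    obtain ⟨hH, hi9, hk9⟩ := holds_get he
    cases hr : Nat.testBit p 22 with
    | true =>
      rw [hr, cond_true] at h
      simp only [Bool.and_eq_true, Nat.beq_eq, Nat.ble_eq, Nat.blt_eq, Bool.not_eq_true'] at h
      obtain ⟨hcur, hj5, ha, hm, hn, ⟨hsA, hs⟩, hJ⟩ := h
      set rev := Nat.testBit p 21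
      set A := cond rev e.m e.a with hAdef
      set J := cond rev (5 - e.j) e.j
      have hA : isN A = true := by rw [hAdef]; cases rev <;> assumption
      obtain ⟨c0, b0, hc0, hb0, hAev, hAst⟩ := decomp' hA (c := 0) (by norm_num) (b := []) rfl
      rw [repW_zero, List.nil_append, List.append_nil] at hAev
      rw [show expWord [] = 1 from rfl, Nat.mul_zero, Nat.zero_add, Nat.sub_self] at hAst
      obtain ⟨hb1, hb4⟩ := expWord_bound hb0
      intro c b j hc hb hjne hstate
      rw [hs, hAst] at hstate
      have hJne : J * expWord b0 % 5 ≠ 0 :=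
        mul_mod_five_ne (fun h0 => by rw [show J.mod 5 = J % 5 from rfl, h0] at hJ; exact absurd hJ (by decide)) ⟨hb1, hb4⟩
      have ec : (4 * c0 + (expWord b0 - 1)) / 4 = c0 := by omega
      have ee : (4 * c0 + (expWord b0 - 1)) % 4 + 1 = expWord b0 := by omega
      rw [ec, ee] at hstate
      change 4 * c + (j * expWord b % 5 - 1) = 4 * c0 + (J * expWord b0 % 5 - 1) at hstate
      have hcc : c = c0 := by omega
      have hv : j * expWord b % 5 = J * expWord b0 % 5 := by omega
      obtain ⟨r, hr4, hrev, hrexp⟩ := exists_rem b0 hb0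
      have hall : ((r ++ b).all fun k => Nat.blt k 4) = true := by rw [List.all_append, hr4, hb]; rfl
      have hexp : j * expWord (r ++ b) % 5 = J % 5 := by
        rw [mod_five_iff] at hv ⊢
        push_cast at hv ⊢
        rw [expWord_cast]
        calc (j : ZMod 5) * ((expWord r : ZMod 5) * expWord b) = expWord r * ((j : ZMod 5) * expWord b) := by ring
          _ = (J : ZMod 5) * ((expWord r : ZMod 5) * expWord b0) := by rw [hv]; ring
          _ = _ := by rw [hrexp, mul_one]
      have hE := edge_read hH hj5 hn rev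
      rw [hcur] at hE
      refine ⟨cond rev e.i e.k, cond rev e.a e.m ++ (r ++ b), cond rev (winv e.n) e.n, ?_, ?_, ?_, ?_⟩
      · cases rev <;> assumption
      · rw [isN_append, isN_of_lt_four hall]; cases rev <;> simp [ha, hm]
      · cases rev <;> simp [hn, isN_winv hn]
      · rw [← hAdef] at hE
        rw [ev_append (cond rev e.a e.m), ← mul_assoc, ← hE]
        have : ev (repW c ++ b) = ev A * ev (r ++ b) := by
          rw [hAev, hcc]; simp only [ev_append, hrev]; group
        rw [this]
        calc ev (W i) * (ev A * ev (r ++ b)) * T ^ j = ev (W i) * ev A * (ev (r ++ b) * T ^ j) := by group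
          _ = _ := by rw [ev_mul_T hall, T_pow_congr hexp]; simp only [J, mul_assoc]
    | false =>
      rw [hr, cond_false] at h
      simp only [Bool.and_eq_true] at h
      obtain ⟨hst, hseen'⟩ := h
      obtain ⟨hai, haN, heq⟩ := isStab_sound hst hH (Nat.testBit p 21)
      obtain ⟨-, -, -, -, hea, -⟩ := isStab_iff.1 hst
      set g := cond (Nat.testBit p 21) e.a (winv e.a) with hg
      set hw := cond (Nat.testBit p 21) (winv e.a) e.a with hhw
      set hn' := cond (Nat.testBit p 21) (winv e.n) e.n
      have hgN : isN g = true := by rw [hg]; cases Nat.testBit p 21 <;> simp [hea, isN_winv hea]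
      have hgw : ev g = (ev hw)⁻¹ := by
        rw [hg, hhw]; cases Nat.testBit p 21 <;> simp [ev_winv hea]
      intro c b j hc hb hjne hstate
      obtain ⟨b₂, hb₂, he₂⟩ := exists_exp _ hjne (Nat.mod_lt _ (by norm_num))
      obtain ⟨c', b', hc', hb', hev, hsw⟩ := decomp' hgN hc hb₂
      obtain ⟨r, hr4, hrev, hrexp⟩ := exists_rem b₂ hb₂
      have hall : ((b' ++ (r ++ b)).all fun k => Nat.blt k 4) = true := by
        rw [List.all_append, List.all_append, hb', hr4, hb]; rfl
      obtain ⟨hb'1, hb'4⟩ := expWord_bound hb'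
      have hexp : j * expWord (b' ++ (r ++ b)) % 5 = expWord b' := by
        refine Eq.trans (mod_five_iff.2 ?_) (Nat.mod_eq_of_lt (show expWord b' < 5 by omega))
        have hj : ((expWord b₂ : ℕ) : ZMod 5) = (j : ZMod 5) * expWord b := by
          rw [he₂, ZMod.natCast_mod, Nat.cast_mul]
        push_cast
        rw [expWord_cast, expWord_cast]
        calc (j : ZMod 5) * ((expWord b' : ZMod 5) * ((expWord r : ZMod 5) * expWord b))
            = expWord b' * ((expWord r : ZMod 5) * ((j : ZMod 5) * expWord b)) := by ring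
          _ = _ := by rw [← hj, hrexp, mul_one]
      have hres := hseen _ hseen' c' (b' ++ (r ++ b)) j hc' hall (by rw [hexp]; omega)
        (by rw [hexp, ← hsw, ← hstate, he₂])
      obtain ⟨k, m, n, hk, hm, hn, hres⟩ := hres
      refine ⟨k, m, hn' ++ n, hk, hm, by rw [isN_append, haN, hn]; rfl, ?_⟩
      have hrc : ev (repW c) = ev hw * (ev (repW c') * (ev b' * ev r)) := by
        have h2 : ev (repW c') * ev b' = ev g * (ev (repW c) * ev b₂) := by
          rw [← ev_append, ← hev, ev_append, ev_append]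
        rw [← mul_assoc (ev (repW c')), h2, hgw, hrev]; group
      rw [ev_append, hrc, ev_append hn']
      calc ev (W i) * (ev hw * (ev (repW c') * (ev b' * ev r)) * ev b) * T ^ j
          = (ev (W i) * ev hw) * (ev (repW c' ++ (b' ++ (r ++ b)))) * T ^ j := by simp [mul_assoc]
        _ = ev hn' * (ev (W i) * ev (repW c' ++ (b' ++ (r ++ b))) * T ^ j) := by rw [heq]; group
        _ = _ := by rw [hres]; group

end CfsgLib.Sporadic.HNCoset
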