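import Cfsg.Agent.Lib.Sporadic.HNCoset.Check

/-!
# Every power of `t` is resolved from every state (owner: helper25)
-/

set_option autoImplicit false
set_option maxRecDepth 20000

namespace CfsgLib.Sporadic.HNCoset

open CfsgLib.Sporadic

/-- The remaining word of a letter on a representative. -/
noncomputable def stepWord (x c : ℕ) : List ℕ :=
  (cond (Nat.beq x 0) stepWords0 (cond (Nat.beq x 1) stepWords1 (cond (Nat.beq x 2) stepWords2
    (cond (Nat.beq x 3) stepWords3 stepWords4)))).getD c []

/-- The representative reached by a letter. -/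
noncomputable def stepTo (x c : ℕ) : ℕ :=
  (cond (Nat.beq x 0) stepTo0 (cond (Nat.beq x 1) stepTo1 (cond (Nat.beq x 2) stepTo2
    (cond (Nat.beq x 3) stepTo3 stepTo4)))).getD c 352

/-- The representative of a coset. -/
noncomputable def repW (c : ℕ) : List ℕ := repWords.getD c []

/-- One letter on one representative. -/
noncomputable def stepOne (x c : ℕ) : Bool :=
  Nat.blt (stepTo x c) 352 && ((stepWord x c).all (fun k => Nat.blt k 4) &&
    (eqW (x :: repW c) (repW (stepTo x c) ++ stepWord x c) &&
      forallLt 4 fun v => Nat.beq (sImg x (4 * c + v))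
        (4 * stepTo x c + (Nat.mod (Nat.mul (expWord (stepWord x c)) (v + 1)) 5 - 1))))

/-- A cover entry: a state, a fact, its direction, and whether it starts here. -/
noncomputable def coverStep (F : List Edge) (i p : ℕ) (seen : ℕ) : Bool :=
  let s := Nat.land p 2047
  let rev := Nat.testBit p 21
  match F[Nat.land (Nat.shiftRight p 11) 1023]? with
  | none => false
  | some e =>
    cond (Nat.testBit p 22)
      (let A := cond rev e.m e.a
       let J := cond rev (5 - e.j) e.j
       let sA := sWord A 0
       Nat.beq (cond rev e.k e.i) i && (Nat.ble e.j 5 && (isN e.a && (isN e.m && (isN e.n && (Nat.blt sA 1408 &&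
        Nat.beq s (4 * (sA / 4) + (Nat.mod (Nat.mul J (sA % 4 + 1)) 5 - 1)) &&
        !(Nat.beq (Nat.mod J 5) 0)))))))
      (isStab e i && Nat.testBit seen (sWord (cond rev e.a (winv e.a)) s))

/-- All cover entries in order. -/
noncomputable def coverGo (F : List Edge) (i : ℕ) (L : List ℕ) : ℕ → Option ℕ :=
  List.rec (motive := fun _ => ℕ → Option ℕ) some
    (fun p _ ih seen => cond (coverStep F i p seen)
      (ih (Nat.lor seen (Nat.shiftLeft 1 (Nat.land p 2047)))) none) L

/-- Every state is covered. -/
noncomputable def coverOK (F : List Edge) (i : ℕ) (L : List ℕ) : Bool :=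
  match coverGo F i L 0 with
  | some seen => Nat.beq seen (Nat.sub (Nat.shiftLeft 1 1408) 1)
  | none => false

end CfsgLib.Sporadic.HNCoset
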