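import Cfsg.Agent.Lib.Sporadic.HNCoset.Cover
import Cfsg.Agent.Lib.Sporadic.HNCoset.BaseLvls
import Cfsg.Agent.Lib.Sporadic.HNGroup.Cover

/-!
# Words in the presented Harada–Norton group (owner: helper25)
-/

set_option autoImplicit false
set_option maxRecDepth 20000

namespace CfsgLib.Sporadic.HNCoset

open Cfsg CfsgLib.Sporadic CfsgLib.Sporadic.HNGroup

/-- A letter in the presented group. -/
def gl (k : ℕ) : Spor.HN :=
  if k = 6 then PresentedGroup.of Spor.HN.Gen.t
  else if k = 7 then (PresentedGroup.of Spor.HN.Gen.t)⁻¹ else hnLetter k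

/-- The value of a word. -/
def ev (w : List ℕ) : Spor.HN := (w.map gl).prod

@[simp] theorem ev_nil : ev [] = 1 := rfl
@[simp] theorem ev_cons (k : ℕ) (w : List ℕ) : ev (k :: w) = gl k * ev w := by simp [ev]
@[simp] theorem ev_append (u v : List ℕ) : ev (u ++ v) = ev u * ev v := by simp [ev]

theorem gl_small {k : ℕ} (h : k < 6) : gl k = toHN (L k) := by
  rw [gl, if_neg (by omega), if_neg (by omega), toHN_L]

theorem isN_iff {w : List ℕ} : isN w = true ↔ ∀ k ∈ w, k < 6 := by
  simp [isN, List.all_eq_true]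

theorem ev_of_isN {w : List ℕ} (h : isN w = true) : ev w = toHN (w.map L).prod := by
  rw [map_list_prod, List.map_map, ev]
  exact congrArg List.prod (List.map_congr_left fun k hk => gl_small (isN_iff.1 h k hk))

theorem isN_winv {w : List ℕ} (h : isN w = true) : isN (winv w) = true := by
  rw [isN_iff] at h ⊢
  intro k hk
  simp only [winv, List.mem_map, List.mem_reverse] at hk
  obtain ⟨x, hx, rfl⟩ := hk
  exact xor_one_lt_six (h x hx)

theorem isN_append {u v : List ℕ} : isN (u ++ v) = (isN u && isN v) := by simp [isN, List.all_append]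

theorem L_prod_winv (w : List ℕ) : ((winv w).map L).prod = ((w.map L).prod)⁻¹ := by
  rw [List.prod_inv_reverse, winv, List.map_map, List.map_map, ← List.map_reverse]
  exact congrArg List.prod (List.map_congr_left fun k _ => L_flp k)

theorem ev_winv {w : List ℕ} (h : isN w = true) : ev (winv w) = (ev w)⁻¹ := by
  rw [ev_of_isN (isN_winv h), ev_of_isN h, L_prod_winv, map_inv]

/-- An element fixing the six base states is trivial. -/
theorem eq_one_of_bases {g : P0} (h : ∀ s ∈ bases, ∀ hs : s < 1408, psi g ⟨s, hs⟩ = ⟨s, hs⟩) : g = 1 := by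
  have hmem : g ∈ fixBases baseLvls := mem_fixBases.2 fun l hl hb => by
    refine h _ ?_ hb
    have : baseLvls.map Lvl.base = bases := baseLvls_bases
    rw [← this]
    exact List.mem_map_of_mem hl
  have hlt : ∀ w ∈ gensOf baseLvls, ∀ k ∈ w, k < 6 := fun w hw => by
    have := List.all_eq_true.1 baseLvls_lt w hw
    exact isN_iff.1 this
  have hle := orbitProd_le (ls := baseLvls) ⊤ baseLvls_ok hlt fun _ _ => Subgroup.mem_top _
  rw [baseLvls_prod, top_inf_eq, Subgroup.card_top] at hle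
  have hP := card_P0_le
  have h1 : Nat.card (fixBases baseLvls) ≤ 1 := by
    have := hle.trans hP
    omega
  have : (fixBases baseLvls : Subgroup P0) = ⊥ := Subgroup.eq_bot_of_card_le _ h1
  rwa [this, Subgroup.mem_bot] at hmem

theorem eqW_sound {u v : List ℕ} (h : eqW u v = true) :
    isN u = true ∧ isN v = true ∧ ev u = ev v := by
  simp only [eqW, Bool.and_eq_true, List.all_eq_true, Nat.beq_eq] at h
  obtain ⟨hu, hv, hs⟩ := h
  refine ⟨hu, hv, ?_⟩
  have h1 : ((u ++ winv v).map L).prod = 1 := eq_one_of_bases fun s hs' hlt =>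
    Fin.ext ((psi_prod (isN_iff.1 (by rw [isN_append, hu, isN_winv hv]; rfl)) ⟨s, hlt⟩).trans (hs s hs'))
  rw [List.map_append, List.prod_append, L_prod_winv, mul_inv_eq_one] at h1
  rw [ev_of_isN hu, ev_of_isN hv, h1]

theorem rel_t_five : (PresentedGroup.of Spor.HN.Gen.t : Spor.HN) ^ 5 = 1 :=
  PresentedGroup.one_of_mem (Or.inr (by simp [Spor.HN.extra] : Spor.HN.t ^ 5 ∈ {r | r ∈ Spor.HN.extra}))

theorem rel_t_x : (PresentedGroup.of Spor.HN.Gen.x : Spor.HN)⁻¹ * PresentedGroup.of Spor.HN.Gen.t *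
    PresentedGroup.of Spor.HN.Gen.x * PresentedGroup.of Spor.HN.Gen.t ^ 2 = 1 :=
  PresentedGroup.one_of_mem (Or.inr (by simp [Spor.HN.extra] :
    (Spor.HN.x⁻¹ * Spor.HN.t * Spor.HN.x) * (Spor.HN.t ^ 2) ∈ {r | r ∈ Spor.HN.extra}))

theorem rel_t_y : (PresentedGroup.of Spor.HN.Gen.t : Spor.HN)⁻¹ * (PresentedGroup.of Spor.HN.Gen.y)⁻¹ *
    PresentedGroup.of Spor.HN.Gen.t * PresentedGroup.of Spor.HN.Gen.y = 1 :=
  PresentedGroup.one_of_mem (Or.inr (by simp [Spor.HN.extra] :
    Spor.HN.t⁻¹ * Spor.HN.y⁻¹ * Spor.HN.t * Spor.HN.y ∈ {r | r ∈ Spor.HN.extra}))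

theorem rel_z_t : ((PresentedGroup.of Spor.HN.Gen.z : Spor.HN) * PresentedGroup.of Spor.HN.Gen.t) ^ 3 = 1 :=
  PresentedGroup.one_of_mem (Or.inr (by simp [Spor.HN.extra] :
    (Spor.HN.z * Spor.HN.t) ^ 3 ∈ {r | r ∈ Spor.HN.extra}))

/-- The element of order five. -/
abbrev T : Spor.HN := PresentedGroup.of Spor.HN.Gen.t

theorem T_pow_mod (j : ℕ) : T ^ j = T ^ (j % 5) := by
  conv_lhs => rw [← Nat.mod_add_div j 5, pow_add, pow_mul, rel_t_five, one_pow, mul_one]

theorem T_pow_congr {a b : ℕ} (h : a % 5 = b % 5) : T ^ a = T ^ b := by rw [T_pow_mod a, h, ← T_pow_mod b]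

theorem gl_six : gl 6 = T := rfl

theorem gl_z : gl 4 = PresentedGroup.of Spor.HN.Gen.z := by rw [gl_small (by norm_num), toHN_z]

theorem ev_tp (j : ℕ) : ev (tp j) = T ^ j := by
  induction j with
  | zero => rfl
  | succ j ih => rw [tp, List.replicate_succ, ev_cons, ← tp, ih, gl_six, pow_succ']

theorem gl_mul_T {k : ℕ} (hk : k < 4) (j : ℕ) : gl k * T ^ j = T ^ (j * expOf k) * gl k := by
  have hX : (PresentedGroup.of Spor.HN.Gen.x : Spor.HN)⁻¹ * T * PresentedGroup.of Spor.HN.Gen.x = T ^ 3 := by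
    rw [eq_inv_of_mul_eq_one_left rel_t_x]
    exact inv_eq_of_mul_eq_one_left (by rw [← pow_add]; exact rel_t_five)
  have hx : (PresentedGroup.of Spor.HN.Gen.x : Spor.HN) * T = T ^ 2 * PresentedGroup.of Spor.HN.Gen.x := by
    set X := (PresentedGroup.of Spor.HN.Gen.x : Spor.HN)
    have h2 : X⁻¹ * T ^ 2 * X = T := by
      calc X⁻¹ * T ^ 2 * X = (X⁻¹ * T * X) * (X⁻¹ * T * X) := by simp only [pow_two]; group
        _ = T ^ 6 := by rw [hX, ← pow_add]
        _ = T := by rw [T_pow_mod 6, pow_one]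
    calc X * T = X * (X⁻¹ * T ^ 2 * X) := by rw [h2]
      _ = T ^ 2 * X := by group
  have key : ∀ {g : Spor.HN} {e : ℕ}, g * T = T ^ e * g → g * T ^ j = T ^ (j * e) * g := by
    intro g e h
    have : SemiconjBy g T (T ^ e) := h
    have := this.pow_right j
    rw [← pow_mul, Nat.mul_comm] at this
    exact this
  interval_cases k
  · exact key (show gl 0 * T = T ^ 2 * gl 0 by rw [gl_small (by norm_num), toHN_x]; exact hx)
  · refine key (show gl 1 * T = T ^ 3 * gl 1 from ?_)
    rw [gl_small (by norm_num), L_one, map_inv, toHN_x]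
    set X := (PresentedGroup.of Spor.HN.Gen.x : Spor.HN)
    calc X⁻¹ * T = X⁻¹ * T * X * X⁻¹ := by group
      _ = T ^ 3 * X⁻¹ := by rw [hX]
  · refine key (show gl 2 * T = T ^ 1 * gl 2 from ?_)
    rw [gl_small (by norm_num), toHN_y, pow_one]
    exact ((inv_mul_eq_one.1 (show ((PresentedGroup.of Spor.HN.Gen.y : Spor.HN) * T)⁻¹ *
      (T * PresentedGroup.of Spor.HN.Gen.y) = 1 by rw [mul_inv_rev, ← mul_assoc]; exact rel_t_y)))
  · refine key (show gl 3 * T = T ^ 1 * gl 3 from ?_)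
    rw [gl_small (by norm_num), L_three, map_inv, toHN_y, pow_one]
    set Y := (PresentedGroup.of Spor.HN.Gen.y : Spor.HN)
    have h : Y * T = T * Y :=
      inv_mul_eq_one.1 (show (Y * T)⁻¹ * (T * Y) = 1 by rw [mul_inv_rev, ← mul_assoc]; exact rel_t_y)
    calc Y⁻¹ * T = Y⁻¹ * (T * Y) * Y⁻¹ := by group
      _ = T * Y⁻¹ := by rw [← h]; group

theorem ev_mul_T : ∀ {b : List ℕ}, (b.all fun x => Nat.blt x 4) = true → ∀ j : ℕ,
    ev b * T ^ j = T ^ (j * expWord b) * ev b
  | [], _, j => by simp [expWord]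
  | k :: b, h, j => by
    simp only [List.all_cons, Bool.and_eq_true] at h
    have hk : k < 4 := by simpa using h.1
    have e : expWord (k :: b) = (expOf k * expWord b) % 5 := rfl
    rw [ev_cons, mul_assoc, ev_mul_T h.2 j, ← mul_assoc, gl_mul_T hk, mul_assoc, e]
    congr 1
    refine T_pow_congr ?_
    rw [Nat.mul_mod j ((expOf k * expWord b) % 5), Nat.mod_mod, ← Nat.mul_mod, Nat.mul_assoc,
      Nat.mul_comm (expWord b)]

theorem isN_of_lt_four {b : List ℕ} (h : (b.all fun x => Nat.blt x 4) = true) : isN b = true := by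
  simp only [isN, List.all_eq_true, Nat.blt_eq] at h ⊢
  exact fun x hx => (h x hx).trans (by norm_num)

end CfsgLib.Sporadic.HNCoset
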