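import Cfsg.Agent.Lib.Sporadic.HNGroup.Structure
import Cfsg.Agent.Lib.Sporadic.HNCoset.Table

/-!
# A faithful action of the presented double cover on 1408 states (owner: helper25)
-/

set_option autoImplicit false
set_option maxRecDepth 20000

namespace CfsgLib.Sporadic.HNCoset

open CfsgLib.Sporadic CfsgLib.Sporadic.HNGroup
open CfsgLib.Recog.SporBound (Q)

/-- The packed table of a letter. -/
noncomputable def permTab (k : ℕ) : Q ℕ :=
  cond (Nat.beq k 0) permQ0 (cond (Nat.beq k 1) permQ1 (cond (Nat.beq k 2) permQ2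
    (cond (Nat.beq k 3) permQ3 (cond (Nat.beq k 4) permQ4 permQ5))))

/-- The image of a state under a letter. -/
noncomputable def sImg (k s : ℕ) : ℕ :=
  Nat.land (Nat.shiftRight ((permTab k).get (Nat.shiftRight s 6)) (Nat.mul 11 (Nat.land s 63))) 2047

/-- The image of a state under a word, the last letter first. -/
noncomputable def sWord (w : List ℕ) (s : ℕ) : ℕ :=
  List.rec (motive := fun _ => ℕ) s (fun k _ ih => sImg k ih) w

theorem sImg_check : forallLt 6 (fun k => forallLt 1408 fun s =>
    Nat.blt (sImg k s) 1408 && Nat.beq (sImg (Nat.xor k 1) (sImg k s)) s) = true := by decide +kernel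

theorem sImg_spec {k s : ℕ} (hk : k < 6) (hs : s < 1408) : sImg k s < 1408 ∧ sImg (k ^^^ 1) (sImg k s) = s := by
  have h := forallLt_elim (forallLt_elim sImg_check hk) hs
  simp only [Bool.and_eq_true, Nat.beq_eq] at h
  exact ⟨by simpa using h.1, h.2⟩

/-- A letter as a permutation of the states. -/
noncomputable def sPerm (k : ℕ) : Equiv.Perm (Fin 1408) :=
  if hk : k < 6 then
    { toFun := fun i => ⟨sImg k i, (sImg_spec hk i.isLt).1⟩
      invFun := fun i => ⟨sImg (k ^^^ 1) i, (sImg_spec (xor_one_lt_six hk) i.isLt).1⟩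
      left_inv := fun i => Fin.ext (sImg_spec hk i.isLt).2
      right_inv := fun i => Fin.ext (by
        have h := (sImg_spec (xor_one_lt_six hk) i.isLt).2
        rwa [Nat.xor_assoc, Nat.xor_self, Nat.xor_zero] at h) }
  else 1

theorem sPerm_apply {k : ℕ} (hk : k < 6) (i : Fin 1408) : ((sPerm k i : Fin 1408) : ℕ) = sImg k i := by
  simp [sPerm, hk]

theorem sPerm_inv {k : ℕ} (hk : k < 6) : sPerm (k ^^^ 1) = (sPerm k)⁻¹ := by
  refine eq_inv_of_mul_eq_one_left (Equiv.ext fun i => Fin.ext ?_)
  rw [Equiv.Perm.mul_apply, sPerm_apply (xor_one_lt_six hk), sPerm_apply hk, Equiv.Perm.one_apply]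
  exact (sImg_spec hk i.isLt).2

theorem prod_sPerm_apply : ∀ {w : List ℕ}, (∀ k ∈ w, k < 6) → ∀ i : Fin 1408,
    (((w.map sPerm).prod i : Fin 1408) : ℕ) = sWord w i
  | [], _, _ => by simp [sWord]
  | k :: w, h, i => by
    rw [List.map_cons, List.prod_cons, Equiv.Perm.mul_apply, sPerm_apply (h k List.mem_cons_self),
      prod_sPerm_apply (fun k' hk' => h k' (List.mem_cons_of_mem _ hk'))]
    rfl

theorem rel_check_states : (words10.all fun w => (w.all fun k => Nat.blt k 6) &&
    forallLt 1408 fun s => Nat.beq (sWord w s) s) = true := by decide +kernel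

/-- The images of the three generators. -/
noncomputable def sGen (i : Fin 3) : Equiv.Perm (Fin 1408) := sPerm (2 * i.val)

theorem lift_fr_states {k : ℕ} (h : k < 6) : FreeGroup.lift sGen (fr k) = sPerm k := by
  interval_cases k <;> simp [fr, sGen, FreeGroup.lift_apply_of] <;>
    exact (sPerm_inv (by norm_num)).symm

/-- The action of the presented group on the states. -/
noncomputable def psi : P0 →* Equiv.Perm (Fin 1408) :=
  PresentedGroup.toGroup (f := sGen) (by
    rintro r ⟨w, hw, rfl⟩
    have h := List.all_eq_true.1 rel_check_states w hw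
    rw [Bool.and_eq_true, List.all_eq_true] at h
    have hlt : ∀ k ∈ w, k < 6 := fun k hk => by simpa using h.1 k hk
    rw [map_list_prod, List.map_map]
    rw [Function.comp_def, List.map_congr_left (g := sPerm) fun k hk => lift_fr_states (hlt k hk)]
    refine Equiv.ext fun i => Fin.ext ?_
    rw [prod_sPerm_apply hlt]
    exact Nat.eq_of_beq_eq_true (forallLt_elim h.2 i.isLt))

theorem psi_L {k : ℕ} (h : k < 6) : psi (L k) = sPerm k := lift_fr_states h

theorem psi_prod {w : List ℕ} (h : ∀ k ∈ w, k < 6) (i : Fin 1408) :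
    ((psi (w.map L).prod i : Fin 1408) : ℕ) = sWord w i := by
  rw [map_list_prod, List.map_map, Function.comp_def, List.map_congr_left (g := sPerm) fun k hk => psi_L (h k hk),
    prod_sPerm_apply h]

/-- The order of the presented group is at most that of the double cover extended. -/
theorem card_P0_le : Nat.card P0 ≤ 177408000 := by
  have hQ : Nat.card Q = 88704000 := by
    rw [← card_ker_mul, card_ker_two, RQ_eq, card_range_act]
  have hi : (HNGroup.Q).index ≤ 2 := by
    by_contra hlt
    have : Finite (P0 ⧸ HNGroup.Q) := inferInstance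
    let f : Bool → P0 ⧸ HNGroup.Q := fun b => cond b 1 ((L 4 : P0) : P0 ⧸ HNGroup.Q)
    have hsurj : Function.Surjective f := by
      intro q
      obtain ⟨g, rfl⟩ := QuotientGroup.mk_surjective q
      rcases Q_cases g with h | h
      · exact ⟨true, ((QuotientGroup.eq_one_iff g).2 h).symm⟩
      · refine ⟨false, ?_⟩
        show ((L 4 : P0) : P0 ⧸ HNGroup.Q) = g
        rw [QuotientGroup.eq]
        have := (inferInstance : (HNGroup.Q).Normal).conj_mem _ (inv_mem h) (L 4)⁻¹
        have e : (L 4)⁻¹ * (g * L 4)⁻¹ * (L 4)⁻¹⁻¹ = (L 4 * L 4)⁻¹ * ((L 4)⁻¹ * g)⁻¹ := by group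
        rw [e, L_z_sq, inv_one, one_mul] at this
        exact inv_mem_iff.1 this
    have := Nat.card_le_card_of_surjective f hsurj
    have hb : Nat.card Bool = 2 := by simp
    rw [hb] at this
    exact hlt this
  rw [← HNGroup.Q.index_mul_card, hQ]
  calc HNGroup.Q.index * 88704000 ≤ 2 * 88704000 := Nat.mul_le_mul_right _ hi
    _ = 177408000 := by norm_num

end CfsgLib.Sporadic.HNCoset
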