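import Cfsg.Agent.Lib.Sporadic.HNCoset.Eval

/-!
# Soundness of deductions and covers (owner: helper25)
-/

set_option autoImplicit false
set_option maxRecDepth 20000

namespace CfsgLib.Sporadic.HNCoset

open Cfsg CfsgLib.Sporadic CfsgLib.Sporadic.HNGroup

variable {W : ℕ → List ℕ} {F : List Edge}

/-- What a fact says. -/
def Holds (W : ℕ → List ℕ) (e : Edge) : Prop :=
  ev (W e.i) * ev e.a * T ^ e.j = ev e.n * ev (W e.k) * ev e.m

/-- The first facts hold. -/
def HoldsUpTo (W : ℕ → List ℕ) (F : List Edge) (lim : ℕ) : Prop :=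
  ∀ q e, q < lim → F[q]? = some e → Holds W e

theorem isStab_iff {e : Edge} {i : ℕ} :
    isStab e i = true ↔ e.i = i ∧ e.k = i ∧ e.j = 0 ∧ e.m = [] ∧ isN e.a = true ∧ isN e.n = true := by
  simp [isStab, and_assoc]

theorem isStab_sound {e : Edge} {i : ℕ} (hs : isStab e i = true) (he : Holds W e) (inv : Bool) :
    isN (cond inv (winv e.a) e.a) = true ∧ isN (cond inv (winv e.n) e.n) = true ∧
    ev (W i) * ev (cond inv (winv e.a) e.a) = ev (cond inv (winv e.n) e.n) * ev (W i) := by
  obtain ⟨hi, hk, hj, hm, ha, hn⟩ := isStab_iff.1 hs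
  rw [Holds, hi, hk, hj, hm, pow_zero, mul_one, ev_nil, mul_one] at he
  cases inv
  · exact ⟨ha, hn, he⟩
  · refine ⟨isN_winv ha, isN_winv hn, ?_⟩
    simp only [cond_true]
    rw [ev_winv ha, ev_winv hn, eq_inv_mul_iff_mul_eq, ← mul_assoc, ← he, mul_inv_cancel_right]

theorem hPair_sound {lim i : ℕ} (hF : HoldsUpTo W F lim) : ∀ {h : List (ℕ × Bool)} {r : List ℕ × List ℕ},
    hPair F lim i h = some r → isN r.1 = true ∧ isN r.2 = true ∧ ev (W i) * ev r.1 = ev r.2 * ev (W i)
  | [], r, h => by
    obtain rfl : ([], []) = r := Option.some.inj h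
    exact ⟨rfl, rfl, by simp⟩
  | p :: h, r, hr => by
    have hr' : Option.rec none (fun r' => (match F[p.1]? with
      | none => none
      | some e => cond (Nat.blt p.1 lim && isStab e i)
          (some (cond p.2 (winv e.a) e.a ++ r'.1, cond p.2 (winv e.n) e.n ++ r'.2)) none)) (hPair F lim i h) =
      some r := hr
    cases hh : hPair F lim i h with
    | none => rw [hh] at hr'; simp at hr'
    | some r' =>
      rw [hh] at hr'
      dsimp only at hr'
      cases he : F[p.1]? with
      | none => rw [he] at hr'; simp at hr'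
      | some e =>
        rw [he] at hr'
        dsimp only at hr'
        cases hc : (Nat.blt p.1 lim && isStab e i) with
        | false => rw [hc] at hr'; simp at hr'
        | true =>
          rw [hc, cond_true, Option.some.injEq] at hr'
          subst hr'
          rw [Bool.and_eq_true, Nat.blt_eq] at hc
          obtain ⟨ha, hn, heq⟩ := isStab_sound hc.2 (hF _ _ hc.1 he) p.2
          obtain ⟨ha', hn', heq'⟩ := hPair_sound hF hh
          refine ⟨by rw [isN_append, ha, ha']; rfl, by rw [isN_append, hn, hn']; rfl, ?_⟩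
          rw [ev_append, ev_append, ← mul_assoc, heq, mul_assoc, heq', mul_assoc]

theorem edge_read {e : Edge} (he : Holds W e) (hj : e.j ≤ 5) (hn : isN e.n = true) (rev : Bool) :
    ev (W (cond rev e.k e.i)) * ev (cond rev e.m e.a) * T ^ (cond rev (5 - e.j) e.j) =
      ev (cond rev (winv e.n) e.n) * ev (W (cond rev e.i e.k)) * ev (cond rev e.a e.m) := by
  cases rev
  · exact he
  · unfold Holds at he
    simp only [cond_true]
    calc ev (W e.k) * ev e.m * T ^ (5 - e.j)
        = (ev e.n)⁻¹ * (ev e.n * ev (W e.k) * ev e.m) * T ^ (5 - e.j) := by group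
      _ = (ev e.n)⁻¹ * (ev (W e.i) * ev e.a * T ^ e.j) * T ^ (5 - e.j) := by rw [he]
      _ = (ev e.n)⁻¹ * (ev (W e.i) * ev e.a) * T ^ (e.j + (5 - e.j)) := by rw [pow_add]; group
      _ = ev (winv e.n) * ev (W e.i) * ev e.a := by
        rw [Nat.add_sub_cancel' hj, rel_t_five, mul_one, ev_winv hn, mul_assoc _ (ev (W e.i))]

theorem useRes_sound {lim i j : ℕ} {a : List ℕ} {u : Use} {r : ℕ × List ℕ × List ℕ} (hF : HoldsUpTo W F lim)
    (h : useRes F lim i a j u = some r) :
    isN r.2.1 = true ∧ isN r.2.2 = true ∧ ev (W i) * ev a * T ^ j = ev r.2.2 * ev (W r.1) * ev r.2.1 := by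
  unfold useRes at h
  split at h
  next e hw hn he hh =>
    dsimp only at h
    cases hc : (Nat.blt u.e lim && (Nat.beq (cond u.rev e.k e.i) i && (Nat.ble e.j 5 &&
        (isN e.a && (isN e.m && (isN e.n &&
        ((u.b.all fun x => Nat.blt x 4) &&
          (Nat.beq (Nat.mod (Nat.mul j (expWord u.b)) 5) (Nat.mod (cond u.rev (Nat.sub 5 e.j) e.j) 5) &&
          eqW a (hw ++ cond u.rev e.m e.a ++ u.b))))))))) with
    | false => rw [hc] at h; simp at h
    | true =>
      rw [hc, cond_true, Option.some.injEq] at h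
      subst h
      simp only [Bool.and_eq_true, Nat.blt_eq, Nat.beq_eq, Nat.ble_eq] at hc
      obtain ⟨hlim, hi, hj, ha, hm, hn', hb, hexp, heq⟩ := hc
      obtain ⟨-, -, hval⟩ := eqW_sound heq
      obtain ⟨hwN, hnN, hstab⟩ := hPair_sound hF hh
      have hE := edge_read (hF _ _ hlim he) hj hn' u.rev
      rw [hi] at hE
      dsimp only
      refine ⟨by rw [isN_append, isN_of_lt_four hb]; cases u.rev <;> simp [ha, hm],
        by rw [isN_append, hnN]; cases u.rev <;> simp [hn', isN_winv hn'], ?_⟩
      rw [hval]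
      simp only [ev_append]
      have hT : T ^ (j * expWord u.b) = T ^ (cond u.rev (5 - e.j) e.j) := T_pow_congr hexp
      calc ev (W i) * (ev hw * ev (cond u.rev e.m e.a) * ev u.b) * T ^ j
          = (ev (W i) * ev hw) * ev (cond u.rev e.m e.a) * (ev u.b * T ^ j) := by group
        _ = ev hn * ((ev (W i) * ev (cond u.rev e.m e.a)) * T ^ (cond u.rev (5 - e.j) e.j)) * ev u.b := by
          rw [hstab, ev_mul_T hb, hT]; group
        _ = ev hn * (ev (cond u.rev (winv e.n) e.n) * ev (W (cond u.rev e.i e.k)) * ev (cond u.rev e.a e.m)) * ev u.b := by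
          rw [hE]
        _ = _ := by group
  next => simp at h

/-- One step of a loop. -/
def opVal (o : ℕ) : Spor.HN := if o = 0 then PresentedGroup.of Spor.HN.Gen.z else T ^ o

theorem trace_sound {lim : ℕ} (hF : HoldsUpTo W F lim) : ∀ {ops : List ℕ} {us : List Use}
    {s r : ℕ × List ℕ × List ℕ}, isN s.2.1 = true → isN s.2.2 = true → trace F lim ops us s = some r →
    isN r.2.1 = true ∧ isN r.2.2 = true ∧
      ev s.2.2 * ev (W s.1) * ev s.2.1 * (ops.map opVal).prod = ev r.2.2 * ev (W r.1) * ev r.2.1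
  | [], [], s, r, ha, hn, h => by
    obtain rfl : s = r := by simpa [trace] using h
    exact ⟨ha, hn, by simp⟩
  | [], _ :: _, s, r, _, _, h => by simp [trace] at h
  | 0 :: ops, us, (i, a, n), r, ha, hn, h => by
    simp only [trace] at h
    obtain ⟨h1, h2, h3⟩ := trace_sound hF (s := (i, a ++ [4], n))
      (by rw [isN_append]; exact Bool.and_eq_true_iff.2 ⟨ha, rfl⟩) hn h
    refine ⟨h1, h2, ?_⟩
    rw [← h3]
    simp [opVal, ← gl_z, mul_assoc]
  | (_ + 1) :: _, [], (_, _, _), r, _, _, h => by simp [trace] at h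
  | (j + 1) :: ops, u :: us, (i, a, n), r, ha, hn, h => by
    simp only [trace] at h
    cases hu : useRes F lim i a (j + 1) u with
    | none => rw [hu] at h; simp at h
    | some q =>
      obtain ⟨k, m, n'⟩ := q
      rw [hu] at h
      dsimp only at h
      obtain ⟨hm', hn', heq⟩ := useRes_sound hF hu
      obtain ⟨h1, h2, h3⟩ := trace_sound hF (s := (k, m, n ++ n')) hm'
        (by rw [isN_append]; exact Bool.and_eq_true_iff.2 ⟨hn, hn'⟩) h
      refine ⟨h1, h2, ?_⟩
      rw [← h3]
      dsimp only at heq ⊢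
      rw [List.map_cons, List.prod_cons, ev_append, opVal, if_neg (Nat.succ_ne_zero j)]
      calc ev n * ev (W i) * ev a * (T ^ (j + 1) * (ops.map opVal).prod)
          = ev n * (ev (W i) * ev a * T ^ (j + 1)) * (ops.map opVal).prod := by group
        _ = _ := by rw [heq]; group

theorem loop_prod {ops : List ℕ} (h : loopOK ops = true) : (ops.map opVal).prod = 1 := by
  simp only [loopOK, Bool.or_eq_true, decide_eq_true_eq, Bool.and_eq_true, List.all_eq_true, Nat.blt_eq,
    Nat.beq_eq] at h
  rcases h with rfl | ⟨h, hs⟩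
  · have := rel_z_t
    simpa [opVal, pow_succ, mul_assoc] using this
  · have e : (ops.map opVal).prod = T ^ ops.sum := by
      clear hs
      induction ops with
      | nil => rfl
      | cons o ops ih =>
        rw [List.map_cons, List.prod_cons, ih fun x hx => h x (List.mem_cons_of_mem _ hx), List.sum_cons,
          pow_add, opVal, if_neg (by have := (h o List.mem_cons_self).1; omega)]
    rw [e, T_pow_mod, hs, pow_zero]

theorem backOps_prod {ops : List ℕ} (h : ∀ x ∈ ops, x < 5) :
    ((backOps ops).map opVal).prod = ((ops.map opVal).prod)⁻¹ := by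
  rw [List.prod_inv_reverse, backOps, List.map_map, List.map_map, ← List.map_reverse]
  refine congrArg List.prod (List.map_congr_left fun x hx => ?_)
  have hx' : x < 5 := h x (List.mem_reverse.1 hx)
  simp only [Function.comp_apply, opVal]
  by_cases h0 : x = 0
  · subst h0
    simp only [if_true]
    refine (inv_eq_of_mul_eq_one_right ?_).symm
    rw [← gl_z, gl_small (by norm_num), ← map_mul, L_z_sq, map_one]
  · rw [if_neg h0, if_neg h0]
    rw [if_neg (by omega)]
    exact eq_inv_of_mul_eq_one_left (by rw [← pow_add, Nat.sub_add_cancel hx'.le, rel_t_five])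

/-- The steps of a loop are small. -/
theorem loop_small {ops : List ℕ} (h : loopOK ops = true) : ∀ x ∈ ops, x < 5 := by
  simp only [loopOK, Bool.or_eq_true, decide_eq_true_eq, Bool.and_eq_true, List.all_eq_true, Nat.blt_eq] at h
  rcases h with rfl | ⟨h, -⟩
  · decide
  · exact fun x hx => (h x hx).2

end CfsgLib.Sporadic.HNCoset
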