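import Cfsg.Agent.Lib.Sporadic.HNCoset.Check

set_option autoImplicit false
set_option maxRecDepth 20000
set_option Elab.async false

/-! Orbit data of the stabilisers, by facts (owner: helper25). -/

namespace CfsgLib.Sporadic.HNCoset

/-- orbit data for representative 1 -/
def stab1 : List (ℕ × List (List (ℕ × Bool)) × List (ℕ × ℕ)) := [
  (8, [[(42,false),(42,false)],
      [(42,false),(48,false)]],
    [(0,0), (1,0), (0,1), (1,1), (2,1), (4,1), (5,1), (6,1), (0,2), (1,2), (4,2), (5,2), (6,2), (0,3), (2,3), (3,3), (4,3), (5,3), (1,4), (4,4), (6,4), (3,5), (0,6), (1,6), (3,6), (0,7), (1,8), (5,8), (1,9), (5,9), (1,10), (4,10), (0,11), (1,11), (6,11), (0,14), (4,14), (1,15), (5,17), (0,19), (0,20), (1,20), (1,21), (1,22), (0,23), (6,23), (1,25), (4,26), (2,43)]),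
  (4, [[(48,true),(42,true),(42,true),(42,true),(42,true),(48,true)],
      [(42,true),(42,true),(48,true),(42,true),(48,true),(42,true),(42,true),(42,true),(42,true),(48,true),(42,false),(48,false)]],
    [(0,0), (1,0), (1,1), (3,1), (2,2), (4,2), (0,3), (1,3), (2,3), (3,3), (0,4), (2,4), (0,5), (1,5), (3,5), (2,7), (1,9), (3,9), (0,10), (2,10), (1,13), (3,13), (1,14), (2,14), (3,14), (4,15), (1,16), (0,17), (2,17), (3,17), (4,17), (0,18), (1,18), (2,21), (3,21), (4,21), (4,22), (0,23), (4,23), (0,25), (4,25)]),
  (20, [[(42,true),(42,true),(42,true),(42,true),(48,true),(42,true),(42,false),(42,false),(42,true),(48,true)]],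
    [(0,0), (1,1), (2,2), (1,3), (0,4)]),
  (12, [[(48,false),(42,false),(42,true),(42,true),(42,false),(48,false),(42,false),(42,false),(42,false),(42,false),(48,false),(42,false),(42,false),(42,false),(42,false),(48,false),(48,true),(42,true),(48,false),(42,false),(42,false),(42,false),(42,false),(48,false),(42,false),(48,false),(42,false),(42,false),(42,true),(42,true),(42,true),(42,true),(48,false),(42,false),(42,true),(42,true),(42,false),(48,false),(42,false),(42,false),(42,false),(42,false),(42,false),(42,false),(42,true),(48,true),(42,false)]],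
    [(0,0), (1,1), (0,2), (1,3)]),
  (16, [[(48,false),(42,false),(42,true),(42,true),(42,false),(48,false),(42,false),(42,false),(42,false),(42,false),(48,false),(42,false),(42,false),(42,false),(42,false),(48,false),(42,true),(42,true),(42,true),(42,true),(48,false),(42,false),(42,false),(42,false),(42,false),(48,false),(48,false),(42,false),(48,false)]],
    [(0,0)])]

/-- orbit data for representative 2 -/
def stab2 : List (ℕ × List (List (ℕ × Bool)) × List (ℕ × ℕ)) := [
  (8, [[(125,false),(102,true)],
      [(102,true),(178,false)]],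
    [(0,0), (1,0), (0,1), (1,1), (2,1), (3,1), (4,1), (0,2), (1,2), (4,2), (0,3), (1,3), (2,3), (4,3), (0,4), (1,4), (2,4), (3,4), (4,4), (0,5), (1,5), (3,5), (0,6), (1,6), (2,6), (3,6), (4,6), (0,7), (1,7), (2,7), (3,7), (0,8), (3,8), (4,8), (0,9), (1,9), (2,9), (3,9), (4,9), (0,10), (2,10), (0,11), (3,11), (4,11), (0,12), (3,12), (4,12), (0,13), (1,13), (3,13), (1,14), (2,14), (3,14), (2,15), (0,16), (3,17), (2,18), (3,18), (0,19), (2,19), (3,19), (0,20), (3,21), (4,22), (4,23), (0,25), (1,26), (3,27), (1,28), (3,30), (4,31), (2,32), (0,33), (2,33), (0,35), (3,35), (0,36), (2,38), (1,43), (1,44), (4,45), (3,46), (1,50)]),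
  (12, [[(178,true),(102,false),(102,false),(125,true),(102,false),(125,true),(102,false),(125,true),(102,false),(125,true),(102,false),(125,true),(102,false),(125,true),(125,true),(102,true),(178,false)]],
    [(0,0), (1,1), (2,1), (0,2)]),
  (16, [[(102,false),(125,true),(102,false),(125,true),(102,false),(125,true),(102,false),(122,false)]],
    [(0,0), (0,1), (1,1), (1,2), (0,4)]),
  (20, [[(102,false),(125,true),(178,true),(102,false),(178,true),(102,false),(125,false),(125,false),(102,true),(125,false),(102,true),(125,false),(102,true),(125,false),(102,true),(125,false),(102,true),(125,false),(102,true),(102,true),(178,false),(122,true),(102,true),(125,false),(102,true),(125,false),(102,true),(125,false),(102,true),(102,false),(102,true),(178,false),(122,false),(122,true)]],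
    [(0,0)])]

/-- orbit data for representative 3 -/
def stab3 : List (ℕ × List (List (ℕ × Bool)) × List (ℕ × ℕ)) := [
  (0, [[(179,false),(185,true)],
      [(199,true),(206,false)],
      [(221,false),(206,true)],
      [(179,false),(185,true),(179,true)]],
    [(0,0), (1,0), (2,0), (3,0), (1,1), (2,1), (3,1), (4,1), (6,1), (7,1), (2,2), (3,2), (0,3), (3,3), (5,3), (0,4), (2,4), (5,4), (1,5), (2,5), (1,6), (8,6), (1,7), (2,7), (8,7), (3,9), (3,11), (1,14), (4,14), (7,14), (2,16)]),
  (8, [[(185,true),(179,true)],
      [(206,true),(199,false),(185,true),(179,true),(199,true),(206,false)]],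
    [(0,0), (1,0), (0,1), (1,1), (2,1), (3,1), (4,1), (5,1), (0,2), (2,2), (1,3), (2,3), (3,3), (4,3), (0,4), (1,4), (3,4), (4,4), (5,4), (1,5), (3,5), (4,5), (5,5), (0,6), (2,6), (3,6), (4,6), (0,7), (5,7), (2,9), (4,9), (5,9), (4,10), (2,11), (4,12), (0,14), (1,20), (0,22), (0,23), (2,24), (3,24)]),
  (20, [[(179,false),(185,false),(206,true),(199,false),(179,false),(185,false),(199,true),(206,false),(185,false),(179,true),(179,false),(185,false),(199,false),(179,true)],
      [(179,false),(185,false),(179,false),(199,true),(185,true),(179,true),(179,false),(185,true),(206,true),(199,false),(185,true),(179,true),(199,true),(206,false),(185,true),(179,true),(206,true),(199,false),(179,false),(185,false),(199,true),(206,false),(179,false),(185,false),(206,true),(185,false)]],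
    [(0,0), (1,0), (1,1), (1,2), (1,3)]),
  (12, [[(179,false),(185,false),(179,false),(185,false),(206,true),(199,false),(179,false),(185,false),(199,true),(206,false),(179,false),(185,false),(185,false),(179,true),(185,false),(206,false)]],
    [(0,0), (0,1), (1,1), (0,2)]),
  (16, [[(206,true),(185,true),(179,false),(185,true),(185,true),(179,true),(206,true),(199,false),(185,true),(179,true),(199,true),(206,false),(185,true),(179,true),(185,true),(179,true),(185,true),(206,false),(185,true),(179,true),(206,true),(199,false),(185,true),(179,true),(199,true),(206,false),(179,false),(185,false),(206,true),(199,false),(179,false),(185,false),(199,true),(206,false),(185,false),(179,true),(179,false),(185,false),(199,false),(179,true),(185,true),(179,true),(179,false),(185,false),(179,false),(185,false),(206,true),(199,false),(179,false),(185,false),(199,true),(206,false),(179,false),(199,true),(185,true),(179,true),(179,false),(185,true),(206,true),(199,false),(185,true),(179,true),(199,true),(206,false),(185,true),(179,true),(185,false),(179,true),(179,false),(199,true),(185,true),(179,true),(179,false),(185,true),(206,true),(199,false),(185,true),(179,true),(199,true),(206,false),(185,true),(179,true),(179,false),(185,false),(179,true),(206,false),(199,true),(206,false)]],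
    [(0,0)])]

/-- orbit data for representative 4 -/
def stab4 : List (ℕ × List (List (ℕ × Bool)) × List (ℕ × ℕ)) := [
  (4, [[(118,true),(132,true)],
      [(166,true),(132,false)],
      [(118,false),(140,true)]],
    [(0,0), (1,0), (2,0), (0,1), (1,1), (2,1), (3,1), (0,2), (2,2), (0,3), (1,3), (2,3), (0,4), (1,4), (2,4), (2,5), (2,8), (0,9), (1,12), (2,12), (1,13), (2,13), (4,16)]),
  (8, [[(132,true),(166,false),(132,false),(118,false),(132,true),(166,false),(118,false),(140,true),(140,false)]],
    [(0,0), (0,1), (1,1), (0,2), (1,2), (0,3), (0,4), (1,4), (0,5), (0,6), (0,8), (0,9), (1,9), (0,10), (1,10), (0,11), (1,11), (0,12), (1,12), (1,14), (0,16), (1,16), (1,18), (0,20), (0,23), (0,24), (0,25), (1,25), (1,26)]),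
  (20, [[(140,true),(140,false),(118,true),(166,true),(132,false),(118,true),(132,true),(166,true),(132,false),(132,false),(118,false),(132,true),(166,false),(118,false),(166,false)]],
    [(0,0)])]

/-- orbit data for representative 5 -/
def stab5 : List (ℕ × List (List (ℕ × Bool)) × List (ℕ × ℕ)) := [
  (4, [[(359,true),(366,true)],
      [(359,true),(366,true),(358,false)]],
    [(0,0), (1,0), (0,1), (1,1), (2,1), (3,1), (0,2), (1,2), (3,2), (0,3), (1,3), (0,4), (1,4), (2,4), (3,4), (0,5), (1,5), (3,5), (0,6), (1,6), (2,6), (0,7), (2,7), (0,8), (3,8), (2,9), (0,10), (1,10), (2,10), (3,10), (0,11), (1,11), (0,12), (2,12), (1,13), (3,13), (0,14), (0,15), (1,15), (2,16), (0,18), (0,20), (1,20), (1,21), (1,22), (1,25), (0,26), (0,30), (2,31)]),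
  (8, [[(366,false),(359,false),(99,true),(356,false)],
      [(356,true),(359,true),(366,true)]],
    [(0,0), (1,0), (1,1), (0,2), (0,3), (1,4), (1,5), (0,6), (0,7)])]

/-- orbit data for representative 6 -/
def stab6 : List (ℕ × List (List (ℕ × Bool)) × List (ℕ × ℕ)) := [
  (8, [[(333,false),(333,false)],
      [(333,false),(342,false)],
      [(333,false),(344,false)]],
    [(0,0), (1,0), (2,0), (0,1), (1,1), (2,1), (3,1), (0,2), (2,2), (3,2), (0,3), (1,3), (2,3), (3,3), (1,4), (2,4), (3,4), (0,5), (2,5), (3,5), (0,6), (1,6), (2,6), (3,6), (0,7), (1,7), (2,7), (0,8), (1,8), (3,8), (0,9), (1,9), (2,9), (3,9), (0,10), (1,10), (2,10), (0,11), (1,11), (3,11), (0,12), (0,13), (1,13), (2,13), (3,13), (1,14), (2,15), (3,15), (0,16), (2,16), (1,17), (2,17), (0,18), (1,18), (0,19), (1,19), (2,19), (0,20), (1,20), (0,21), (1,21), (0,22), (2,22), (0,23), (3,23), (2,24), (0,25), (1,25), (2,25), (2,26), (3,26), (0,27), (1,27), (1,28), (3,28), (0,29), (2,29), (1,30), (2,30), (3,31), (0,32), (2,32), (2,33), (3,33), (2,34), (3,35), (2,36), (0,37), (2,37), (1,38),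 (0,39), (2,39), (2,40), (3,41), (3,42), (2,44), (3,44), (2,45), (3,46), (0,47), (2,47), (0,49), (1,50), (3,50), (1,52), (3,52), (2,54), (0,55), (1,55), (3,57), (2,58), (2,59), (3,59), (2,68), (2,69), (0,74), (2,78), (0,79), (1,79)]),
  (20, [[(344,true),(333,true),(344,true),(333,true),(342,true),(333,true),(342,false),(333,false)]],
    [(0,0)])]

/-- orbit data for representative 7 -/
def stab7 : List (ℕ × List (List (ℕ × Bool)) × List (ℕ × ℕ)) := [
  (0, [[(339,true),(343,true)],
      [(339,false),(151,true)]],
    [(0,0), (1,0), (0,1), (1,1), (2,1), (0,2), (1,2), (2,2), (3,2), (0,3), (2,3), (3,3), (1,4), (0,5), (1,5), (0,6), (1,6), (0,7), (1,7), (2,7), (0,8), (1,8), (3,8), (1,9), (0,10), (2,10), (3,10), (0,11), (1,11), (0,12), (1,12), (1,13), (2,13), (3,13), (0,14), (1,14), (0,15), (1,15), (2,15), (3,15), (0,16), (2,16), (1,17), (3,17), (0,18), (1,18), (3,18), (1,19), (2,19), (1,20), (2,21), (3,21), (1,22), (2,22), (0,23), (1,23), (2,24), (3,24), (0,25), (3,25), (0,26), (1,26), (0,27), (1,27), (1,28), (2,28), (3,28), (0,29), (1,29), (2,29),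 (0,30), (1,30), (0,31), (3,31), (0,33), (1,33), (0,37), (1,37), (0,38), (1,38), (0,39), (3,39), (1,40), (0,41), (3,41), (0,42), (1,42), (0,43), (2,43), (1,44), (2,45), (3,45), (1,47), (1,48), (3,48), (0,49), (0,50), (1,50), (0,51), (1,51), (1,52), (0,53), (2,53), (3,53), (0,55), (1,56), (3,56), (3,57), (3,59), (1,60), (1,61), (0,62), (1,62), (2,62), (1,63), (0,64), (1,67), (0,68), (1,68), (0,69), (1,70), (1,72), (1,74), (1,76), (0,77), (2,77), (1,78), (1,80), (3,81), (1,82), (3,83), (0,84), (1,86), (0,87), (3,87), (0,88), (3,88), (1,89), (1,91), (3,93), (0,94), (1,97), (0,98), (1,99), (3,101), (0,102), (1,107), (1,108), (3,110), (1,112), (1,113), (0,118), (0,124), (3,124), (2,127), (0,134), (0,138), (1,145), (1,151)]),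
  (8, [[(151,true),(151,false),(151,false)]],
    [(0,0)]),
  (4, [[(343,false),(339,false),(151,false),(339,true),(343,false),(339,false),(151,true)]],
    [(0,0)])]

/-- orbit data for representative 8 -/
def stab8 : List (ℕ × List (List (ℕ × Bool)) × List (ℕ × ℕ)) := [
  (0, [[(367,true),(364,false)],
      [(360,true),(363,true)]],
    [(0,0), (1,0), (0,1), (1,1), (2,1), (3,1), (4,1), (0,2), (1,2), (2,2), (3,2), (0,3), (1,3), (2,3), (3,3), (1,4), (2,4), (3,4), (4,4), (0,5), (1,5), (2,5), (3,5), (0,6), (1,6), (2,6), (3,6), (0,7), (1,7), (2,7), (3,7), (0,8), (1,8), (2,8), (3,8), (4,8), (0,9), (1,9), (2,9), (3,9), (4,9), (0,10), (1,10), (2,10), (3,10), (4,10), (0,11), (1,11), (2,11), (3,11), (4,11), (1,12), (2,12), (3,12), (4,12), (0,13), (1,13), (2,13), (3,13), (4,13), (0,14), (1,14), (2,14), (3,14), (4,14), (0,15), (1,15), (2,15), (3,15), (4,15), (0,16), (1,16), (2,16), (3,16), (0,17), (1,17), (2,17), (3,17), (4,17), (0,18), (1,18), (2,18), (0,19), (1,19), (0,20), (1,20), (2,20), (3,20), (4,20), (1,21), (2,21), (4,21), (0,22), (1,22), (0,23),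 (1,23), (3,23), (0,24), (1,24), (2,24), (3,24), (4,24), (0,25), (1,25), (2,25), (4,25), (0,26), (0,27), (1,27), (1,28), (0,29), (1,29), (2,29), (3,29), (0,30), (0,31), (1,32), (2,32), (3,32), (0,33), (1,33), (2,33), (4,33), (0,34), (1,34), (2,34), (3,34), (4,34), (0,35), (2,35), (3,35), (1,36), (2,36), (0,37), (1,37), (2,37), (3,37), (4,37), (0,38), (1,38), (2,38), (3,38), (4,38), (0,39), (1,39), (2,39), (0,40), (2,40), (3,40), (0,41), (1,41), (2,41), (3,41), (0,42), (1,42), (2,42), (3,42), (4,42), (0,43), (1,43), (2,43), (3,43), (0,44), (1,44), (4,44), (0,45), (1,45), (3,46), (0,47), (1,47), (2,47), (0,48), (3,48), (1,49), (4,49), (0,51), (1,51), (0,52), (1,52), (2,52), (3,52), (4,52), (0,53), (1,53), (3,53), (4,53), (0,54), (1,54), (3,54), (4,54), (0,55), (1,55), (3,55), (0,56), (1,56), (2,56), (3,56), (4,56), (0,57), (1,57), (4,57), (0,58), (2,58), (4,58), (0,59), (1,59), (2,59), (3,59), (1,60), (2,60), (0,61), (2,61), (3,61), (4,61), (0,62), (1,62), (2,62), (1,63), (4,63), (0,64), (1,64), (0,65), (0,66), (1,66), (4,66), (0,67), (1,67), (0,68),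 (0,69), (1,70), (0,71), (1,71), (2,71), (3,71), (0,72), (1,72), (2,72), (3,72), (4,72), (0,73), (1,73), (2,73), (0,74), (1,74), (3,74), (0,75), (2,75), (3,75), (4,75), (0,76), (1,76), (0,77), (1,77), (0,78), (4,78), (0,79), (2,80), (4,80), (0,81), (1,81), (2,81), (3,81), (1,83), (2,83), (4,83), (0,84), (0,85), (1,85), (2,85), (3,85), (1,86), (2,86), (3,86), (4,86), (0,87), (1,87), (2,87), (3,87), (4,87), (2,88), (3,88), (4,88), (0,89), (1,89), (3,89), (0,90), (1,90), (2,90), (4,90), (1,91), (2,91), (3,91), (4,91), (0,92), (1,92), (0,93), (1,93), (2,93), (3,93), (0,94), (1,94), (2,94), (1,95), (2,95), (1,96), (2,96), (3,96), (0,97), (0,98), (1,98), (2,98), (1,99), (2,99), (3,99), (1,100), (4,100), (0,101), (0,102), (1,102), (1,103), (2,103), (3,103), (0,104), (2,104), (4,104), (0,105), (2,105), (3,105), (4,105), (0,106), (1,106), (3,106), (0,107), (1,107), (0,108), (1,108), (2,108), (3,108), (4,108), (0,109), (1,109), (2,109), (3,109), (1,110), (2,110), (0,111), (2,111), (0,112), (2,112), (3,112), (2,113), (3,113), (4,113), (0,114), (1,114), (2,114),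 (1,115), (4,115), (4,116), (0,117), (1,117), (2,117), (3,117), (4,117), (2,118), (4,118), (0,119), (2,119), (3,119), (4,119), (0,120), (1,120), (2,120), (3,120), (4,120), (0,121), (1,121), (3,121), (4,121), (0,122), (1,122), (2,122), (3,122), (4,122), (0,123), (1,123), (2,123), (3,123), (1,124), (2,124), (3,124), (4,124), (0,125), (1,125), (2,125), (3,125), (0,126), (1,126), (4,126), (0,127), (1,127), (4,127), (0,129), (0,130), (1,131), (0,132), (1,132), (2,132), (3,132), (0,134), (1,134), (2,135), (3,135), (4,135), (0,136), (1,136), (3,136), (4,136), (0,137), (1,137), (2,137), (3,137), (4,137), (0,138), (1,138), (2,138), (3,138), (0,139), (1,139), (2,139), (3,139), (4,139), (0,140), (1,140), (3,140), (4,140), (0,141), (2,141), (3,141), (4,141), (0,142), (1,142), (2,142), (3,142), (4,142), (0,143), (1,143), (2,143), (3,143), (0,144), (2,144), (3,144), (0,145), (1,145), (2,145), (3,145), (4,145), (0,146), (1,146), (3,146), (0,147), (2,147), (3,147), (4,147), (0,148), (1,148), (4,148), (0,149), (1,149), (4,149), (1,150), (2,150), (3,150), (4,150),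 (0,151), (1,151), (3,151), (0,152), (0,153), (0,154), (2,154), (3,154), (0,155), (1,155), (0,156), (1,156), (3,156), (0,157), (1,157), (0,158), (3,158), (0,159), (2,159), (0,160), (1,160), (2,160), (1,161), (0,162), (3,162), (1,163), (2,163), (3,163), (1,164), (2,164), (3,164), (4,164), (0,165), (1,166), (3,166), (4,166), (1,167), (4,167), (0,168), (3,169), (4,169), (0,170), (1,170), (2,170), (3,170), (4,170), (0,171), (1,171), (3,171), (1,172), (2,172), (0,173), (1,173), (0,174), (2,174), (4,174), (0,175), (1,176), (2,176), (0,177), (3,177), (3,178), (4,178), (0,179), (1,179), (2,179), (0,180), (1,181), (1,182), (2,182), (3,183), (1,184), (2,184), (4,184), (0,185), (4,188), (1,190), (1,194), (2,194), (0,195), (3,195), (4,195), (2,196), (1,197), (4,197), (2,198), (2,199), (3,199), (0,200), (1,200), (4,200), (0,201), (3,202), (0,203), (1,203), (3,204), (0,206), (1,206), (0,207), (4,207), (0,208), (1,208), (0,209), (1,209), (2,209), (3,209), (2,210), (2,211), (1,214), (0,215), (3,215), (0,216), (0,220), (2,221), (2,222), (0,224), (0,226), (2,226),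 (3,226), (0,227), (0,229), (4,229), (1,230), (2,230), (0,231), (3,231), (2,232), (3,232), (4,232), (0,233), (1,233), (2,233), (3,233), (4,233), (1,234), (2,234), (3,234), (4,234), (0,235), (1,235), (2,235), (4,235), (0,236), (1,236), (2,236), (3,236), (4,236), (0,238), (3,238), (2,240), (3,240), (4,240), (0,241), (1,241), (0,242), (1,242), (1,243), (2,243), (3,243), (4,243), (1,244), (0,245), (0,246), (4,246), (0,248), (1,248), (3,248), (1,250), (1,251), (3,251), (0,252), (2,252), (3,252), (4,252), (1,253), (0,254), (1,254), (2,254), (0,255), (2,256), (3,256), (3,257), (2,258), (0,259), (1,259), (2,259), (0,260), (1,260), (3,260), (2,261), (4,261), (0,262), (1,262), (2,262), (1,263), (3,263), (0,264), (3,264), (2,266), (4,266), (4,267), (1,269), (0,270), (0,271), (2,271), (2,272), (3,272), (4,273), (1,274), (2,274), (1,276), (2,276), (1,280), (1,286), (2,286), (0,287), (1,287), (3,287), (4,287), (0,288), (3,288), (3,289), (0,291), (1,291), (4,291), (0,292), (1,292), (1,294), (2,294), (0,295), (1,295), (1,297), (3,300), (0,301), (4,302), (2,303),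 (1,304), (0,305), (1,305), (3,305), (4,305), (2,306), (3,306), (2,307), (1,309), (4,309), (2,310), (0,312), (1,313), (2,313), (4,313), (0,314), (1,314), (0,315), (1,315), (2,315), (1,318), (1,319), (2,319), (0,320), (1,320), (2,322), (2,323), (3,323), (0,324), (1,324), (0,325), (1,325), (3,325), (3,326), (1,327), (3,327), (4,327), (0,328), (1,328), (2,329), (0,331), (2,331), (1,339), (1,340), (2,340), (3,340), (1,341), (0,342), (0,344), (1,344), (2,345), (2,348), (3,348), (1,349), (0,350), (0,351), (1,351), (0,352), (1,352), (3,353), (2,354), (0,355), (2,357), (2,360), (3,360), (4,360), (0,361), (1,361), (4,361), (0,362), (2,362), (0,363), (0,364), (1,364), (2,364), (1,365), (4,365), (0,366), (3,366), (2,367), (1,370), (0,371), (1,373), (2,373), (3,373), (4,373), (0,374), (1,374), (2,374), (4,374), (1,375), (2,375), (1,376), (2,376), (3,376), (0,377), (1,377), (3,377), (4,377), (0,379), (2,380), (3,380), (0,381), (1,381), (4,381), (0,382), (1,382), (3,382), (0,383), (4,383), (0,384), (0,386), (1,386), (0,387), (0,388), (0,390), (1,390), (0,391),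 (1,391), (3,397), (4,397), (1,398), (0,399), (1,399), (1,400), (2,400), (1,401), (0,405), (1,406), (2,406), (3,406), (4,406), (1,407), (0,408), (0,409), (2,410), (3,410), (4,410), (0,411), (1,411), (0,412), (1,412), (0,413), (1,413), (0,415), (2,415), (3,415), (4,415), (0,416), (3,416), (4,416), (0,417), (1,417), (2,417), (3,417), (4,417), (0,418), (3,418), (1,419), (4,419), (0,420), (1,420), (2,420), (3,420), (4,420), (4,421), (1,422), (4,422), (0,423), (1,423), (1,424), (3,424), (0,425), (0,426), (2,426), (0,428), (1,428), (2,429), (3,429), (1,430), (2,430), (4,430), (1,431), (1,432), (1,433), (2,433), (3,433), (1,434), (2,434), (3,434), (0,435), (2,435), (0,436), (1,436), (0,438), (2,439), (0,441), (3,441), (4,441), (1,443), (0,444), (4,444), (1,446), (3,446), (1,447), (0,450), (0,451), (1,451), (4,451), (1,452), (3,452), (4,452), (2,453), (4,453), (1,454), (1,455), (2,455), (0,457), (0,458), (2,458), (3,458), (1,460), (2,462), (0,463), (1,463), (2,464), (3,464), (0,466), (1,466), (0,467), (2,468), (0,469), (1,469), (0,470), (0,472), (1,472),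 (3,472), (1,473), (2,473), (4,473), (2,474), (2,475), (1,476), (2,476), (2,478), (2,479), (3,479), (0,481), (1,481), (4,481), (0,482), (4,482), (3,485), (4,485), (0,486), (1,486), (3,486), (2,488), (3,488), (1,489), (0,491), (3,492), (2,494), (0,496), (2,500), (3,500), (0,503), (1,503), (2,503), (3,503), (4,503), (2,504), (2,505), (0,506), (1,506), (2,507), (2,508), (4,508), (2,509), (3,509), (3,510), (0,511), (1,511), (2,511), (3,511), (4,511), (1,512), (0,513), (3,513), (2,516), (0,517), (3,518), (0,519), (1,519), (0,520), (2,521), (3,521), (0,523), (0,525), (3,525), (3,526), (2,531), (3,531), (0,534), (2,534), (3,534), (4,534), (2,538), (0,539), (1,539), (2,541), (0,543), (0,544), (1,552), (0,556), (0,557), (1,557), (0,558), (1,561), (2,561), (4,561), (0,562), (1,562), (0,563), (1,564), (2,564), (0,565), (1,565), (2,566), (3,566), (2,568), (1,569), (0,570), (3,571), (0,572), (1,572), (3,577), (0,578), (1,578), (0,579), (1,581), (2,584), (2,586), (3,586), (3,588), (2,594), (0,597), (2,599), (0,600), (1,600), (0,602), (3,604), (4,604), (1,606),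 (0,607), (1,607), (3,608), (0,609), (2,609), (1,612), (0,613), (2,614), (1,617), (2,617), (0,618), (1,618), (2,618), (3,618), (4,618), (3,619), (2,620), (3,620), (1,621), (3,621), (0,623), (0,624), (3,624), (1,625), (3,626), (1,628), (4,628), (2,629), (1,632), (1,633), (2,634), (1,635), (2,636), (2,637), (2,639), (3,639), (0,643), (3,646), (0,649), (1,649), (3,649), (4,649), (0,650), (2,651), (3,653), (1,656), (3,659), (4,661), (1,662), (0,664), (0,668), (1,672), (2,676), (2,678), (0,680), (1,680), (0,681), (1,681), (2,683), (1,685), (0,689), (1,691), (2,694), (3,694), (0,695), (0,696), (1,701), (2,708), (2,710), (2,712), (3,712), (1,715), (2,715), (0,717), (1,717), (2,722), (0,724), (1,724), (2,734), (0,737), (4,737), (1,738), (3,738), (4,738), (2,739), (0,740), (2,741), (0,742), (1,742), (2,748), (1,749), (0,750), (2,751), (0,752), (1,760), (0,761), (1,763), (2,765), (3,765), (1,767), (3,768), (1,769), (2,772), (3,774), (1,775), (2,775), (2,776), (1,778), (0,779), (2,780), (1,784), (4,793), (1,794), (0,795), (1,797), (0,798), (1,798), (2,798),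 (2,803), (1,806), (2,807), (1,809), (3,811), (1,812), (3,813), (1,814), (1,815), (2,816), (1,817), (2,821), (3,822), (2,825), (3,825), (1,829), (0,832), (3,832), (1,834), (0,837), (3,837), (2,838), (0,840), (3,840), (1,841), (0,843), (2,845), (0,847), (2,848), (4,849), (1,850), (0,852), (1,852), (1,854), (3,855), (1,857), (3,858), (0,862), (1,864), (0,869), (1,870), (0,871), (4,871), (0,874), (2,874), (3,874), (3,875), (1,879), (1,888), (3,888), (2,893), (2,894), (2,895), (2,896), (2,897), (0,899), (0,900), (2,900), (1,903), (1,904), (2,904), (2,916), (3,920), (0,922), (1,931), (1,933), (1,935), (2,940), (3,941), (3,945), (4,945), (4,948), (1,957), (1,965), (0,966), (1,976), (2,979), (2,992), (0,994), (1,994), (0,996), (2,997), (0,1004), (3,1015), (1,1020), (1,1030), (1,1040), (2,1061), (2,1073), (2,1077), (4,1077), (0,1078), (4,1078), (3,1088), (0,1111), (4,1113), (0,1164)]),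
  (16, [[(364,true),(367,false),(364,true),(367,false),(364,true),(363,false)],
      [(364,true),(367,false),(364,true),(367,false),(370,true),(355,false)]],
    [(0,0), (1,0), (0,1), (1,1), (2,1), (0,2), (1,2), (2,2), (2,3), (1,5), (2,6)]),
  (20, [[(363,true),(364,false),(367,true),(364,false),(367,true),(364,false),(364,true),(367,false),(363,true),(364,false),(367,true),(364,false),(367,true),(364,false),(363,true),(364,false),(367,true),(364,false),(367,true),(364,false),(364,true),(367,false),(363,true),(364,false),(367,true),(364,false),(367,true),(364,false),(363,false),(360,false),(363,true),(364,false),(367,true),(364,false),(367,true),(364,false),(367,false),(369,false)]],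
    [(0,0)])]

/-- all orbit data -/
def stabs : List (List (ℕ × List (List (ℕ × Bool)) × List (ℕ × ℕ))) := [[], stab1, stab2, stab3, stab4, stab5, stab6, stab7, stab8]

/-- the orders -/
def stabOrders : List ℕ := [177408000, 126000, 5040, 80640, 1440, 500, 240, 640, 30720]

end CfsgLib.Sporadic.HNCoset
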