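import Cfsg.Agent.Lib.Sporadic.HNCoset.StabData
import Cfsg.Agent.Lib.Sporadic.HNCoset.Facts

set_option autoImplicit false
set_option maxRecDepth 20000
set_option Elab.async false

/-! Fast checks of levels (owner: helper25). -/

namespace CfsgLib.Sporadic.HNCoset

open CfsgLib.Sporadic

/-- a word of stabilising facts -/
noncomputable def stabWord (i : ℕ) (h : List (ℕ × Bool)) : List ℕ :=
  match hPair facts facts.length i h with
  | some r => r.1
  | none => [6]

/-- the orbit data of a stabiliser as levels -/
noncomputable def stabLvls (i : ℕ) : List Lvl :=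
  (stabs.getD i []).map fun d => ⟨d.1, d.2.1.map (stabWord i), d.2.2⟩

/-- the check for one stabiliser -/
noncomputable def stabOK (i : ℕ) : Bool :=
  lvlsOK (stabLvls i) && (((gensOf (stabLvls i)).all isN) &&
    Nat.beq (orbitProd (stabLvls i)) (stabOrders.getD i 0))

/-- the value, forced before use -/
noncomputable def forceV {α : Type} (v : ℕ) (k : ℕ → α) : α :=
  Nat.rec (motive := fun _ => α) (k 0) (fun q _ => k (Nat.succ q)) v

theorem forceV_eq {α : Type} (v : ℕ) (k : ℕ → α) : forceV v k = k v := by cases v <;> rfl

/-- the orbit of a level with every point computed once -/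
noncomputable def orbFast (g : List (List ℕ)) (b : ℕ) (tree : List (ℕ × ℕ)) : List ℕ → ℕ → ℕ → Bool :=
  List.rec (motive := fun _ => List ℕ → ℕ → ℕ → Bool) (fun _ _ _ => true)
    (fun e _ ih rev n seen => Nat.blt e.2 n &&
      forceV (sWord (g.getD e.1 []) (rev.getD (Nat.sub (Nat.sub n 1) e.2) b)) fun v =>
        !(Nat.testBit seen v) && forceV (Nat.lor seen (2 ^ v)) fun s => forceV (Nat.succ n) fun n' => ih (v :: rev) n' s)
    tree

theorem distinct_of_nodup : ∀ {l : List ℕ} {seen : ℕ}, l.Nodup → (∀ a ∈ l, Nat.testBit seen a = false) →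
    distinct l seen = true
  | [], _, _, _ => rfl
  | a :: l, seen, hn, hs => by
    rw [List.nodup_cons] at hn
    simp only [distinct, hs a List.mem_cons_self, Bool.not_false, Bool.true_and]
    refine distinct_of_nodup hn.2 fun x hx => ?_
    rw [Nat.testBit_or, hs x (List.mem_cons_of_mem _ hx), Nat.testBit_two_pow_of_ne, Bool.false_or]
    rintro rfl
    exact hn.1 hx

theorem orbFast_sound (g : List (List ℕ)) (b : ℕ) : ∀ (tree : List (ℕ × ℕ)) (pts : List ℕ) (seen : ℕ),
    pts.Nodup → (∀ a, Nat.testBit seen a = true ↔ a ∈ pts) →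
    orbFast g b tree pts.reverse pts.length seen = true →
    (tree.foldl (fun pts e => pts ++ [sWord (g.getD e.1 []) (pts.getD e.2 b)]) pts).Nodup
  | [], _, _, hn, _, _ => hn
  | e :: tree, pts, seen, hn, hs, h => by
    have h' : (Nat.blt e.2 pts.length &&
      forceV (sWord (g.getD e.1 []) (pts.reverse.getD (Nat.sub (Nat.sub pts.length 1) e.2) b)) fun v =>
        !(Nat.testBit seen v) && forceV (Nat.lor seen (2 ^ v)) fun s => forceV (Nat.succ pts.length) fun n' =>
          orbFast g b tree (v :: pts.reverse) n' s) = true := h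
    simp only [forceV_eq, Bool.and_eq_true, Nat.blt_eq, Bool.not_eq_true'] at h'
    obtain ⟨he, hv, hrest⟩ := h'
    have hget : pts.reverse.getD (Nat.sub (Nat.sub pts.length 1) e.2) b = pts.getD e.2 b := by
      show pts.reverse.getD (pts.length - 1 - e.2) b = _
      rw [List.getD_eq_getElem _ _ (by simp; omega), List.getD_eq_getElem _ _ he, List.getElem_reverse]
      congr 1
      omega
    rw [hget] at hv hrest
    rw [List.foldl_cons]
    refine orbFast_sound g b tree _ (seen ||| 2 ^ sWord (g.getD e.1 []) (pts.getD e.2 b)) ?_ ?_ ?_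
    · rw [List.nodup_append]
      refine ⟨hn, List.nodup_singleton _, ?_⟩
      intro x hx y hy hxy
      rw [List.mem_singleton] at hy
      subst hy hxy
      rw [(hs _).2 hx] at hv
      exact absurd hv (by simp)
    · intro a
      rw [Nat.testBit_or, Bool.or_eq_true, hs, List.mem_append, List.mem_singleton]
      refine or_congr Iff.rfl ?_
      rw [Nat.testBit_two_pow, decide_eq_true_eq]
      exact eq_comm
    · rw [List.reverse_append, List.reverse_singleton, List.singleton_append, List.length_append, List.length_singleton]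
      exact hrest

/-- the fast check of a list of levels -/
noncomputable def lvlsFast : List Lvl → Bool
  | [] => true
  | l :: ls => Nat.blt l.base 1408 && ((gensOf ls).all (fun w => Nat.beq (sWord w l.base) l.base) &&
      (orbFast (l.gens ++ gensOf ls) l.base l.tree [l.base] 1 (2 ^ l.base) && lvlsFast ls))

theorem lvlsFast_sound : ∀ {ls : List Lvl}, lvlsFast ls = true → lvlsOK ls = true
  | [], _ => rfl
  | l :: ls, h => by
    simp only [lvlsFast, Bool.and_eq_true] at h
    obtain ⟨h1, h2, h3, h4⟩ := h
    simp only [lvlsOK, Bool.and_eq_true]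
    refine ⟨h1, h2, ?_, lvlsFast_sound h4⟩
    refine distinct_of_nodup (orbFast_sound _ _ _ [l.base] (2 ^ l.base) (List.nodup_singleton _) ?_ h3) (by simp)
    intro a
    rw [Nat.testBit_two_pow, decide_eq_true_eq, List.mem_singleton, eq_comm]

/-- the fast check for one stabiliser -/
noncomputable def stabFast (i : ℕ) : Bool :=
  lvlsFast (stabLvls i) && (((gensOf (stabLvls i)).all isN) &&
    Nat.beq (orbitProd (stabLvls i)) (stabOrders.getD i 0))

theorem stabFast_sound {i : ℕ} (h : stabFast i = true) : stabOK i = true := by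
  simp only [stabFast, Bool.and_eq_true] at h
  simp only [stabOK, Bool.and_eq_true]
  exact ⟨lvlsFast_sound h.1, h.2⟩

end CfsgLib.Sporadic.HNCoset
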